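import Cfsg.Agent.Lib.MTwentyTwoUnique.Hyp
import Cfsg.Agent.Lib.MathieuNSE.TwentyTwo
import Cfsg.Agent.Lib.MathieuBlocks.M22

/-!
The concrete Mathieu group of degree 22 has the local facts at 5, 7 and 11.
-/

set_option autoImplicit false
set_option linter.style.haveILetI false

noncomputable section

namespace CfsgLib.MTwentyTwoUnique

open Subgroup Cfsg CfsgLib.Golay CfsgLib.MathieuBlocks CfsgLib.M24Cert

/-- The normaliser of a subgroup of prime order from its centraliser, by Sylow's congruence. -/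
theorem card_normalizer_of_centralizer {G : Type*} [Group G] [Finite G] {p c N : ℕ} [Fact p.Prime]
    (hG : (Nat.card G).factorization p = 1) {x : G} (hx : orderOf x = p)
    (hc : Nat.card (centralizer ({x} : Set G)) = c)
    (key : ∀ d ∈ Nat.divisors ((p - 1) * c), c ∣ d → ∀ n ∈ Nat.divisors (Nat.card G),
      n * d = Nat.card G → n % p = 1 → d = N) :
    Nat.card (normalizer ((zpowers x : Subgroup G) : Set G)) = N := by
  have hp : IsPGroup p (zpowers x) := IsPGroup.of_card (n := 1) (by rw [Nat.card_zpowers, hx, pow_one])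
  obtain ⟨P, hP⟩ := hp.exists_le_sylow
  have hPx : (P : Subgroup G) = zpowers x :=
    (eq_of_le_of_card_ge hP (by rw [P.card_eq_multiplicity, hG, pow_one, Nat.card_zpowers, hx])).symm
  have hPc : Nat.card (P : Subgroup G) = p := by rw [hPx, Nat.card_zpowers, hx]
  have hC : Nat.card (centralizer ((P : Subgroup G) : Set G)) = c := by
    rw [hPx, zpowers_eq_closure, centralizer_closure, hc]
  have h1 := CfsgLib.SmallGroups.card_normalizer_dvd_of_card_prime (p := p) hPc
  have h2 := card_dvd_of_le (CfsgLib.SmallGroups.centralizer_le_normalizer' (P : Subgroup G))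
  rw [hC] at h1 h2
  rw [← hPx]
  have hc0 : (p - 1) * c ≠ 0 := Nat.mul_ne_zero (by have := (Fact.out : p.Prime).two_le; omega)
    (hc ▸ Nat.card_pos.ne')
  have hn := CfsgLib.SmallGroups.card_sylow_mul_card_normalizer P
  exact key _ (Nat.mem_divisors.2 ⟨h1, hc0⟩) h2 _ (Nat.mem_divisors.2 ⟨Dvd.intro _ hn, Nat.card_pos.ne'⟩) hn
    CfsgLib.SmallGroups.mod_eq_one_card_sylow

theorem factorization_one {n p m : ℕ} (hp : p.Prime) (hn : n = p ^ 1 * m) (hm : ¬ p ∣ m) :
    n.factorization p = 1 := by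
  have hm0 : m ≠ 0 := fun h => hm (h ▸ dvd_zero p)
  rw [hn, Nat.factorization_mul (pow_ne_zero _ hp.ne_zero) hm0, Finsupp.add_apply,
    Nat.Prime.factorization_pow hp, Finsupp.single_eq_same, Nat.factorization_eq_zero_of_not_dvd hm]

theorem m22_eleven {x : ↥Cfsg.Spor.M22} (hx : orderOf x = 11) :
    Nat.card (centralizer ({x} : Set ↥Cfsg.Spor.M22)) = 11 := by
  obtain ⟨e₁⟩ := sporM22_equiv
  let e : ↥Cfsg.Spor.M22 ≃* ↥M22Idx.grp := e₁.trans (MonoidHom.ofInjective M22Idx.twoHom_injective)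
  haveI := sporM22_simple
  haveI : IsSimpleGroup M22Idx.grp := e.symm.isSimpleGroup
  have htr : ∀ a b : Fin 22, ∃ g ∈ M22Idx.grp, g a = b := fun a b => by
    haveI := M22Idx.grp_pretransitive (i := 1) (by norm_num)
    haveI : MulAction.IsPretransitive M22Idx.grp (Fin 22) := MulAction.is_one_pretransitive_iff.1 this
    obtain ⟨g, hg⟩ := MulAction.exists_smul_eq M22Idx.grp a b
    exact ⟨g, g.2, hg⟩
  rw [← CfsgLib.MathieuNSE.Eleven.centralizer_perm (Fintype.card_fin 22) M22Idx.grp M22Idx.card_grp htr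
    (x := e x) (by rw [MulEquiv.orderOf_eq, hx])]
  refine Nat.card_congr (e.toEquiv.subtypeEquiv fun g => ?_)
  show g ∈ centralizer ({x} : Set ↥Cfsg.Spor.M22) ↔ e g ∈ centralizer ({e x} : Set M22Idx.grp)
  rw [mem_centralizer_singleton_iff, mem_centralizer_singleton_iff, ← map_mul, ← map_mul, e.injective.eq_iff]

theorem moved_dvd {x y : Equiv.Perm GolayPt} (hx : x ^ 7 = 1) (hxy : x * y = y * x) :
    (Finset.univ.filter fun p => y p = p).card % 7 =
      (Finset.univ.filter fun p => y p = p ∧ x p = p).card % 7 := by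
  classical
  haveI : Fact (Nat.Prime 7) := ⟨by norm_num⟩
  have hp : ∀ p : GolayPt, y (x p) = x p ↔ y p = p := fun p => by
    rw [← Equiv.Perm.mul_apply, ← hxy, Equiv.Perm.mul_apply, x.injective.eq_iff]
  let σ : Equiv.Perm {p : GolayPt // y p = p} := x.subtypePerm hp
  have hσ : σ ^ 7 ^ 1 = 1 := by
    rw [pow_one, Equiv.Perm.subtypePerm_pow]
    ext p
    simp only [Equiv.Perm.subtypePerm_apply, hx, Equiv.Perm.one_apply]
  have h := Equiv.Perm.card_compl_support_modEq hσ
  rw [Nat.ModEq, Fintype.card_subtype] at h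
  rw [← h]
  congr 1
  refine Finset.card_bij (fun p _ => p.1) (fun p hp => ?_) (fun a _ b _ e => Subtype.ext e) fun p hp => ?_
  · simp only [Finset.mem_compl, Equiv.Perm.mem_support, not_not, σ, Equiv.Perm.subtypePerm_apply,
      Subtype.ext_iff] at hp
    exact Finset.mem_filter.2 ⟨Finset.mem_univ _, p.2, hp⟩
  · obtain ⟨-, h1, h2⟩ := Finset.mem_filter.1 hp
    exact ⟨⟨p, h1⟩, by simpa [σ, Equiv.Perm.subtypePerm_apply, Subtype.ext_iff] using h2, rfl⟩

theorem m22_seven {x : ↥Cfsg.Spor.M22} (hx : orderOf x = 7) :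
    Nat.card (centralizer ({x} : Set ↥Cfsg.Spor.M22)) = 7 := by
  classical
  haveI : Fact (Nat.Prime 7) := ⟨by norm_num⟩
  set σ : Equiv.Perm GolayPt := (x : Equiv.Perm GolayPt) with hσdef
  have hσ : orderOf σ = 7 := by rw [hσdef, Subgroup.orderOf_coe, hx]
  have hσ7 : σ ^ 7 = 1 := hσ ▸ pow_orderOf_eq_one σ
  have hσ1 : σ ≠ 1 := fun h => by rw [h, orderOf_one] at hσ; norm_num at hσ
  have hf2 := two_le_fixed x.2
  have hf8 := fixed_le_eight (m22_le x.2) hσ1
  have hfixx : (Finset.univ.filter fun p => σ p = p).card = 3 := by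
    have h := moved_dvd (y := 1) hσ7 (by simp)
    simp only [Equiv.Perm.one_apply, Finset.filter_true, true_and, Finset.card_univ] at h
    rw [Fintype.card_congr ptEquiv, Fintype.card_fin] at h
    rw [← hσdef] at hf2 hf8
    omega
  set C := centralizer ({x} : Set ↥Cfsg.Spor.M22)
  have hdC : Nat.card C ∣ 443520 := card_sporM22 ▸ C.card_subgroup_dvd_card
  have h7 : 7 ∣ Nat.card C := hx ▸ orderOf_dvd_natCard _ (mem_centralizer_singleton_iff.2 rfl)
  have hpr : ∀ q, q.Prime → q ∣ Nat.card C → q = 7 := by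
    intro q hq hqC
    haveI := Fact.mk hq
    obtain ⟨y, hy⟩ := exists_prime_orderOf_dvd_card' (G := C) q hqC
    by_contra hq7
    set τ : Equiv.Perm GolayPt := ((y : ↥Cfsg.Spor.M22) : Equiv.Perm GolayPt) with hτdef
    have hτ : orderOf τ = q := by rw [hτdef, Subgroup.orderOf_coe, Subgroup.orderOf_coe, hy]
    have hcomm : σ * τ = τ * σ :=
      (congrArg Subtype.val (mem_centralizer_singleton_iff.1 y.2)).symm
    have h := moved_dvd hσ7 hcomm
    have hb : (Finset.univ.filter fun p => τ p = p ∧ σ p = p).card ≤ 3 :=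
      hfixx ▸ Finset.card_le_card fun p hp => by
        simp only [Finset.mem_filter, Finset.mem_univ, true_and] at hp ⊢
        exact hp.2
    have ha : 2 ≤ (Finset.univ.filter fun p => τ p = p ∧ σ p = p).card := by
      obtain ⟨-, yn, y0⟩ := mem_M22_iff.1 (y : ↥Cfsg.Spor.M22).2
      obtain ⟨-, xn, x0⟩ := mem_M22_iff.1 x.2
      refine le_trans (le_of_eq (Finset.card_pair (show (none : GolayPt) ≠ some 0 by simp)).symm)
        (Finset.card_le_card fun p hp => ?_)
      rcases Finset.mem_insert.1 hp with rfl | h'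
      · simp [hτdef, hσdef, yn, xn]
      · rw [Finset.mem_singleton] at h'
        simp [h', hτdef, hσdef, y0, x0]
    have hy2 := two_le_fixed (y : ↥Cfsg.Spor.M22).2
    rw [← hτdef] at hy2
    have hq443 : q ∈ Nat.divisors 443520 := Nat.mem_divisors.2 ⟨hqC.trans hdC, by norm_num⟩
    have hcases : ∀ r ∈ Nat.divisors 443520, r.Prime → r = 2 ∨ r = 3 ∨ r = 5 ∨ r = 7 ∨ r = 11 := by
      intro r hr hrp
      obtain ⟨hr', -⟩ := Nat.mem_divisors.1 hr
      rw [show (443520 : ℕ) = 2 ^ 7 * 3 ^ 2 * 5 * 7 * 11 by norm_num] at hr'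
      have pd : ∀ {a : ℕ}, a.Prime → r ∣ a → r = a := fun ha h => (Nat.prime_dvd_prime_iff_eq hrp ha).1 h
      rcases hrp.dvd_mul.1 hr' with h | h
      · rcases hrp.dvd_mul.1 h with h | h
        · rcases hrp.dvd_mul.1 h with h | h
          · rcases hrp.dvd_mul.1 h with h | h
            · exact Or.inl (pd Nat.prime_two (hrp.dvd_of_dvd_pow h))
            · exact Or.inr (Or.inl (pd Nat.prime_three (hrp.dvd_of_dvd_pow h)))
          · exact Or.inr (Or.inr (Or.inl (pd Nat.prime_five h)))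
        · exact Or.inr (Or.inr (Or.inr (Or.inl (pd (by norm_num) h))))
      · exact Or.inr (Or.inr (Or.inr (Or.inr (pd (by norm_num) h))))
    have hτ24 : τ ∈ M24 := m22_le (y : ↥Cfsg.Spor.M22).2
    rcases hcases q hq443 hq with rfl | rfl | rfl | rfl | rfl
    · obtain ⟨u, -, ⟨-, hc⟩ | ⟨-, hc⟩⟩ := inv_cases hτ24 hτ <;> omega
    · obtain ⟨u, -, ⟨-, hc⟩ | ⟨-, hc⟩⟩ := three_cases hτ24 hτ <;> omega
    · have := five_fixed_card hτ24 hτ
      omega
    · exact hq7 rfl
    · have hy11 : orderOf (y : ↥Cfsg.Spor.M22) = 11 := by rw [Subgroup.orderOf_coe, hy]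
      have hd := Subgroup.orderOf_dvd_natCard (s := centralizer ({(y : ↥Cfsg.Spor.M22)} : Set ↥Cfsg.Spor.M22))
        (mem_centralizer_singleton_iff.2 (mem_centralizer_singleton_iff.1 y.2).symm)
      rw [m22_eleven hy11, hx] at hd
      norm_num at hd
  obtain ⟨k, hk⟩ : ∃ k, Nat.card C = 7 ^ k := ⟨_, Nat.eq_prime_pow_of_unique_prime_dvd Nat.card_pos.ne'
    (fun {d} hd h => hpr d hd h)⟩
  have hk1 : k ≤ 1 := by
    by_contra hlt
    rw [hk] at hdC
    exact absurd ((pow_dvd_pow 7 (show 2 ≤ k by omega)).trans hdC) (by norm_num)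
  interval_cases k <;> simp_all

theorem m22_five {x : ↥Cfsg.Spor.M22} (hx : orderOf x = 5) :
    Nat.card (centralizer ({x} : Set ↥Cfsg.Spor.M22)) = 5 := by
  obtain ⟨g, hg⟩ := isConj_iff.1 (five_conj_M22 hx)
  set x₀ : ↥Cfsg.Spor.M22 := ⟨xFive, xFive_mem_M22⟩
  have e : Nat.card (centralizer ({x} : Set ↥Cfsg.Spor.M22)) = Nat.card (centralizer ({x₀} : Set ↥Cfsg.Spor.M22)) := by
    refine (Nat.card_congr ((MulAut.conj g).toEquiv.subtypeEquiv fun a => ?_)).symm
    show a ∈ centralizer ({x₀} : Set ↥Cfsg.Spor.M22) ↔ g * a * g⁻¹ ∈ centralizer ({x} : Set ↥Cfsg.Spor.M22)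
    rw [mem_centralizer_singleton_iff, mem_centralizer_singleton_iff, ← hg,
      show g * a * g⁻¹ * (g * x₀ * g⁻¹) = g * (a * x₀) * g⁻¹ by group,
      show g * x₀ * g⁻¹ * (g * a * g⁻¹) = g * (x₀ * a) * g⁻¹ by group, mul_left_inj, mul_right_inj]
  refine le_antisymm ?_ (Nat.le_of_dvd Nat.card_pos (hx ▸ orderOf_dvd_natCard _ (mem_centralizer_singleton_iff.2 rfl)))
  rw [e]
  refine le_trans ?_ centFive_M22
  refine Nat.card_le_card_of_injective (fun a => ⟨((a : ↥Cfsg.Spor.M22) : Equiv.Perm GolayPt),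
    mem_centFive.2 ⟨m22_le (a : ↥Cfsg.Spor.M22).2, congrArg Subtype.val (mem_centralizer_singleton_iff.1 a.2)⟩,
    (a : ↥Cfsg.Spor.M22).2⟩) fun a b h => ?_
  exact Subtype.ext (Subtype.ext (congrArg Subtype.val h :))

/-- The concrete group satisfies the local hypotheses. -/
theorem local_M22 : Local ↥Cfsg.Spor.M22 where
  card := card_sporM22
  simple := sporM22_simple
  seven x hx := by
    haveI : Fact (Nat.Prime 7) := ⟨by norm_num⟩
    refine ⟨m22_seven hx, card_normalizer_of_centralizer (N := 21)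
      (factorization_one (m := 63360) (by norm_num) (by rw [card_sporM22]; norm_num) (by norm_num))
      hx (m22_seven hx) ?_⟩
    rw [card_sporM22]
    intro d hd _ n _ hnd hn
    have : d ∈ Nat.divisors 42 := hd
    have key : ∀ d ∈ Nat.divisors 42, d ∣ 443520 → 7 ∣ d → (443520 / d) % 7 = 1 → d = 21 := by decide +kernel
    refine key d this (Dvd.intro_left n hnd) (by assumption) ?_
    rw [← hnd, Nat.mul_div_cancel _ (Nat.pos_of_mem_divisors this)]
    exact hn
  eleven x hx := by
    haveI : Fact (Nat.Prime 11) := ⟨by norm_num⟩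
    refine ⟨m22_eleven hx, card_normalizer_of_centralizer (N := 55)
      (factorization_one (m := 40320) (by norm_num) (by rw [card_sporM22]; norm_num) (by norm_num))
      hx (m22_eleven hx) ?_⟩
    rw [card_sporM22]
    intro d hd _ n _ hnd hn
    have : d ∈ Nat.divisors 110 := hd
    have key : ∀ d ∈ Nat.divisors 110, d ∣ 443520 → 11 ∣ d → (443520 / d) % 11 = 1 → d = 55 := by decide +kernel
    refine key d this (Dvd.intro_left n hnd) (by assumption) ?_
    rw [← hnd, Nat.mul_div_cancel _ (Nat.pos_of_mem_divisors this)]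
    exact hn
  five x hx := by
    haveI : Fact (Nat.Prime 5) := ⟨by norm_num⟩
    refine card_normalizer_of_centralizer (N := 20)
      (factorization_one (m := 88704) (by norm_num) (by rw [card_sporM22]; norm_num) (by norm_num))
      hx (m22_five hx) ?_
    rw [card_sporM22]
    intro d hd _ n _ hnd hn
    have : d ∈ Nat.divisors 20 := hd
    have key : ∀ d ∈ Nat.divisors 20, d ∣ 443520 → 5 ∣ d → (443520 / d) % 5 = 1 → d = 20 := by decide +kernel
    refine key d this (Dvd.intro_left n hnd) (by assumption) ?_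
    rw [← hnd, Nat.mul_div_cancel _ (Nat.pos_of_mem_divisors this)]
    exact hn

end CfsgLib.MTwentyTwoUnique
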