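import Cfsg.Agent.Lib.MTwentyTwoUnique.Hyp
import Cfsg.Agent.Lib.SmallGroups.MElevenDegrees.Block
import Cfsg.Agent.Lib.Blocks.CyclicPrincipal
import Mathlib

/-!
The principal block of a self-centralising Sylow subgroup of prime order, with all values at the
elements of that order.
-/

set_option autoImplicit false

noncomputable section

namespace CfsgLib.MTwentyTwoUnique

open Subgroup CfsgLib.InvolChar CfsgLib.Blocks CfsgLib.Blocks.PrimeSylow Cfsg
open scoped ComplexConjugate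
attribute [local instance] Classical.propDecidable

variable {G : Type*} [Group G] [Fintype G]

/-- The principal block: `X` the non-exceptional, `Y` the exceptional characters. -/
structure SC (G : Type*) [Group G] [Fintype G] (p e : ℕ) where
  /-- non-exceptional -/
  X : Finset (IrrCharacter G)
  /-- exceptional -/
  Y : Finset (IrrCharacter G)
  /-- signs -/
  s : IrrCharacter G → ℤ
  /-- the exceptional sign -/
  ε : ℤ
  /-- the exceptional degree -/
  f : ℕ
  disj : Disjoint X Y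
  card_X : X.card = e
  card_Y : Y.card = (p - 1) / e
  one_mem : CfsgLib.Char.irrOne ∈ X ∪ Y
  s_sq : ∀ χ ∈ X, s χ = 1 ∨ s χ = -1
  deg_X : ∀ χ ∈ X, (p : ℤ) ∣ (deg χ : ℤ) - s χ
  ε_sq : ε = 1 ∨ ε = -1
  deg_Y : ∀ θ ∈ Y, deg θ = f
  deg_f : (p : ℤ) ∣ (f : ℤ) - ε * e
  val_X : ∀ χ ∈ X, ∀ x : G, orderOf x = p → (χ : G → ℂ) x = (s χ : ℂ)
  out_zero : ∀ χ, χ ∉ X → χ ∉ Y → ∀ x : G, orderOf x = p → (χ : G → ℂ) x = 0
  out_dvd : ∀ χ, χ ∉ X → χ ∉ Y → p ∣ deg χ
  Y_ne : Y.Nonempty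
  Y_eq : ∀ θ ∈ Y, ∀ θ' ∈ Y, ∀ g : G, ¬ p ∣ orderOf g → (θ : G → ℂ) g = (θ' : G → ℂ) g
  rel : ∀ θ ∈ Y, ∀ g : G, ¬ p ∣ orderOf g →
    (ε : ℂ) * (θ : G → ℂ) g = ∑ χ ∈ X, (s χ : ℂ) * (χ : G → ℂ) g

set_option maxHeartbeats 800000 in
theorem exists_sc {p : ℕ} [hp : Fact p.Prime] (P : Sylow p G) (hP : Nat.card P = p)
    (hC : Nat.card (centralizer ((P : Subgroup G) : Set G)) = p) (e : ℕ)
    (he : (centralizer ((P : Subgroup G) : Set G)).relIndex (normalizer ((P : Subgroup G) : Set G)) = e) :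
    Nonempty (SC G p e) := by
  classical
  obtain ⟨M, hM⟩ := CfsgLib.Invol.exists_isPModular p hp.out
  haveI := hM.2.1
  obtain ⟨X, Y, hB, hXY, hXc, hYc, -, εX, ε, hX, hε, hYdeg, hYeq, hYrel⟩ :=
    principal_block_prime_sylow P hM hP e he
  let Xf : Finset (IrrCharacter G) := Finset.univ.filter (· ∈ X)
  let Yf : Finset (IrrCharacter G) := Finset.univ.filter (· ∈ Y)
  have hXf : ∀ χ, χ ∈ Xf ↔ χ ∈ X := fun χ => by simp [Xf]
  have hYf : ∀ χ, χ ∈ Yf ↔ χ ∈ Y := fun χ => by simp [Yf]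
  have hXcard : Xf.card = e := by rw [← hXc, Nat.card_eq_fintype_card, Fintype.card_subtype]
  have hYcard : Yf.card = (p - 1) / e := by rw [← hYc, Nat.card_eq_fintype_card, Fintype.card_subtype]
  have hblock : ∀ χ, χ ∈ principalBlock M G ↔ χ ∈ Xf ∪ Yf := fun χ => by
    rw [hB, Finset.mem_union, hXf, hYf, Set.mem_union]
  have hzero : ∀ χ, χ ∉ Xf → χ ∉ Yf → ∀ i : ZMod p, i ≠ 0 → (χ : G → ℂ) (pw P hP i) = 0 := by
    intro χ hχX hχY i hi
    have hb := column_inner P hM hP hi hi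
    rw [if_pos (IsConj.refl _)] at hb
    have hall := CfsgLib.Char.second_orthogonality (pw P hP i) (pw P hP i)
    rw [if_pos (IsConj.refl _), centralizer_pw P hP hi, hC] at hall
    have hdiff : ∑ χ : IrrCharacter G, (if χ ∈ principalBlock M G then 0 else
        Complex.normSq ((χ : G → ℂ) (pw P hP i)) : ℝ) = 0 := by
      have h2 : (∑ χ : IrrCharacter G, ((if χ ∈ principalBlock M G then 0 else
          Complex.normSq ((χ : G → ℂ) (pw P hP i)) : ℝ) : ℂ)) = 0 := by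
        calc _ = ∑ χ : IrrCharacter G, ((χ : G → ℂ) (pw P hP i) * conj ((χ : G → ℂ) (pw P hP i)) -
              if χ ∈ principalBlock M G then
                (χ : G → ℂ) (pw P hP i) * conj ((χ : G → ℂ) (pw P hP i)) else 0) :=
              Finset.sum_congr rfl fun χ _ => by split_ifs <;> simp [Complex.mul_conj]
          _ = 0 := by rw [Finset.sum_sub_distrib, hall, hb, sub_self]
      exact_mod_cast h2
    have h3 := (Finset.sum_eq_zero_iff_of_nonneg fun χ _ => by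
      split_ifs
      · exact le_rfl
      · exact Complex.normSq_nonneg _).mp hdiff χ (Finset.mem_univ χ)
    rw [if_neg (by rw [hblock, Finset.mem_union]; tauto)] at h3
    exact Complex.normSq_eq_zero.mp h3
  have hconj : ∀ x : G, orderOf x = p → ∃ i : ZMod p, i ≠ 0 ∧ IsConj x (pw P hP i) := by
    intro x hx
    obtain ⟨Q, hQ⟩ := (IsPGroup.of_card (p := p) (n := 1) (by rw [Nat.card_zpowers, hx, pow_one]) :
      IsPGroup p (zpowers x)).exists_le_sylow
    obtain ⟨c, hc⟩ := MulAction.exists_smul_eq G Q P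
    have hm : c * x * c⁻¹ ∈ (P : Subgroup G) := by
      rw [← hc, Sylow.coe_subgroup_smul]
      exact ⟨x, hQ (mem_zpowers x), by simp⟩
    obtain ⟨i, hi⟩ := pw_surjOn P hP hm
    refine ⟨i, fun h => ?_, isConj_iff.mpr ⟨c, hi.symm⟩⟩
    rw [h, pw_zero] at hi
    have : x = 1 := conj_eq_one_iff.mp hi.symm
    rw [this, orderOf_one] at hx
    exact hp.out.one_lt.ne hx
  have hcl : ∀ (χ : IrrCharacter G) (x y : G), IsConj x y → (χ : G → ℂ) x = (χ : G → ℂ) y :=
    fun χ x y h => CfsgLib.MTwelveUnique.eq_of_isConj χ h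
  have hdeg : ∀ χ : IrrCharacter G, charDegree (χ : G → ℂ) = deg χ :=
    CfsgLib.SmallGroups.BrauerFew.deg_eq_charDegree
  have hout : ∀ χ, χ ∉ Xf → χ ∉ Yf → p ∣ deg χ := by
    intro χ h1 h2
    have hx : Nat.card (zpowers (gen P hP)) = p := by rw [Nat.card_zpowers, orderOf_gen]
    obtain ⟨a, ha⟩ := CfsgLib.SmallGroups.DegreeTwoP.exists_fixedMult (H := G) hx
    haveI := Fintype.ofFinite (zpowers (gen P hP))
    have h := CfsgLib.SmallGroups.DegreeTwoP.sum_zpowers_const hx (χ : G → ℂ) 0 (fun u hu hu1 => by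
      obtain ⟨i, rfl⟩ := pw_surjOn P hP (zpowers_gen P hP ▸ hu : u ∈ (P : Subgroup G))
      exact hzero χ h1 h2 i fun h => hu1 (by rw [h, pw_zero]))
    rw [ha inferInstance χ, mul_zero, add_zero, deg_spec] at h
    exact ⟨a χ, by exact_mod_cast h.symm⟩
  have he0 : 0 < e ∧ e ≤ p - 1 := by
    have h := relIndex_dvd P hP
    rw [he] at h
    have := hp.out.two_le
    exact ⟨Nat.pos_of_ne_zero fun h0 => by rw [h0, Nat.zero_dvd] at h; omega, Nat.le_of_dvd (by omega) h⟩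
  obtain ⟨θ, hθ⟩ := Finset.card_pos.mp (hYcard ▸ Nat.div_pos he0.2 he0.1 : 0 < Yf.card)
  exact ⟨{
    X := Xf, Y := Yf, s := εX, ε := ε, f := deg θ
    disj := Finset.disjoint_left.mpr fun χ h h' => Set.disjoint_left.mp hXY ((hXf χ).mp h) ((hYf χ).mp h')
    card_X := hXcard
    card_Y := hYcard
    one_mem := (hblock _).mp irrOne_mem_principalBlock
    s_sq := fun χ h => (hX χ ((hXf χ).mp h)).1
    deg_X := fun χ h => by
      have h2 := (hX χ ((hXf χ).mp h)).2.1
      rw [hdeg] at h2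
      exact Int.ModEq.dvd h2.symm
    ε_sq := hε
    deg_Y := fun θ' hθ' => by
      have h := hYeq θ' ((hYf θ').mp hθ') θ ((hYf θ).mp hθ) 1 (by rw [orderOf_one]; exact hp.out.not_dvd_one)
      rw [deg_spec θ', deg_spec θ] at h
      exact_mod_cast h
    deg_f := by
      have h := hYdeg θ ((hYf θ).mp hθ)
      rw [hdeg] at h
      exact Int.ModEq.dvd h.symm
    val_X := fun χ h x hx => by
      obtain ⟨i, hi, hc⟩ := hconj x hx
      rw [hcl χ _ _ hc]
      have h' := (hX χ ((hXf χ).mp h)).2.2 (pw P hP i) (pw_mem P hP i)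
        (fun h => hi ((pw_eq_one_iff P hP).mp h)) 1 (one_mem _) (by rw [orderOf_one]; exact hp.out.not_dvd_one)
      rwa [mul_one] at h'
    out_zero := fun χ h1 h2 x hx => by
      obtain ⟨i, hi, hc⟩ := hconj x hx
      rw [hcl χ _ _ hc]
      exact hzero χ h1 h2 i hi
    out_dvd := hout
    Y_ne := ⟨θ, hθ⟩
    Y_eq := fun a ha b hb g hg => hYeq a ((hYf a).mp ha) b ((hYf b).mp hb) g hg
    rel := fun a ha g hg => by
      rw [hYrel a ((hYf a).mp ha) g hg, finsum_mem_eq_sum_of_inter_support_eq (t := Xf) _ (by ext χ; simp [Xf])] }⟩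

namespace SC

variable {p e : ℕ} (B : SC G p e)

theorem deg_rel {θ : IrrCharacter G} (hθ : θ ∈ B.Y) (hp : 1 < p) :
    B.ε * (B.f : ℤ) = ∑ χ ∈ B.X, B.s χ * (deg χ : ℤ) := by
  have h := B.rel θ hθ 1 (by rw [orderOf_one]; exact fun h => by have := Nat.le_of_dvd one_pos h; omega)
  rw [deg_spec, B.deg_Y θ hθ, Finset.sum_congr rfl fun χ _ => by rw [deg_spec χ]] at h
  exact_mod_cast h

/-- Membership from the degree. -/
theorem mem_of_not_dvd {χ : IrrCharacter G} (h : ¬ p ∣ deg χ) : χ ∈ B.X ∪ B.Y := by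
  by_contra hc
  rw [Finset.mem_union, not_or] at hc
  exact h (B.out_dvd χ hc.1 hc.2)

theorem not_dvd_of_mem_X [Fact p.Prime] {χ : IrrCharacter G} (h : χ ∈ B.X) : ¬ p ∣ deg χ := fun hd => by
  have h1 : (p : ℤ) ∣ B.s χ := by
    have := dvd_sub (Int.natCast_dvd_natCast.mpr hd) (B.deg_X χ h)
    simpa using this
  rcases B.s_sq χ h with e | e <;> rw [e] at h1
  · exact (Fact.out : p.Prime).not_dvd_one (by exact_mod_cast h1)
  · exact (Fact.out : p.Prime).not_dvd_one (by exact_mod_cast (dvd_neg.mp h1))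

theorem not_dvd_f [Fact p.Prime] (he : ¬ p ∣ e) : ¬ p ∣ B.f := fun hd => by
  have h1 : (p : ℤ) ∣ B.ε * e := by
    have := dvd_sub (Int.natCast_dvd_natCast.mpr hd) B.deg_f
    simpa using this
  rcases B.ε_sq with h | h <;> rw [h] at h1
  · exact he (by rw [one_mul] at h1; exact_mod_cast h1)
  · exact he (by rw [neg_one_mul, dvd_neg] at h1; exact_mod_cast h1)

theorem one_X (hp : ¬ (p : ℤ) ∣ 1 - e) (hp' : ¬ (p : ℤ) ∣ 1 + e) {x : G} (hx : orderOf x = p) :
    CfsgLib.Char.irrOne ∈ B.X ∧ B.s CfsgLib.Char.irrOne = 1 := by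
  have hX : CfsgLib.Char.irrOne ∈ B.X := by
    refine (Finset.mem_union.mp B.one_mem).resolve_right fun h => ?_
    have h2 := B.deg_Y _ h
    rw [deg_irrOne] at h2
    have h3 := B.deg_f
    rw [← h2] at h3
    rcases B.ε_sq with k | k <;> rw [k] at h3
    · exact hp (by simpa using h3)
    · exact hp' (by simpa using h3)
  refine ⟨hX, ?_⟩
  have h := B.val_X _ hX x hx
  rw [CfsgLib.Char.irrOne_apply] at h
  exact_mod_cast h.symm

/-- The exceptional values add up to the opposite of the sign. -/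
theorem sum_Y [Fact p.Prime] (he : ¬ p ∣ e) {x : G} (hx : orderOf x = p) :
    ∑ θ ∈ B.Y, (θ : G → ℂ) x = -(B.ε : ℂ) := by
  classical
  have hx1 : x ≠ 1 := fun h => by rw [h, orderOf_one] at hx; exact (Fact.out : p.Prime).one_lt.ne hx
  have h := CfsgLib.Char.second_orthogonality x 1
  rw [if_neg (fun hc => hx1 (isConj_one_left.mp hc)),
    ← Finset.sum_subset (Finset.subset_univ (B.X ∪ B.Y)) (fun χ _ hχ => by
      rw [Finset.mem_union, not_or] at hχ
      rw [B.out_zero χ hχ.1 hχ.2 x hx, zero_mul]),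
    Finset.sum_union B.disj] at h
  simp only [deg_spec, map_natCast] at h
  have hXs : ∑ χ ∈ B.X, (χ : G → ℂ) x * (deg χ : ℂ) = ((∑ χ ∈ B.X, B.s χ * (deg χ : ℤ) : ℤ) : ℂ) := by
    push_cast
    exact Finset.sum_congr rfl fun χ hχ => by rw [B.val_X χ hχ x hx]
  have hYs : ∑ θ ∈ B.Y, (θ : G → ℂ) x * (deg θ : ℂ) = (B.f : ℂ) * ∑ θ ∈ B.Y, (θ : G → ℂ) x := by
    rw [Finset.mul_sum]
    exact Finset.sum_congr rfl fun θ hθ => by rw [B.deg_Y θ hθ]; ring
  rw [hXs, hYs] at h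
  obtain ⟨θ, hθ⟩ := B.Y_ne
  rw [← B.deg_rel hθ (Fact.out : p.Prime).one_lt] at h
  have hf : (B.f : ℂ) ≠ 0 := by
    exact_mod_cast fun h0 : B.f = 0 => B.not_dvd_f he (h0 ▸ dvd_zero p)
  refine mul_left_cancel₀ hf ?_
  push_cast at h
  linear_combination h

end SC

end CfsgLib.MTwentyTwoUnique
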