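import Cfsg.Agent.Lib.MTwentyTwoUnique.Involution
import Mathlib

/-!
One class of elements of order three, with centraliser of order 36.
-/

set_option autoImplicit false

noncomputable section

namespace CfsgLib.MTwentyTwoUnique

open Subgroup CfsgLib.InvolChar CfsgLib.Blocks CfsgLib.Blocks.PrimeSylow Cfsg
open CfsgLib.MTwelveUnique (nu nu_eq_zero nu_cases card_sq_roots)
open scoped ComplexConjugate
attribute [local instance] Classical.propDecidable

variable {G : Type*} [Group G] [Fintype G]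

/-- The values of the twelve characters at an element of order three. -/
structure ThreeVals (T : Table G) (b : G) : Prop where
  cent : Nat.card (centralizer ({b} : Set G)) = 36
  va : (T.a : G → ℂ) b = 1
  vb : (T.b : G → ℂ) b = 0
  vθ : (T.θ : G → ℂ) b = 0
  vθ' : (T.θ' : G → ℂ) b = 0
  vc : (T.c : G → ℂ) b = 3
  vd : (T.d : G → ℂ) b = 3
  vu : (T.u : G → ℂ) b = 1
  vu' : (T.u' : G → ℂ) b = 1
  vg : (T.g : G → ℂ) b = 1
  vh : (T.h : G → ℂ) b = -3
  vk : (T.k : G → ℂ) b = -2

variable (hL : Local G) (T : Table G)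
include hL

theorem three_cents {b : G} (hb : orderOf b = 3) :
    Nat.card (centralizer ({b} : Set G)) ∈ threeCents := by
  haveI : Fact (Nat.Prime 3) := ⟨by norm_num⟩
  haveI : Fact (Nat.Prime 5) := ⟨by norm_num⟩
  haveI : Fact (Nat.Prime 7) := ⟨by norm_num⟩
  haveI : Fact (Nat.Prime 11) := ⟨by norm_num⟩
  obtain ⟨P, hP⟩ := (IsPGroup.of_card (p := 3) (n := 1) (by rw [Nat.card_zpowers, hb, pow_one]) :
    IsPGroup 3 (zpowers b)).exists_le_sylow
  have hPc : Nat.card (P : Subgroup G) = 3 ^ 2 :=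
    CfsgLib.SmallGroups.card_sylow_eq (show Nat.card G = 3 ^ 2 * 49280 by rw [hL.card]; norm_num) (by norm_num) P
  haveI : IsMulCommutative (P : Subgroup G) := IsPGroup.isMulCommutative_of_card_eq_prime_sq hPc
  have h9 : (P : Subgroup G) ≤ centralizer ({b} : Set G) := fun s hs =>
    mem_centralizer_singleton_iff.mpr (congrArg Subtype.val
      ((IsPGroup.isMulCommutative_of_card_eq_prime_sq hPc).is_comm.comm (⟨s, hs⟩ : (P : Subgroup G))
        ⟨b, hP (mem_zpowers b)⟩))
  have hb1 : b ≠ 1 := fun e => by rw [e, orderOf_one] at hb; norm_num at hb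
  have h9' := Subgroup.card_dvd_of_le h9
  rw [hPc] at h9'
  have hd : Nat.card (centralizer ({b} : Set G)) ∣ 443520 := hL.card ▸ Subgroup.card_subgroup_dvd_card _
  have h5 := not_dvd_centralizer_of_self hL (fun x hx => five_centralizer hL hx) hb1 (by rw [hb]; norm_num)
  have h7 := not_dvd_centralizer_of_self hL (fun x hx => (hL.seven x hx).1) hb1 (by rw [hb]; norm_num)
  have h11 := not_dvd_centralizer_of_self hL (fun x hx => (hL.eleven x hx).1) hb1 (by rw [hb]; norm_num)
  have hcop : Nat.Coprime (Nat.card (centralizer ({b} : Set G))) 385 := by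
    rw [show 385 = 5 * 7 * 11 from rfl]
    exact Nat.Coprime.mul_right (Nat.Coprime.mul_right
      ((Nat.Prime.coprime_iff_not_dvd (by norm_num)).mpr h5).symm
      ((Nat.Prime.coprime_iff_not_dvd (by norm_num)).mpr h7).symm)
      ((Nat.Prime.coprime_iff_not_dvd (by norm_num)).mpr h11).symm
  have hd' : Nat.card (centralizer ({b} : Set G)) ∣ 1152 :=
    hcop.dvd_of_dvd_mul_right (show _ ∣ 1152 * 385 from hd)
  have key : ∀ k ∈ Nat.divisors 1152, k % 9 = 0 → k ∈ threeCents := by decide +kernel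
  exact key _ (Nat.mem_divisors.mpr ⟨hd', by norm_num⟩) (Nat.mod_eq_zero_of_dvd h9')

theorem isConj_inv_three {b : G} (hb : orderOf b = 3) : IsConj b b⁻¹ := by
  obtain ⟨T⟩ := exists_table hL
  refine (CfsgLib.Char.isConj_iff_forall_irr b b⁻¹).mpr fun χ => ?_
  rw [CfsgLib.Char.char_inv (CfsgLib.Char.isCharacter_of_isIrr χ.2)]
  symm
  obtain ⟨e7, e7'⟩ := T.rel_seven b (by rw [hb]; norm_num)
  obtain ⟨e11, e11'⟩ := T.rel_eleven b (by rw [hb]; norm_num)
  have ha := real_of hL T (χ := T.a) (by simp) b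
  have hb' := real_of hL T (χ := T.b) (by simp) b
  have hc := real_of hL T (χ := T.c) (by simp) b
  have hd := real_of hL T (χ := T.d) (by simp) b
  have h := T.sum_all fun η : IrrCharacter G => if η = χ then (1 : ℕ) else 0
  rw [Finset.sum_ite_eq' Finset.univ χ, if_pos (Finset.mem_univ χ)] at h
  by_cases h1 : χ = CfsgLib.Char.irrOne
  · rw [h1, CfsgLib.Char.irrOne_apply, map_one]
  by_cases hr : χ = T.a ∨ χ = T.b ∨ χ = T.c ∨ χ = T.d ∨ χ = T.g ∨ χ = T.h ∨ χ = T.k
  · exact real_of hL T hr b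
  by_cases hθ : χ = T.θ
  · rw [hθ, e7, map_add, map_sub, map_one, ha, hb']
  by_cases hθ' : χ = T.θ'
  · rw [hθ', e7', map_add, map_sub, map_one, ha, hb']
  by_cases hu : χ = T.u
  · rw [hu, e11, map_add, map_sub, map_add, map_add, map_one, hc, hd, e7, e7', map_add, map_sub, map_one, ha, hb']
  by_cases hu' : χ = T.u'
  · rw [hu', e11', map_add, map_sub, map_add, map_add, map_one, hc, hd, e7, e7', map_add, map_sub, map_one, ha, hb']
  exfalso
  simp only [not_or] at hr
  simp [Ne.symm h1, Ne.symm hθ, Ne.symm hθ', Ne.symm hu, Ne.symm hu', Ne.symm hr.1, Ne.symm hr.2.1,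
    Ne.symm hr.2.2.1, Ne.symm hr.2.2.2.1, Ne.symm hr.2.2.2.2.1, Ne.symm hr.2.2.2.2.2.1,
    Ne.symm hr.2.2.2.2.2.2] at h

/-- The values at an element of order three: two possible columns. -/
theorem three_options {b : G} (hb : orderOf b = 3) : ∃ v : IrrCharacter G → ℤ,
    (∀ χ : IrrCharacter G, (χ : G → ℂ) b = (v χ : ℂ)) ∧
    v CfsgLib.Char.irrOne = 1 ∧ v T.a = 1 ∧ v T.b = 0 ∧ v T.θ = 0 ∧ v T.θ' = 0 ∧ v T.u = 1 ∧ v T.u' = 1 ∧
    v T.g = 1 ∧ v T.k = -2 ∧
    (Nat.card (centralizer ({b} : Set G)) = 9 ∧ v T.c = 0 ∧ v T.d = 0 ∧ v T.h = 0 ∨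
      Nat.card (centralizer ({b} : Set G)) = 36 ∧ v T.c = 3 ∧ v T.d = 3 ∧ v T.h = -3) := by
  classical
  haveI : Fact (Nat.Prime 3) := ⟨by norm_num⟩
  haveI := hL.simple
  have hb1 : b ≠ 1 := fun e => by rw [e, orderOf_one] at hb; norm_num at hb
  have hconj : ∀ u ∈ zpowers b, u ≠ 1 → IsConj b u := by
    intro u hu hu1
    obtain ⟨i, hi⟩ := (mem_powers_iff_mem_zpowers.mpr hu : u ∈ Submonoid.powers b)
    have hi' : b ^ i = u := hi
    rw [← pow_mod_orderOf, hb] at hi'
    have hlt : i % 3 < 3 := Nat.mod_lt _ (by norm_num)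
    interval_cases e : i % 3
    · exact absurd (by rw [← hi', pow_zero]) hu1
    · rw [← hi', pow_one]
    · rw [← hi', show b ^ 2 = b⁻¹ from eq_inv_of_mul_eq_one_left (by
        rw [← pow_succ]; exact orderOf_dvd_iff_pow_eq_one.mp (by rw [hb]))]
      exact isConj_inv_three hL hb
  choose v hvs hv3 using fun χ : IrrCharacter G =>
    CfsgLib.SmallGroups.PrimeRational.exists_int_value hb hconj χ
  refine ⟨v, hvs, ?_⟩
  set C := Nat.card (centralizer ({b} : Set G)) with hCdef
  have hC := three_cents hL hb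
  have hC' : C ≤ 1152 := by
    have : ∀ c ∈ threeCents, c ≤ 1152 := by decide
    exact this _ hC
  have hv1 : v CfsgLib.Char.irrOne = 1 := by
    have h := hvs CfsgLib.Char.irrOne; rw [CfsgLib.Char.irrOne_apply] at h; exact_mod_cast h.symm
  obtain ⟨da, db, dθ, dθ', dc, dd, du, du', dg, dh, dk⟩ := T.deg_all
  have hne : ∀ χ : IrrCharacter G, deg χ ≠ 1 → χ ≠ CfsgLib.Char.irrOne := fun χ h e => h (by rw [e, deg_irrOne])
  have hQ := CfsgLib.MTwelveUnique.sum_sq_val v hvs
  rw [← hCdef] at hQ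
  have hok : ∀ χ : IrrCharacter G, ∀ d, deg χ = d → d ≠ 1 → validThree C d (v χ) = true := fun χ d h hd => by
    have hχ := hne χ (h ▸ hd)
    have h3 := Finset.single_le_sum (f := fun η : IrrCharacter G => v η * v η)
      (fun η _ => mul_self_nonneg _) (Finset.mem_erase.mpr ⟨hχ, Finset.mem_univ χ⟩)
    have h2 := Finset.add_sum_erase (Finset.univ : Finset (IrrCharacter G))
      (fun η => v η * v η) (Finset.mem_univ CfsgLib.Char.irrOne)
    simp only [hv1, mul_one] at h2
    simp only [validThree, decide_eq_true_eq]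
    refine ⟨by linarith, h ▸ CfsgLib.MTwelveUnique.sq_lt_deg_sq (not_comm hL) χ hχ hb1 (hvs χ), ?_, ?_⟩
    · subst h
      exact Int.emod_eq_zero_of_dvd (hv3 χ)
    · have := CfsgLib.MTwelveUnique.deg_dvd_index_mul χ (hvs χ) hCdef.symm
      rw [hL.card, h] at this
      exact this
  have hmem := fun (χ : IrrCharacter G) d (h : deg χ = d) (hd : d ≠ 1) => mem_threeList (hok χ d h hd) hC'
  obtain ⟨r1, r2⟩ := T.rel_seven b (by rw [hb]; norm_num)
  obtain ⟨s1, s2⟩ := T.rel_eleven b (by rw [hb]; norm_num)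
  have s5 := T.rel_five b (by rw [hb]; norm_num)
  simp only [hvs] at r1 r2 s1 s2 s5
  have eθ : v T.θ = 1 - v T.a + v T.b := by exact_mod_cast r1
  have eθ' : v T.θ' = v T.θ := by exact_mod_cast r2.trans r1.symm
  have eu : v T.u = 1 + 2 * v T.θ - v T.c + v T.d := by
    have : ((v T.u : ℤ) : ℂ) = ((1 + 2 * v T.θ - v T.c + v T.d : ℤ) : ℂ) := by
      rw [eθ'] at s1; push_cast; linear_combination s1
    exact_mod_cast this
  have eu' : v T.u' = v T.u := by exact_mod_cast s2.trans s1.symm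
  have eg : v T.g = 1 - v T.b + v T.c + v T.h := by
    have : ((v T.g : ℤ) : ℂ) = ((1 - v T.b + v T.c + v T.h : ℤ) : ℂ) := by push_cast; linear_combination -s5
    exact_mod_cast this
  have hS := CfsgLib.MTwelveUnique.sum_deg_val hb1 v hvs
  rw [T.sum_all] at hS
  simp only [deg_irrOne, da, db, dθ, dθ', dc, dd, du, du', dg, dh, dk, hv1, eθ', eu'] at hS
  push_cast at hS
  rw [T.sum_all] at hQ
  simp only [hv1, eθ', eu'] at hQ
  obtain ⟨z, hz, V, -⟩ := invol_facts hL T
  have hO : 1 + 7 * v T.a + 3 * v T.b - 6 * v T.θ + 5 * v T.c + 2 * v T.d - 16 * v T.u + 10 * v T.g +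
      7 * v T.h + v T.k = 0 := by
    have h := CfsgLib.Char.second_orthogonality z b
    rw [if_neg (CfsgLib.MTwelveUnique.not_isConj_of_orderOf_ne (by rw [hz, hb]; norm_num)), T.sum_all] at h
    simp only [CfsgLib.Char.irrOne_apply, V.va, V.vb, V.vθ, V.vθ', V.vc, V.vd, V.vu, V.vu', V.vg, V.vh, V.vk,
      hvs, hv1, Int.cast_one, map_intCast, eθ', eu', map_one] at h
    have : ((1 + 7 * v T.a + 3 * v T.b - 6 * v T.θ + 5 * v T.c + 2 * v T.d - 16 * v T.u + 10 * v T.g +
        7 * v T.h + v T.k : ℤ) : ℂ) = 0 := by push_cast; linear_combination h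
    exact_mod_cast this
  set S := 1 + 55 * v T.a + 99 * v T.b + 90 * v T.θ + 21 * v T.c + 210 * v T.d + 560 * v T.u + 154 * v T.g +
    231 * v T.h with hSdef
  have hk : S = -385 * v T.k := by rw [hSdef]; linarith
  have hkd : -S / 385 = v T.k := by omega
  have hyes : validThreeVal C (v T.a) (v T.b) (v T.c) (v T.d) (v T.h) = true := by
    simp only [validThreeVal, ← eθ, ← eu, ← eg, ← hSdef, hkd, Bool.and_eq_true, decide_eq_true_eq]
    exact ⟨⟨⟨⟨hok _ _ dθ (by norm_num), hok _ _ du (by norm_num)⟩, hok _ _ dg (by norm_num)⟩,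
      hok _ _ dk (by norm_num)⟩, by omega, by linarith, hO⟩
  obtain ⟨p1, q0, hopt⟩ := search_three C hC _ (hmem _ _ da (by norm_num)) _ (hmem _ _ db (by norm_num))
    (by rw [← eθ]; exact hok _ _ dθ (by norm_num)) _ (hmem _ _ dc (by norm_num)) _ (hmem _ _ dd (by norm_num))
    (by
      rw [← eθ, ← eu]
      have := mul_self_nonneg (v T.g)
      have := mul_self_nonneg (v T.h)
      have := mul_self_nonneg (v T.k)
      linarith) _ (hmem _ _ dh (by norm_num)) hyes
  refine ⟨hv1, p1, q0, by omega, by omega, by omega, by omega, by omega, by omega, ?_⟩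
  rcases hopt with h | h | ⟨-, hc, hd, hh⟩
  · exact Or.inl h
  · exact Or.inr h
  -- the number of square roots would be negative
  exfalso
  obtain ⟨-, -, -, -, na, nb, nc, nd, ng, nh, nk⟩ := invol_facts hL T
  obtain ⟨n0, n0', nu0, nu0'⟩ := T.nu_zero
  have hcount := card_sq_roots b
  rw [T.sum_all] at hcount
  have n1 : nu (CfsgLib.Char.irrOne : IrrCharacter G) = 1 := by
    simp [nu, CfsgLib.Char.irrOne_apply, ← Nat.card_eq_fintype_card, Nat.card_pos.ne']
  have eg' : v T.g = 1 := by omega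
  have ek : v T.k = -2 := by omega
  simp only [n1, na, nb, nc, nd, ng, nh, nk, n0, n0', nu0, nu0', hvs, hv1, p1, q0, hc, hd, hh, eg', ek,
    map_intCast, Int.cast_one] at hcount
  norm_num [-Nat.card_eq_fintype_card] at hcount
  have : ((Nat.card {s : G // s * s = b} : ℕ) : ℂ) = ((-2 : ℤ) : ℂ) := by push_cast; linear_combination hcount
  have h2 : ((Nat.card {s : G // s * s = b} : ℕ) : ℤ) = -2 := by exact_mod_cast this
  omega

theorem three_conj {b b' : G} (hb : orderOf b = 3) (hb' : orderOf b' = 3) : IsConj b b' := by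
  obtain ⟨T⟩ := exists_table hL
  obtain ⟨v, hv, h1, h2, h3, h4, h4', h5, h5', h6, h7, ho⟩ := three_options hL T hb
  obtain ⟨w, hw, g1, g2, g3, g4, g4', g5, g5', g6, g7, go⟩ := three_options hL T hb'
  by_contra hne
  have h := CfsgLib.MTwelveUnique.sum_mul_val hne v w hv hw
  rw [T.sum_all] at h
  simp only [h1, h2, h3, h4, h4', h5, h5', h6, h7, g1, g2, g3, g4, g4', g5, g5', g6, g7] at h
  rcases ho with ⟨-, a1, a2, a3⟩ | ⟨-, a1, a2, a3⟩ <;> rcases go with ⟨-, c1, c2, c3⟩ | ⟨-, c1, c2, c3⟩ <;>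
    simp [a1, a2, a3, c1, c2, c3] at h

theorem three_vals {b : G} (hb : orderOf b = 3) : ThreeVals T b := by
  haveI : Fact (Nat.Prime 3) := ⟨by norm_num⟩
  obtain ⟨v, hv, h1, h2, h3, h4, h4', h5, h5', h6, h7, ho⟩ := three_options hL T hb
  obtain ⟨z, hz, V, -⟩ := invol_facts hL T
  obtain ⟨c, hc⟩ := exists_prime_orderOf_dvd_card' (G := centralizer ({z} : Set G)) 3 (by rw [V.cent]; norm_num)
  have hcG : orderOf (c : G) = 3 := by rw [Subgroup.orderOf_coe, hc]
  have hzc : z ∈ centralizer ({(c : G)} : Set G) :=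
    mem_centralizer_singleton_iff.mpr (mem_centralizer_singleton_iff.mp c.2).symm
  have h2dvd := Subgroup.orderOf_dvd_natCard (s := centralizer ({(c : G)} : Set G)) hzc
  rw [hz] at h2dvd
  have hconj := three_conj hL hb hcG
  have hcard : Nat.card (centralizer ({b} : Set G)) = Nat.card (centralizer ({(c : G)} : Set G)) := by
    have e1 := CfsgLib.Invol.card_conjugates_mul b
    have e2 := CfsgLib.Invol.card_conjugates_mul (c : G)
    rw [← e2, Nat.card_congr (Equiv.subtypeEquivRight fun x => ⟨hconj.symm.trans, hconj.trans⟩ :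
        {x : G // IsConj b x} ≃ {x : G // IsConj (c : G) x})] at e1
    haveI : Nonempty {x : G // IsConj (c : G) x} := ⟨⟨_, IsConj.refl _⟩⟩
    exact Nat.eq_of_mul_eq_mul_left Nat.card_pos e1
  obtain ⟨hC, hc', hd, hh⟩ := ho.resolve_left fun h => by omega
  refine ⟨hC, ?_, ?_, ?_, ?_, ?_, ?_, ?_, ?_, ?_, ?_, ?_⟩ <;>
    simp [hv, h2, h3, h4, h4', h5, h5', h6, h7, hc', hd, hh]

end CfsgLib.MTwentyTwoUnique
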