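import Mathlib

/-!
The finite searches for the degrees and the values at an involution and at an element of order three.
-/

set_option autoImplicit false

namespace CfsgLib.MTwentyTwoUnique

/-- The sign of a degree congruent to `±1`. -/
def sgn (p d : ℕ) : ℤ := if d % p = 1 then 1 else -1

/-- The sign of a total. -/
def tsgn (T : ℤ) : ℤ := if 0 < T then 1 else -1

/-- The residues modulo 11 allowed in the principal 7-block. -/
def okEleven (d : ℕ) : Bool := decide (d % 11 ∈ [0, 1, 10, 5, 6])

/-- The non-exceptional candidates in the principal 7-block. -/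
def candSeven : List ℕ := (List.range 666).filter fun d =>
  decide (2 ≤ d ∧ 443520 % d = 0 ∧ (d % 7 = 1 ∨ d % 7 = 6)) && okEleven d

/-- The signed total in the principal 7-block. -/
def totSeven (a b : ℕ) : ℤ := 1 + sgn 7 a * a + sgn 7 b * b

/-- The conditions on two degrees. -/
def validSeven (a b : ℕ) : Bool :=
  let f := (totSeven a b).natAbs
  decide (2 ≤ f ∧ 443520 % f = 0 ∧ (f : ℤ) % 7 = (3 * tsgn (totSeven a b)) % 7 ∧
    1 + a * a + b * b + 2 * (f * f) ≤ 443520) && okEleven f

/-- The centraliser orders of a central involution before the 5-part is known. -/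
def bigCents : List ℕ := [128, 384, 640, 1152, 1920, 5760]

/-- The centraliser orders of a central involution. -/
def cents : List ℕ := [128, 384, 1152]

/-- The conditions on a value at an involution. -/
def validVal (C d : ℕ) (v : ℤ) : Bool :=
  decide (v * v < (C : ℤ) ∧ v * v < (d : ℤ) * d ∧ ((d : ℤ) - v) % 4 = 0 ∧
    (((443520 / C : ℕ) : ℤ) * v) % (d : ℤ) = 0)

/-- The candidates for a value. -/
def valList (C d : ℕ) : List ℤ :=
  ((List.range (2 * min d 76 + 1)).map fun i : ℕ => (i : ℤ) - (min d 76 : ℕ)).filter (validVal C d)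

theorem mem_valList {C d : ℕ} {v : ℤ} (h : validVal C d v = true) (hC : C ≤ 5760) : v ∈ valList C d := by
  have h' : v * v < (C : ℤ) ∧ v * v < (d : ℤ) * d := by
    simp only [validVal, decide_eq_true_eq] at h; exact ⟨h.1, h.2.1⟩
  have hC' : (C : ℤ) ≤ 5760 := by exact_mod_cast hC
  have h1 : v.natAbs < 76 := by
    by_contra hc
    have : (76 : ℤ) ≤ v.natAbs := by omega
    nlinarith [Int.natAbs_mul_self' v]
  have h2 : v.natAbs ≤ d := by
    by_contra hc
    have : (d : ℤ) < v.natAbs := by omega
    nlinarith [Int.natAbs_mul_self' v]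
  refine List.mem_filter.mpr ⟨List.mem_map.mpr ⟨(v + (min d 76 : ℕ)).toNat, List.mem_range.mpr ?_, ?_⟩, h⟩
  · omega
  · omega

/-- The conditions on the values in the principal 7-block at an involution. -/
def validSevenVal (C a b : ℕ) (p q : ℤ) : Bool :=
  let f := (totSeven a b).natAbs
  let ε := tsgn (totSeven a b)
  let r := ε * (1 + sgn 7 a * p + sgn 7 b * q)
  validVal C f r && decide (1 + p * p + q * q + 2 * (r * r) ≤ (C : ℤ) ∧
    (a : ℤ) * b * f + sgn 7 a * p * p * ((b : ℤ) * f) + sgn 7 b * q * q * ((a : ℤ) * f) -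
      ε * r * r * ((a : ℤ) * b) = 0)

set_option maxRecDepth 8000 in
theorem candSeven_mem : ∀ d ∈ List.range 666, 2 ≤ d → 443520 % d = 0 → d % 7 = 1 ∨ d % 7 = 6 →
    okEleven d = true → d ∈ candSeven := fun d hd h1 h2 h3 h4 =>
  List.mem_filter.mpr ⟨hd, by simp [h1, h2, h3, h4]⟩

set_option synthInstance.maxSize 8192 in
set_option synthInstance.maxHeartbeats 400000 in
set_option maxRecDepth 8000 in
/-- The two possible principal 7-blocks. -/
theorem search_seven : ∀ a ∈ candSeven, ∀ b ∈ candSeven, a ≤ b → validSeven a b = true →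
    ∀ C ∈ bigCents, ∀ p ∈ valList C a, ∀ q ∈ valList C b, validSevenVal C a b p q = true →
      a = 55 ∧ (b = 99 ∨ b = 120) := by
  decide +kernel

/-- A principal 5-block with inertial index two: the conditions on the degree. -/
def validFiveTwo (d : ℕ) : Bool :=
  let f := (1 + sgn 5 d * d).natAbs
  let ok : ℕ → Bool := fun x => decide (x % 7 = 0 ∨ x ∈ [55, 99, 45, 120, 66])
  decide (2 ≤ d ∧ 443520 % d = 0 ∧ (d % 5 = 1 ∨ d % 5 = 4) ∧ 2 ≤ f ∧ 443520 % f = 0 ∧
    (f % 5 = 2 ∨ f % 5 = 3)) && ok d && ok f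

set_option maxRecDepth 8000 in
theorem search_five_two : ∀ d ∈ List.range 666, validFiveTwo d = false := by decide +kernel

/-- The candidates in the principal 11-block outside the 7-block. -/
def candEleven : List ℕ := (List.range 666).filter fun d =>
  decide (2 ≤ d ∧ 443520 % d = 0 ∧ d % 7 = 0 ∧ (d % 11 = 1 ∨ d % 11 = 10))

theorem candEleven_mem {d : ℕ} (hd : d < 666) (h1 : 2 ≤ d) (h2 : 443520 % d = 0) (h7 : d % 7 = 0)
    (h3 : d % 11 = 1 ∨ d % 11 = 10) : d ∈ candEleven :=
  List.mem_filter.mpr ⟨List.mem_range.mpr hd, by simp [h1, h2, h7, h3]⟩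

/-- All lists of given length. -/
def seqs (L : List ℕ) : ℕ → List (List ℕ)
  | 0 => [[]]
  | n + 1 => L.flatMap fun k => (seqs L n).map (k :: ·)

theorem mem_seqs {L : List ℕ} : ∀ {l : List ℕ}, (∀ k ∈ l, k ∈ L) → l ∈ seqs L l.length
  | [], _ => by simp [seqs]
  | k :: l, h => by
    simp only [seqs, List.length_cons, List.mem_flatMap, List.mem_map]
    exact ⟨k, h k (by simp), l, mem_seqs fun x hx => h x (by simp [hx]), rfl⟩

/-- The five-part bookkeeping. -/
def fiveOk (base ks : List ℕ) : Bool :=
  let five := base.filter (fun d => d % 5 != 0) ++ ks.map (77 * ·)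
  let used := (base.map fun d => d * d).sum
  let kq := (ks.map fun k => 5929 * (k * k)).sum
  decide (five.length = 5 ∧ used + kq ≤ 443520 ∧ (443520 - used - kq) % 148225 = 0) &&
    decide (∀ d ∈ five, d % 5 = 1 ∨ d % 5 = 4) && decide ((five.map fun d : ℕ => sgn 5 d * (d : ℤ)).sum = 0)

/-- The admissible degrees divided by 77 prime to 5. -/
def ksList : List ℕ := [1, 2, 3, 4, 6, 8]

/-- The 11-block of the first family. -/
def totOne (A B : ℕ) : ℤ := 91 + sgn 11 A * A + sgn 11 B * B

/-- The base of the first family. -/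
def baseOne (A B : ℕ) : List ℕ :=
  [1, 55, 99, 45, 45, A, B, (totOne A B).natAbs, (totOne A B).natAbs]

/-- The number of unknown degrees prime to five. -/
def gap (base : List ℕ) : ℕ := 5 - (base.filter (fun d => d % 5 != 0)).length

/-- The conditions on an exceptional 11-degree. -/
def validEleven (T : ℤ) : Bool :=
  decide (2 ≤ T.natAbs ∧ 443520 % T.natAbs = 0 ∧ T.natAbs % 7 = 0 ∧
    (T.natAbs : ℤ) % 11 = (5 * tsgn T) % 11)

set_option synthInstance.maxSize 8192 in
set_option synthInstance.maxHeartbeats 400000 in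
set_option maxRecDepth 8000 in
theorem search_eleven_one : ∀ A ∈ candEleven, ∀ B ∈ candEleven, A ≤ B →
    validEleven (totOne A B) = true → ∀ ks ∈ seqs ksList (gap (baseOne A B)),
      fiveOk (baseOne A B) ks = true →
      A = 21 ∧ B = 210 ∧ (ks = [2, 3] ∨ ks = [3, 2]) := by
  decide +kernel

/-- The 11-block of the second family. -/
def totTwo (A B D : ℕ) : ℤ := -119 + sgn 11 A * A + sgn 11 B * B + sgn 11 D * D

/-- The base of the second family. -/
def baseTwo (A B D : ℕ) : List ℕ :=
  [1, 55, 120, 66, 66, A, B, D, (totTwo A B D).natAbs, (totTwo A B D).natAbs]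

set_option synthInstance.maxSize 8192 in
set_option synthInstance.maxHeartbeats 400000 in
set_option maxRecDepth 8000 in
theorem search_eleven_two : ∀ A ∈ candEleven, ∀ B ∈ candEleven, A ≤ B → ∀ D ∈ candEleven, B ≤ D →
    validEleven (totTwo A B D) = true → ∀ ks ∈ seqs ksList (gap (baseTwo A B D)),
      fiveOk (baseTwo A B D) ks = true →
      A = 21 ∧ B = 210 ∧ D = 210 ∧ ks = [2] := by
  decide +kernel

/-- The conditions on the values of the first family at an involution. -/
def validOne (C : ℕ) (p q a b h : ℤ) : Bool :=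
  let r := 1 - p + q
  let u := 1 + 2 * r - a + b
  let g := 1 - q + a + h
  let S := 1 + 55 * p + 99 * q + 90 * r + 21 * a + 210 * b + 560 * u + 154 * g + 231 * h
  let k := -S / 385
  validVal C 45 r && validVal C 280 u && validVal C 154 g && validVal C 385 k &&
    decide (S % 385 = 0 ∧ 495 - 9 * p * p + 5 * q * q - 11 * r * r = 0 ∧
      2520 + 112 * r * r - 120 * a * a + 12 * b * b - 9 * u * u = 0 ∧
      1 + p * p + q * q + 2 * r * r + a * a + b * b + 2 * u * u + g * g + h * h + k * k = (C : ℤ))

set_option synthInstance.maxSize 8192 in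
set_option synthInstance.maxHeartbeats 400000 in
set_option maxRecDepth 8000 in
theorem search_one : ∀ C ∈ cents, ∀ p ∈ valList C 55, ∀ q ∈ valList C 99,
    495 - 9 * p * p + 5 * q * q - 11 * (1 - p + q) * (1 - p + q) = 0 →
    ∀ a ∈ valList C 21, ∀ b ∈ valList C 210,
    2520 + 112 * (1 - p + q) * (1 - p + q) - 120 * a * a + 12 * b * b -
        9 * (1 + 2 * (1 - p + q) - a + b) * (1 + 2 * (1 - p + q) - a + b) = 0 →
    ∀ h ∈ valList C 231, validOne C p q a b h = true →
      C = 384 ∧ p = 7 ∧ q = 3 ∧ a = 5 ∧ b = 2 ∧ h = 7 := by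
  decide +kernel

/-- The conditions on the values of the second family at an involution. -/
def validTwo (C : ℕ) (p q a b c : ℤ) : Bool :=
  let r := 1 - p + q
  let u := 1 - q - a + b + c
  let g := 1 + 2 * r + a
  let S := 1 + 55 * p + 120 * q + 132 * r + 21 * a + 210 * b + 210 * c + 560 * u + 154 * g
  let k := -S / 385
  validVal C 66 r && validVal C 280 u && validVal C 154 g && validVal C 385 k &&
    decide (S % 385 = 0 ∧ 1320 - 24 * p * p + 11 * q * q - 20 * r * r = 0 ∧
      840 - 7 * q * q - 40 * a * a + 4 * b * b + 4 * c * c - 3 * u * u = 0 ∧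
      1 + p * p + q * q + 2 * r * r + a * a + b * b + c * c + 2 * u * u + g * g + k * k = (C : ℤ) ∧
      0 ≤ 9240 + 168 * p * p * p + 77 * q * q * q + 280 * r * r * r + 440 * a * a * a + 44 * b * b * b +
        44 * c * c * c + 66 * u * u * u + 60 * g * g * g + 24 * k * k * k)

set_option synthInstance.maxSize 8192 in
set_option synthInstance.maxHeartbeats 400000 in
set_option maxRecDepth 8000 in
theorem search_two : ∀ C ∈ cents, ∀ p ∈ valList C 55, ∀ q ∈ valList C 120,
    1320 - 24 * p * p + 11 * q * q - 20 * (1 - p + q) * (1 - p + q) = 0 →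
    ∀ a ∈ valList C 21, ∀ b ∈ valList C 210, ∀ c ∈ valList C 210,
    840 - 7 * q * q - 40 * a * a + 4 * b * b + 4 * c * c -
        3 * (1 - q - a + b + c) * (1 - q - a + b + c) = 0 →
    validTwo C p q a b c = false := by
  decide +kernel

/-- The conditions on a value at an element of order three. -/
def validThree (C d : ℕ) (v : ℤ) : Bool :=
  decide (v * v < (C : ℤ) ∧ v * v < (d : ℤ) * d ∧ ((d : ℤ) - v) % 3 = 0 ∧
    (((443520 / C : ℕ) : ℤ) * v) % (d : ℤ) = 0)

/-- The candidates at an element of order three. -/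
def threeList (C d : ℕ) : List ℤ :=
  ((List.range (2 * min d 34 + 1)).map fun i : ℕ => (i : ℤ) - (min d 34 : ℕ)).filter (validThree C d)

/-- The centraliser orders of an element of order three. -/
def threeCents : List ℕ := [9, 18, 36, 72, 144, 288, 576, 1152]

theorem mem_threeList {C d : ℕ} {v : ℤ} (h : validThree C d v = true) (hC : C ≤ 1152) :
    v ∈ threeList C d := by
  have h' : v * v < (C : ℤ) ∧ v * v < (d : ℤ) * d := by
    simp only [validThree, decide_eq_true_eq] at h; exact ⟨h.1, h.2.1⟩
  have hC' : (C : ℤ) ≤ 1152 := by exact_mod_cast hC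
  have h1 : v.natAbs < 34 := by
    by_contra hc
    have : (34 : ℤ) ≤ v.natAbs := by omega
    nlinarith [Int.natAbs_mul_self' v]
  have h2 : v.natAbs ≤ d := by
    by_contra hc
    have : (d : ℤ) < v.natAbs := by omega
    nlinarith [Int.natAbs_mul_self' v]
  refine List.mem_filter.mpr ⟨List.mem_map.mpr ⟨(v + (min d 34 : ℕ)).toNat, List.mem_range.mpr ?_, ?_⟩, h⟩
  · omega
  · omega

/-- The conditions on the values at an element of order three. -/
def validThreeVal (C : ℕ) (p q a b h : ℤ) : Bool :=
  let r := 1 - p + q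
  let u := 1 + 2 * r - a + b
  let g := 1 - q + a + h
  let S := 1 + 55 * p + 99 * q + 90 * r + 21 * a + 210 * b + 560 * u + 154 * g + 231 * h
  let k := -S / 385
  validThree C 45 r && validThree C 280 u && validThree C 154 g && validThree C 385 k &&
    decide (S % 385 = 0 ∧
      1 + p * p + q * q + 2 * r * r + a * a + b * b + 2 * u * u + g * g + h * h + k * k = (C : ℤ) ∧
      1 + 7 * p + 3 * q - 6 * r + 5 * a + 2 * b - 16 * u + 10 * g + 7 * h + k = 0)

set_option synthInstance.maxSize 8192 in
set_option synthInstance.maxHeartbeats 400000 in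
set_option maxRecDepth 8000 in
theorem search_three : ∀ C ∈ threeCents, ∀ p ∈ threeList C 55, ∀ q ∈ threeList C 99,
    validThree C 45 (1 - p + q) = true → ∀ a ∈ threeList C 21, ∀ b ∈ threeList C 210,
    1 + p * p + q * q + 2 * (1 - p + q) * (1 - p + q) + a * a + b * b +
        2 * (1 + 2 * (1 - p + q) - a + b) * (1 + 2 * (1 - p + q) - a + b) ≤ (C : ℤ) →
    ∀ h ∈ threeList C 231, validThreeVal C p q a b h = true →
      p = 1 ∧ q = 0 ∧ ((C = 9 ∧ a = 0 ∧ b = 0 ∧ h = 0) ∨ (C = 36 ∧ a = 3 ∧ b = 3 ∧ h = -3) ∨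
        (C = 36 ∧ a = -3 ∧ b = -3 ∧ h = 3)) := by
  decide +kernel

end CfsgLib.MTwentyTwoUnique
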