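import Cfsg.Agent.Lib.MTwentyTwoUnique.SelfCent
import Cfsg.Agent.Lib.MTwentyTwoUnique.Search
import Cfsg.Agent.Lib.SmallGroups.PrimeRational
import Cfsg.Agent.Lib.SmallGroups.MElevenDegrees.Main
import Mathlib

/-!
The principal 7-block.
-/

set_option autoImplicit false

noncomputable section

namespace CfsgLib.MTwentyTwoUnique

open Subgroup CfsgLib.InvolChar CfsgLib.Blocks CfsgLib.Blocks.PrimeSylow Cfsg
open scoped ComplexConjugate
attribute [local instance] Classical.propDecidable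

variable {G : Type*} [Group G] [Fintype G]

/-- An element whose normalizer has odd order is not conjugate to its inverse. -/
theorem not_isConj_inv_of_odd {x : G} {N : ℕ}
    (hN : Nat.card (normalizer ((zpowers x : Subgroup G) : Set G)) = N) (hodd : N % 2 = 1)
    (hx2 : x * x ≠ 1) : ¬ IsConj x x⁻¹ := by
  intro h
  obtain ⟨g, hg⟩ := isConj_iff.mp h
  have hgN : g ∈ normalizer ((zpowers x : Subgroup G) : Set G) := by
    intro y
    have e : (zpowers x).map (MulAut.conj g).toMonoidHom = zpowers x := by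
      rw [MonoidHom.map_zpowers]
      show zpowers (g * x * g⁻¹) = _
      rw [hg, zpowers_inv]
    have h2 : y ∈ zpowers x ↔ g * y * g⁻¹ ∈ (zpowers x).map (MulAut.conj g).toMonoidHom :=
      (Subgroup.mem_map_iff_mem (f := (MulAut.conj g).toMonoidHom) (MulAut.conj g).injective
        (x := y)).symm
    rw [e] at h2
    exact h2
  have ho : g ^ N = 1 := orderOf_dvd_iff_pow_eq_one.mp (hN ▸ Subgroup.orderOf_dvd_natCard
    (s := normalizer ((zpowers x : Subgroup G) : Set G)) hgN)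
  have hrep : ∀ n : ℕ, g ^ (2 * n) * x * (g ^ (2 * n))⁻¹ = x ∧
      g ^ (2 * n + 1) * x * (g ^ (2 * n + 1))⁻¹ = x⁻¹ := by
    intro n
    induction n with
    | zero => exact ⟨by simp, by simpa using hg⟩
    | succ n ih =>
      have e : g ^ (2 * (n + 1)) * x * (g ^ (2 * (n + 1)))⁻¹ = x := by
        calc g ^ (2 * (n + 1)) * x * (g ^ (2 * (n + 1)))⁻¹
            = g * (g ^ (2 * n + 1) * x * (g ^ (2 * n + 1))⁻¹) * g⁻¹ := by group
          _ = (g * x * g⁻¹)⁻¹ := by rw [ih.2]; group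
          _ = x := by rw [hg, inv_inv]
      refine ⟨e, ?_⟩
      calc g ^ (2 * (n + 1) + 1) * x * (g ^ (2 * (n + 1) + 1))⁻¹
          = g * (g ^ (2 * (n + 1)) * x * (g ^ (2 * (n + 1)))⁻¹) * g⁻¹ := by group
        _ = x⁻¹ := by rw [e, hg]
  have h1 := (hrep (N / 2)).2
  rw [show 2 * (N / 2) + 1 = N by omega, ho] at h1
  simp only [one_mul, inv_one, mul_one] at h1
  apply hx2
  nth_rewrite 2 [h1]
  exact mul_inv_cancel x

/-- No two conjugates of an involution multiply to an element not conjugate to its inverse. -/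
theorem SC.square_rel {p e : ℕ} [Fact p.Prime] (B : SC G p e) (he : ¬ p ∣ e) {x : G} (hx : orderOf x = p)
    (hinv : ¬ IsConj x x⁻¹) {y : G} (hy : y * y = 1) (v : IrrCharacter G → ℤ)
    (hv : ∀ χ : IrrCharacter G, (χ : G → ℂ) y = (v χ : ℂ)) (r : ℤ) (hr : ∀ θ ∈ B.Y, v θ = r) :
    ∑ χ ∈ B.X, ((B.s χ * v χ * v χ : ℤ) : ℚ) / deg χ - (B.ε : ℚ) * r * r / B.f = 0 := by
  classical
  have hempty : Nat.card {q : G × G // IsConj y q.1 ∧ IsConj y q.2 ∧ q.1 * q.2 = x} = 0 := by
    refine Nat.card_eq_zero.mpr (Or.inl ⟨fun ⟨⟨a, b⟩, ha, hb, hab⟩ => ?_⟩)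
    have hsq : ∀ z, IsConj y z → z * z = 1 := fun z hz => by
      obtain ⟨k, rfl⟩ := isConj_iff.mp hz
      calc k * y * k⁻¹ * (k * y * k⁻¹) = k * (y * y) * k⁻¹ := by group
        _ = 1 := by rw [hy]; group
    refine hinv (isConj_iff.mpr ⟨a, ?_⟩)
    have haa := hsq a ha
    have hbb := hsq b hb
    rw [← hab]
    show a * (a * b) * a⁻¹ = (a * b)⁻¹
    rw [mul_inv_rev, inv_eq_of_mul_eq_one_left hbb, inv_eq_of_mul_eq_one_left haa, ← mul_assoc, haa,
      one_mul]
  have h := CfsgLib.Char.card_classProduct_eq y y x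
  rw [hempty, ← Finset.sum_subset (Finset.subset_univ (B.X ∪ B.Y)) (fun χ _ hχ => by
      rw [Finset.mem_union, not_or] at hχ
      rw [B.out_zero χ hχ.1 hχ.2 x hx, map_zero, mul_zero, zero_div]), Finset.sum_union B.disj] at h
  haveI : Nonempty {z : G // IsConj y z} := ⟨⟨y, IsConj.refl y⟩⟩
  have hne : ((Nat.card {z : G // IsConj y z} : ℂ) * (Nat.card {z : G // IsConj y z} : ℂ)) / (Nat.card G : ℂ) ≠ 0 := by
    have h1 : (Nat.card {z : G // IsConj y z} : ℂ) ≠ 0 := by exact_mod_cast Nat.card_pos.ne'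
    exact div_ne_zero (mul_ne_zero h1 h1) (by exact_mod_cast Nat.card_pos.ne')
  have h0 := (mul_eq_zero.mp (by simpa using h.symm)).resolve_left hne
  have hY : ∑ θ ∈ B.Y, (θ : G → ℂ) y * (θ : G → ℂ) y * conj ((θ : G → ℂ) x) / (θ : G → ℂ) 1 =
      -((B.ε : ℂ) * r * r / B.f) := by
    rw [Finset.sum_congr rfl (g := fun θ : IrrCharacter G => (r : ℂ) * r / B.f * conj ((θ : G → ℂ) x))
      fun θ hθ => by rw [deg_spec, B.deg_Y θ hθ, hv, hr θ hθ]; ring,
      ← Finset.mul_sum, ← map_sum, B.sum_Y he hx, map_neg, map_intCast]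
    ring
  have hX : ∑ χ ∈ B.X, (χ : G → ℂ) y * (χ : G → ℂ) y * conj ((χ : G → ℂ) x) / (χ : G → ℂ) 1 =
      ∑ χ ∈ B.X, ((B.s χ * v χ * v χ : ℤ) : ℂ) / deg χ :=
    Finset.sum_congr rfl fun χ hχ => by
      rw [deg_spec, B.val_X χ hχ x hx, hv, map_intCast]
      push_cast
      ring
  rw [hX, hY] at h0
  apply (Rat.cast_injective (α := ℂ))
  push_cast at h0 ⊢
  linear_combination h0

variable (hL : Pre G)
include hL

theorem exists_sc_seven : Nonempty (SC G 7 3) := by
  haveI : Fact (Nat.Prime 7) := ⟨by norm_num⟩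
  obtain ⟨P⟩ : Nonempty (Sylow 7 G) := inferInstance
  obtain ⟨hP, hC, he⟩ := sylow_data hL (by norm_num) (by norm_num) hL.seven P
  exact exists_sc P hP hC 3 (by omega)

theorem exists_sc_eleven : Nonempty (SC G 11 5) := by
  haveI : Fact (Nat.Prime 11) := ⟨by norm_num⟩
  obtain ⟨P⟩ : Nonempty (Sylow 11 G) := inferInstance
  obtain ⟨hP, hC, he⟩ := sylow_data hL (by norm_num) (by norm_num) hL.eleven P
  exact exists_sc P hP hC 5 (by omega)

theorem deg_lt (χ : IrrCharacter G) : deg χ < 666 := by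
  have h := sum_sq_deg hL
  have h1 := Finset.single_le_sum (f := fun χ : IrrCharacter G => (deg χ : ℤ) * deg χ)
    (fun χ _ => mul_self_nonneg _) (Finset.mem_univ χ)
  rw [h] at h1
  have h2 : deg χ * deg χ ≤ 443520 := by exact_mod_cast h1
  by_contra hc
  nlinarith

theorem two_le_deg {χ : IrrCharacter G} (h : χ ≠ CfsgLib.Char.irrOne) : 2 ≤ deg χ := by
  haveI := hL.simple
  by_contra hc
  have h1 : deg χ = 1 := by have := deg_pos χ; omega
  exact h (CfsgLib.SmallGroups.MElevenDegrees.eq_irrOne_of_deg_one (not_comm hL) χ h1)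

/-- The residue of a degree modulo 11 from the principal 11-block. -/
theorem okEleven_deg (χ : IrrCharacter G) : okEleven (deg χ) = true := by
  haveI : Fact (Nat.Prime 11) := ⟨by norm_num⟩
  obtain ⟨B⟩ := exists_sc_eleven hL
  simp only [okEleven, decide_eq_true_eq]
  by_cases h : 11 ∣ deg χ
  · simp [Nat.mod_eq_zero_of_dvd h]
  rcases Finset.mem_union.mp (B.mem_of_not_dvd h) with hX | hY
  · have h1 := B.deg_X χ hX
    rcases B.s_sq χ hX with e | e <;> rw [e] at h1 <;> simp only [List.mem_cons] <;> omega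
  · have h1 := B.deg_f
    rw [← B.deg_Y χ hY] at h1
    rcases B.ε_sq with e | e <;> rw [e] at h1 <;> simp only [List.mem_cons] <;> omega

/-- A central involution. -/
theorem exists_central : ∃ z : G, orderOf z = 2 ∧ z * z = 1 ∧
    Nat.card (centralizer ({z} : Set G)) ∈ bigCents ∧
    (¬ 5 ∣ Nat.card (centralizer ({z} : Set G)) → Nat.card (centralizer ({z} : Set G)) ∈ cents) := by
  haveI : Fact (Nat.Prime 2) := ⟨Nat.prime_two⟩
  haveI : Fact (Nat.Prime 7) := ⟨by norm_num⟩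
  haveI : Fact (Nat.Prime 11) := ⟨by norm_num⟩
  obtain ⟨S⟩ : Nonempty (Sylow 2 G) := inferInstance
  have hS : Nat.card (S : Subgroup G) = 128 := by
    simpa using CfsgLib.SmallGroups.card_sylow_eq (show Nat.card G = 2 ^ 7 * 3465 by rw [hL.card]; norm_num)
      (by norm_num) S
  haveI : Nontrivial (S : Subgroup G) := Finite.one_lt_card_iff_nontrivial.mp (by omega)
  haveI := S.2.center_nontrivial
  have h2 : 2 ∣ Nat.card (center (S : Subgroup G)) := by
    obtain ⟨k, hk⟩ := IsPGroup.iff_card.mp (S.2.to_subgroup (center (S : Subgroup G)))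
    have h1 : 1 < Nat.card (center (S : Subgroup G)) := Finite.one_lt_card
    rw [hk] at h1 ⊢
    exact dvd_pow_self 2 fun e => by rw [e, pow_zero] at h1; omega
  obtain ⟨z, hz⟩ := exists_prime_orderOf_dvd_card' (G := center (S : Subgroup G)) 2 h2
  have hzG : orderOf ((z : (S : Subgroup G)) : G) = 2 := by rw [Subgroup.orderOf_coe, Subgroup.orderOf_coe, hz]
  have hzz := pow_orderOf_eq_one ((z : (S : Subgroup G)) : G)
  rw [hzG, sq] at hzz
  refine ⟨_, hzG, hzz, ?_⟩
  set C := Nat.card (centralizer ({((z : (S : Subgroup G)) : G)} : Set G)) with hC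
  have hz1 : ((z : (S : Subgroup G)) : G) ≠ 1 := fun e => by rw [e, orderOf_one] at hzG; norm_num at hzG
  have h128 : 128 ∣ C := by
    refine (dvd_of_eq hS.symm).trans (Subgroup.card_dvd_of_le fun s hs => mem_centralizer_singleton_iff.mpr ?_)
    exact congrArg Subtype.val (Subgroup.mem_center_iff.mp z.2 ⟨s, hs⟩)
  have h7 : ¬ 7 ∣ C := not_dvd_centralizer_of_self hL (fun x hx => (hL.seven x hx).1) hz1 (by rw [hzG]; norm_num)
  have h11 : ¬ 11 ∣ C := not_dvd_centralizer_of_self hL (fun x hx => (hL.eleven x hx).1) hz1 (by rw [hzG]; norm_num)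
  obtain ⟨k, hk⟩ := h128
  have hkd : k ∣ 3465 := by
    have h : C ∣ 443520 := hL.card ▸ Subgroup.card_subgroup_dvd_card _
    rw [hk] at h
    exact Nat.dvd_of_mul_dvd_mul_left (by norm_num : 0 < 128) (by simpa using h)
  have key : ∀ k ∈ Nat.divisors 3465, k % 7 = 0 ∨ k % 11 = 0 ∨
      (128 * k ∈ bigCents ∧ (128 * k % 5 = 0 ∨ 128 * k ∈ cents)) := by decide +kernel
  rcases key k (Nat.mem_divisors.mpr ⟨hkd, by norm_num⟩) with h | h | ⟨h, h'⟩
  · exact absurd (hk ▸ (Nat.dvd_of_mod_eq_zero h).mul_left 128) h7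
  · exact absurd (hk ▸ (Nat.dvd_of_mod_eq_zero h).mul_left 128) h11
  · rw [hk]
    exact ⟨h, fun h5 => h'.resolve_left fun e => h5 (Nat.dvd_of_mod_eq_zero e)⟩

/-- A value at an involution passes the test. -/
theorem validVal_of {z : G} (hz : z * z = 1) (hz1 : z ≠ 1) {χ : IrrCharacter G}
    (hχ : χ ≠ CfsgLib.Char.irrOne) (hlt : intVal χ hz * intVal χ hz < (Nat.card (centralizer ({z} : Set G)) : ℤ)) :
    validVal (Nat.card (centralizer ({z} : Set G))) (deg χ) (intVal χ hz) = true := by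
  haveI := hL.simple
  simp only [validVal, decide_eq_true_eq]
  refine ⟨hlt, CfsgLib.MTwelveUnique.sq_lt_deg_sq (not_comm hL) χ hχ hz1 (intVal_spec χ hz), ?_, ?_⟩
  · exact Int.emod_eq_zero_of_dvd (CfsgLib.SmallGroups.PrimeRational.four_dvd_deg_sub (linear_trivial hL) χ hz)
  · have := CfsgLib.MTwelveUnique.deg_dvd_index_mul χ (intVal_spec χ hz) rfl
    rwa [hL.card] at this

end CfsgLib.MTwentyTwoUnique
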