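import Cfsg.Agent.Lib.MTwentyTwoUnique.Seven
import Mathlib

/-!
The two possibilities for the principal 7-block.
-/

set_option autoImplicit false

noncomputable section

namespace CfsgLib.MTwentyTwoUnique

open Subgroup CfsgLib.InvolChar CfsgLib.Blocks CfsgLib.Blocks.PrimeSylow Cfsg
open scoped ComplexConjugate
attribute [local instance] Classical.propDecidable

variable {G : Type*} [Group G] [Fintype G]

theorem sgn_eq {p d : ℕ} {s : ℤ} (hp : 2 < p) (hs : s = 1 ∨ s = -1) (h : (p : ℤ) ∣ (d : ℤ) - s) :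
    sgn p d = s := by
  have h1 : ((d % p : ℕ) : ℤ) = s % p := by
    push_cast
    exact Int.emod_eq_emod_iff_emod_sub_eq_zero.mpr (Int.emod_eq_zero_of_dvd h)
  rcases hs with rfl | rfl
  · rw [Int.emod_eq_of_lt (by norm_num) (by omega)] at h1
    have : d % p = 1 := by exact_mod_cast h1
    simp [sgn, this]
  · rw [show (-1 : ℤ) % (p : ℤ) = (p : ℤ) - 1 by
      rw [← Int.add_emod_right]
      exact (Int.emod_eq_of_lt (by omega) (by omega)).trans (by ring)] at h1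
    have : d % p ≠ 1 := by omega
    simp [sgn, this]

theorem tsgn_eq {f : ℕ} {ε T : ℤ} (hε : ε = 1 ∨ ε = -1) (hf : 0 < f) (h : ε * (f : ℤ) = T) :
    tsgn T = ε ∧ T.natAbs = f := by
  rcases hε with rfl | rfl
  · subst h; simp [tsgn, hf]
  · subst h
    refine ⟨?_, by simp⟩
    simp [tsgn]

/-- The principal 7-block. -/
structure Blk7 (G : Type*) [Group G] [Fintype G] where
  /-- the block -/
  B : SC G 7 3
  /-- the degree 55 -/
  a : IrrCharacter G
  /-- the degree 99 or 120 -/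
  b : IrrCharacter G
  /-- exceptional -/
  θ : IrrCharacter G
  /-- exceptional -/
  θ' : IrrCharacter G
  a_ne : a ≠ CfsgLib.Char.irrOne
  b_ne : b ≠ CfsgLib.Char.irrOne
  X_eq : B.X = {CfsgLib.Char.irrOne, a, b}
  Y_eq' : B.Y = {θ, θ'}
  θ_ne : θ ≠ θ'
  deg_a : deg a = 55
  deg_b : deg b = 99 ∧ deg θ = 45 ∧ deg θ' = 45 ∨ deg b = 120 ∧ deg θ = 66 ∧ deg θ' = 66
  s_one : B.s CfsgLib.Char.irrOne = 1
  s_a : B.s a = -1
  s_b : B.s b = 1
  ε_eq : B.ε = 1

namespace Blk7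

variable (S : Blk7 G)

theorem a_ne_b : S.a ≠ S.b := fun h => by
  have := S.deg_a; rcases S.deg_b with ⟨h', -⟩ | ⟨h', -⟩ <;> rw [h] at this <;> omega

theorem sum_X {M : Type*} [AddCommMonoid M] (F : IrrCharacter G → M) :
    ∑ χ ∈ S.B.X, F χ = F CfsgLib.Char.irrOne + (F S.a + F S.b) := by
  rw [S.X_eq, Finset.sum_insert (by simp [S.a_ne.symm, S.b_ne.symm]), Finset.sum_pair S.a_ne_b]

theorem sum_Y {M : Type*} [AddCommMonoid M] (F : IrrCharacter G → M) :
    ∑ χ ∈ S.B.Y, F χ = F S.θ + F S.θ' := by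
  rw [S.Y_eq', Finset.sum_pair S.θ_ne]

theorem θ_mem : S.θ ∈ S.B.Y ∧ S.θ' ∈ S.B.Y := by simp [S.Y_eq']

theorem rel {g : G} (hg : ¬ 7 ∣ orderOf g) :
    (S.θ : G → ℂ) g = 1 - (S.a : G → ℂ) g + (S.b : G → ℂ) g ∧
      (S.θ' : G → ℂ) g = 1 - (S.a : G → ℂ) g + (S.b : G → ℂ) g := by
  have h : ∀ θ ∈ S.B.Y, (θ : G → ℂ) g = 1 - (S.a : G → ℂ) g + (S.b : G → ℂ) g := fun θ hθ => by
    have h := S.B.rel θ hθ g hg
    rw [S.sum_X, S.ε_eq, S.s_one, S.s_a, S.s_b, CfsgLib.Char.irrOne_apply] at h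
    push_cast at h
    linear_combination h
  exact ⟨h _ S.θ_mem.1, h _ S.θ_mem.2⟩

theorem mem_iff {χ : IrrCharacter G} (h : ¬ 7 ∣ deg χ) :
    χ = CfsgLib.Char.irrOne ∨ χ = S.a ∨ χ = S.b ∨ χ = S.θ ∨ χ = S.θ' := by
  have := S.B.mem_of_not_dvd h
  rw [Finset.mem_union, S.X_eq, S.Y_eq'] at this
  simpa [or_assoc] using this

end Blk7

variable (hL : Pre G)
include hL

set_option maxHeartbeats 800000 in
theorem exists_seven : Nonempty (Blk7 G) := by
  classical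
  haveI : Fact (Nat.Prime 7) := ⟨by norm_num⟩
  obtain ⟨B⟩ := exists_sc_seven hL
  obtain ⟨x, hx⟩ := exists_prime_orderOf_dvd_card' (G := G) 7 (by rw [hL.card]; norm_num)
  obtain ⟨h1X, hs1⟩ := B.one_X (by norm_num) (by norm_num) hx
  obtain ⟨a₀, b₀, hab, hX⟩ := Finset.card_eq_two.mp
    (show (B.X.erase CfsgLib.Char.irrOne).card = 2 by rw [Finset.card_erase_of_mem h1X, B.card_X])
  obtain ⟨a, b, hle, hab, hX⟩ : ∃ a b, deg a ≤ deg b ∧ a ≠ b ∧ B.X.erase CfsgLib.Char.irrOne = {a, b} := by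
    rcases Nat.le_total (deg a₀) (deg b₀) with h | h
    · exact ⟨a₀, b₀, h, hab, hX⟩
    · exact ⟨b₀, a₀, h, hab.symm, by rw [hX, Finset.pair_comm]⟩
  obtain ⟨θ, θ', hθ, hY⟩ := Finset.card_eq_two.mp (show B.Y.card = 2 by rw [B.card_Y])
  have haX : a ≠ CfsgLib.Char.irrOne ∧ a ∈ B.X := Finset.mem_erase.mp (by rw [hX]; simp)
  have hbX : b ≠ CfsgLib.Char.irrOne ∧ b ∈ B.X := Finset.mem_erase.mp (by rw [hX]; simp)
  have hXall : B.X = {CfsgLib.Char.irrOne, a, b} := by rw [← hX, Finset.insert_erase h1X]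
  have hθY : θ ∈ B.Y ∧ θ' ∈ B.Y := by simp [hY]
  have hsumX : ∀ {M : Type} [AddCommMonoid M] (F : IrrCharacter G → M),
      ∑ χ ∈ B.X, F χ = F CfsgLib.Char.irrOne + (F a + F b) := fun F => by
    rw [hXall, Finset.sum_insert (by simp [haX.1.symm, hbX.1.symm]), Finset.sum_pair hab]
  -- degrees
  have hT := B.deg_rel hθY.1 (by norm_num)
  rw [hsumX, hs1, deg_irrOne, ← sgn_eq (by norm_num) (B.s_sq a haX.2) (B.deg_X a haX.2),
    ← sgn_eq (by norm_num) (B.s_sq b hbX.2) (B.deg_X b hbX.2)] at hT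
  have hfpos : 0 < B.f := B.deg_Y θ hθY.1 ▸ deg_pos θ
  obtain ⟨hεT, hfT⟩ := tsgn_eq (T := totSeven (deg a) (deg b)) B.ε_sq hfpos (by
    rw [hT, totSeven]; push_cast; ring)
  have hdvd : ∀ χ : IrrCharacter G, 443520 % deg χ = 0 := fun χ =>
    Nat.mod_eq_zero_of_dvd (deg_dvd hL χ)
  have hcand : ∀ χ ∈ B.X, χ ≠ CfsgLib.Char.irrOne → deg χ ∈ candSeven := fun χ hχ hne => by
    refine candSeven_mem _ (List.mem_range.mpr (deg_lt hL χ)) (two_le_deg hL hne) (hdvd χ) ?_ (okEleven_deg hL χ)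
    have h := B.deg_X χ hχ
    rcases B.s_sq χ hχ with e | e <;> rw [e] at h <;> omega
  have hθne : θ ≠ CfsgLib.Char.irrOne := fun e => Finset.disjoint_left.mp B.disj h1X (e ▸ hθY.1)
  have hsq : 1 + deg a * deg a + deg b * deg b + 2 * (B.f * B.f) ≤ 443520 := by
    have h := sum_sq_deg hL
    have hle := Finset.sum_le_sum_of_subset_of_nonneg (f := fun χ : IrrCharacter G => (deg χ : ℤ) * deg χ)
      (Finset.subset_univ (B.X ∪ B.Y)) (fun χ _ _ => mul_self_nonneg _)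
    rw [h, Finset.sum_union B.disj, hsumX, hY, Finset.sum_pair hθ, deg_irrOne, B.deg_Y θ hθY.1,
      B.deg_Y θ' hθY.2] at hle
    push_cast at hle
    zify
    linarith
  have hval : validSeven (deg a) (deg b) = true := by
    simp only [validSeven, hεT, hfT, Bool.and_eq_true, decide_eq_true_eq]
    refine ⟨⟨B.deg_Y θ hθY.1 ▸ two_le_deg hL hθne, B.deg_Y θ hθY.1 ▸ hdvd θ, ?_, hsq⟩,
      B.deg_Y θ hθY.1 ▸ okEleven_deg hL θ⟩
    have h := B.deg_f
    rw [mul_comm (3 : ℤ)]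
    push_cast at h
    exact Int.emod_eq_emod_iff_emod_sub_eq_zero.mpr (Int.emod_eq_zero_of_dvd h)
  -- values at a central involution
  obtain ⟨z, hz, hzz, hC, -⟩ := exists_central hL
  have hz1 : z ≠ 1 := fun e => by rw [e, orderOf_one] at hz; norm_num at hz
  have hz7 : ¬ 7 ∣ orderOf z := by rw [hz]; norm_num
  set C := Nat.card (centralizer ({z} : Set G)) with hCdef
  have hC' : C ≤ 5760 := by
    have : ∀ k ∈ bigCents, k ≤ 5760 := by decide
    exact this _ hC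
  set v : IrrCharacter G → ℤ := fun χ => intVal χ hzz with hv
  have hvθ : ∀ η ∈ B.Y, v η = v θ := fun η hη => by
    have h := B.Y_eq η hη θ hθY.1 z hz7
    rw [intVal_spec η hzz, intVal_spec θ hzz] at h
    exact_mod_cast h
  have hvT : B.ε * v θ = 1 + sgn 7 (deg a) * v a + sgn 7 (deg b) * v b := by
    have h := B.rel θ hθY.1 z hz7
    rw [hsumX, hs1, CfsgLib.Char.irrOne_apply, intVal_spec θ hzz, intVal_spec a hzz, intVal_spec b hzz,
      ← sgn_eq (by norm_num) (B.s_sq a haX.2) (B.deg_X a haX.2),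
      ← sgn_eq (by norm_num) (B.s_sq b hbX.2) (B.deg_X b hbX.2)] at h
    push_cast at h
    have : ((B.ε * v θ : ℤ) : ℂ) = ((1 + sgn 7 (deg a) * v a + sgn 7 (deg b) * v b : ℤ) : ℂ) := by
      push_cast; linear_combination h
    exact_mod_cast this
  have hr : B.ε * (1 + sgn 7 (deg a) * v a + sgn 7 (deg b) * v b) = v θ := by
    rw [← hvT, ← mul_assoc]
    rcases B.ε_sq with e | e <;> rw [e] <;> ring
  have hnorm : 1 + v a * v a + v b * v b + 2 * (v θ * v θ) ≤ (C : ℤ) := by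
    have h := CfsgLib.MTwelveUnique.sum_sq_val v (fun χ => intVal_spec χ hzz)
    have hle := Finset.sum_le_sum_of_subset_of_nonneg (f := fun χ : IrrCharacter G => v χ * v χ)
      (Finset.subset_univ (B.X ∪ B.Y)) (fun χ _ _ => mul_self_nonneg _)
    rw [h, Finset.sum_union B.disj, hsumX, hY, Finset.sum_pair hθ, hvθ θ' hθY.2] at hle
    have h1 : v CfsgLib.Char.irrOne = 1 := intVal_irrOne hzz
    rw [h1] at hle
    linarith
  have hlt : ∀ t : ℤ, t * t ≤ v a * v a + v b * v b + v θ * v θ → t * t < (C : ℤ) := fun t ht => by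
    nlinarith [mul_self_nonneg (v θ)]
  have hqa := validVal_of hL hzz hz1 haX.1 (hlt (v a) (by nlinarith [mul_self_nonneg (v b), mul_self_nonneg (v θ)]))
  have hqb := validVal_of hL hzz hz1 hbX.1 (hlt (v b) (by nlinarith [mul_self_nonneg (v a), mul_self_nonneg (v θ)]))
  have hqθ := validVal_of hL hzz hz1 hθne (hlt (v θ) (by nlinarith [mul_self_nonneg (v a), mul_self_nonneg (v b)]))
  rw [B.deg_Y θ hθY.1] at hqθ
  have hinv : ¬ IsConj x x⁻¹ := not_isConj_inv_of_odd (hL.seven x hx).2 (by norm_num) fun h => by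
    have := orderOf_dvd_of_pow_eq_one (x := x) (n := 2) (by rw [sq]; exact h)
    rw [hx] at this; norm_num at this
  have hsqr := B.square_rel (by norm_num) hx hinv hzz v (fun χ => intVal_spec χ hzz) (v θ) hvθ
  rw [hsumX, hs1, ← sgn_eq (by norm_num) (B.s_sq a haX.2) (B.deg_X a haX.2),
    ← sgn_eq (by norm_num) (B.s_sq b hbX.2) (B.deg_X b hbX.2), deg_irrOne,
    show v CfsgLib.Char.irrOne = 1 from intVal_irrOne hzz] at hsqr
  have hda : (deg a : ℚ) ≠ 0 := by exact_mod_cast (deg_pos a).ne'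
  have hdb : (deg b : ℚ) ≠ 0 := by exact_mod_cast (deg_pos b).ne'
  have hdf : (B.f : ℚ) ≠ 0 := by exact_mod_cast hfpos.ne'
  push_cast at hsqr
  field_simp at hsqr
  have hvalv : validSevenVal C (deg a) (deg b) (v a) (v b) = true := by
    simp only [validSevenVal, hεT, hfT, hr, Bool.and_eq_true, decide_eq_true_eq]
    refine ⟨hqθ, hnorm, ?_⟩
    have : (((deg a : ℤ) * deg b * B.f + sgn 7 (deg a) * v a * v a * ((deg b : ℤ) * B.f) +
        sgn 7 (deg b) * v b * v b * ((deg a : ℤ) * B.f) -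
        B.ε * v θ * v θ * ((deg a : ℤ) * deg b) : ℤ) : ℚ) = 0 := by
      push_cast
      linear_combination hsqr
    exact_mod_cast this
  obtain ⟨da, db⟩ := search_seven _ (hcand a haX.2 haX.1) _ (hcand b hbX.2 hbX.1) hle hval C hC _
    (mem_valList hqa hC') _ (mem_valList hqb hC') hvalv
  have hsa := sgn_eq (p := 7) (by norm_num) (B.s_sq a haX.2) (B.deg_X a haX.2)
  have hsb := sgn_eq (p := 7) (by norm_num) (B.s_sq b hbX.2) (B.deg_X b hbX.2)
  rw [da, show sgn 7 55 = -1 from rfl] at hsa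
  have hsb' : B.s b = 1 := by
    rw [← hsb]; rcases db with e | e <;> rw [e] <;> rfl
  have hf : deg b = 99 ∧ B.f = 45 ∧ B.ε = 1 ∨ deg b = 120 ∧ B.f = 66 ∧ B.ε = 1 := by
    rw [← hεT, ← hfT, da]
    rcases db with e | e <;> rw [e]
    · exact Or.inl ⟨rfl, by decide, by decide⟩
    · exact Or.inr ⟨rfl, by decide, by decide⟩
  exact ⟨{
    B := B, a := a, b := b, θ := θ, θ' := θ'
    a_ne := haX.1, b_ne := hbX.1, X_eq := hXall, Y_eq' := hY, θ_ne := hθ
    deg_a := da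
    deg_b := by
      rw [B.deg_Y θ hθY.1, B.deg_Y θ' hθY.2]
      exact hf.imp (fun h => ⟨h.1, h.2.1, h.2.1⟩) (fun h => ⟨h.1, h.2.1, h.2.1⟩)
    s_one := hs1, s_a := hsa.symm, s_b := hsb'
    ε_eq := by rcases hf with ⟨-, -, h⟩ | ⟨-, -, h⟩ <;> exact h }⟩

end CfsgLib.MTwentyTwoUnique
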