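import Cfsg.Agent.Lib.MTwentyTwoUnique.Five
import Mathlib

/-!
Book-keeping of the degrees outside the two principal blocks.
-/

set_option autoImplicit false

noncomputable section

namespace CfsgLib.MTwentyTwoUnique

open Subgroup CfsgLib.InvolChar Cfsg
attribute [local instance] Classical.propDecidable

variable {G : Type*} [Group G] [Fintype G] (hL : Local G)
include hL

theorem rest_deg {χ : IrrCharacter G} (h7 : 7 ∣ deg χ) (h11 : 11 ∣ deg χ) :
    ∃ k, deg χ = 77 * k ∧ (k = 5 ∨ k ∈ ksList) ∧ (5 ∣ deg χ ↔ k = 5) := by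
  obtain ⟨k, hk⟩ := Nat.Coprime.mul_dvd_of_dvd_of_dvd (by norm_num : Nat.Coprime 7 11) h7 h11
  have hlt := deg_lt hL χ
  have hd : k ∣ 5760 := Nat.dvd_of_mul_dvd_mul_left (by norm_num) (hk ▸ deg_dvd hL χ : 7 * 11 * k ∣ 7 * 11 * 5760)
  have key : ∀ j ∈ List.range 9, j ∣ 5760 → (j = 5 ∨ j ∈ ksList) ∧ (5 ∣ 7 * 11 * j ↔ j = 5) := by
    decide +kernel
  obtain ⟨e1, e2⟩ := key k (List.mem_range.mpr (by omega)) hd
  exact ⟨k, by omega, e1, by rw [hk]; exact e2⟩

/-- The characters with degree divisible by 77, split by the 5-part. -/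
theorem rest_split (R : Finset (IrrCharacter G)) (hR : ∀ χ ∈ R, 7 ∣ deg χ ∧ 11 ∣ deg χ) :
    ∃ ks : List ℕ, ks = (R.filter fun χ => ¬ 5 ∣ deg χ).toList.map (fun χ => deg χ / 77) ∧
      (∀ k ∈ ks, k ∈ ksList) ∧ (∀ χ ∈ R.filter (fun χ => 5 ∣ deg χ), deg χ = 385) ∧
      ∀ F : ℕ → ℤ, ∑ χ ∈ R, F (deg χ) =
        (ks.map fun k => F (77 * k)).sum + ((R.filter fun χ => 5 ∣ deg χ).card : ℤ) * F 385 := by
  refine ⟨_, rfl, ?_, ?_, ?_⟩
  · intro k hk
    obtain ⟨χ, hχ, rfl⟩ := List.mem_map.mp hk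
    obtain ⟨hχR, h5⟩ := Finset.mem_filter.mp (Finset.mem_toList.mp hχ)
    obtain ⟨j, hj, h, hiff⟩ := rest_deg hL (hR χ hχR).1 (hR χ hχR).2
    rw [hj, Nat.mul_div_cancel_left _ (by norm_num)]
    exact h.resolve_left fun e => h5 (hiff.mpr e)
  · intro χ hχ
    obtain ⟨hχR, h5⟩ := Finset.mem_filter.mp hχ
    obtain ⟨j, hj, -, hiff⟩ := rest_deg hL (hR χ hχR).1 (hR χ hχR).2
    rw [hj, hiff.mp h5]
  · intro F
    have h5 : ∀ χ ∈ R.filter (fun χ => 5 ∣ deg χ), F (deg χ) = F 385 := by
      intro χ hχ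
      obtain ⟨hχR, h5⟩ := Finset.mem_filter.mp hχ
      obtain ⟨j, hj, -, hiff⟩ := rest_deg hL (hR χ hχR).1 (hR χ hχR).2
      rw [hj, hiff.mp h5]
    rw [← Finset.sum_filter_add_sum_filter_not R (fun χ => 5 ∣ deg χ), Finset.sum_congr rfl h5,
      Finset.sum_const, nsmul_eq_mul, add_comm]
    congr 1
    rw [List.map_map, ← Finset.sum_map_toList]
    refine congrArg List.sum (List.map_congr_left fun χ hχ => ?_)
    obtain ⟨hχR, -⟩ := Finset.mem_filter.mp (Finset.mem_toList.mp hχ)
    obtain ⟨j, hj, -, -⟩ := rest_deg hL (hR χ hχR).1 (hR χ hχR).2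
    show F (deg χ) = F (77 * (deg χ / 77))
    rw [hj, Nat.mul_div_cancel_left _ (by norm_num)]

omit hL in
theorem length_filter_eq (l : List ℕ) (q : ℕ → Bool) :
    ((l.filter q).length : ℤ) = (l.map fun d => if q d then (1 : ℤ) else 0).sum := by
  induction l with
  | nil => simp
  | cons a l ih => by_cases h : q a <;> simp [h, ih, add_comm]

omit hL in
theorem sum_filter_eq (l : List ℕ) (q : ℕ → Bool) (f : ℕ → ℤ) :
    ((l.filter q).map f).sum = (l.map fun d => if q d then f d else 0).sum := by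
  induction l with
  | nil => simp
  | cons a l ih => by_cases h : q a <;> simp [h, ih]

/-- The test passed by the degrees. -/
theorem fiveOk_of (base ks : List ℕ) (m : ℕ) (hks : ∀ k ∈ ks, k ∈ ksList)
    (hres : ∀ d ∈ base, d % 5 ≠ 0 → ∃ χ : IrrCharacter G, deg χ = d)
    (hkres : ∀ k ∈ ks, ∃ χ : IrrCharacter G, deg χ = 77 * k)
    (hsum : ∀ F : ℕ → ℤ, ∑ χ : IrrCharacter G, F (deg χ) =
      (base.map F).sum + (ks.map fun k => F (77 * k)).sum + (m : ℤ) * F 385) :
    fiveOk base ks = true ∧ ks.length = gap base ∧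
      ((base.map fun d => d * d).sum + (ks.map fun k => 5929 * (k * k)).sum + 148225 * m = 443520) := by
  obtain ⟨Z, hZc, hZ, hZmod, hZrel⟩ := exists_five hL
  have hk5 : ∀ k ∈ ks, (77 * k) % 5 ≠ 0 := fun k hk => by
    have key : ∀ j ∈ ksList, (77 * j) % 5 ≠ 0 := by decide
    exact key k (hks k hk)
  have hflt : ∀ f : ℕ → ℤ, ∑ χ ∈ Z, f (deg χ) =
      ((base.filter fun d => d % 5 != 0).map f).sum + (ks.map fun k => f (77 * k)).sum := fun f => by
    have h := hsum fun d => if (d % 5 != 0) then f d else 0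
    rw [← sum_filter_eq] at h
    simp only [show ((385 : ℕ) % 5 != 0) = false from rfl, Bool.false_eq_true, if_false, mul_zero, add_zero] at h
    rw [show (ks.map fun k => if ((77 * k) % 5 != 0) then f (77 * k) else 0) = ks.map (fun k => f (77 * k))
      from List.map_congr_left fun k hk => by simp [hk5 k hk]] at h
    rw [← h, ← Finset.sum_filter]
    refine Finset.sum_congr ?_ fun _ _ => rfl
    ext χ
    simp [hZ χ, Nat.dvd_iff_mod_eq_zero]
  have hcard := hflt fun _ => 1
  simp only [List.map_const', List.sum_replicate, Finset.sum_const, hZc, nsmul_eq_mul, mul_one] at hcard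
  have hlen : (base.filter fun d => d % 5 != 0).length + ks.length = 5 := by
    exact_mod_cast hcard.symm
  have hsq : (base.map fun d => d * d).sum + (ks.map fun k => 5929 * (k * k)).sum + 148225 * m = 443520 := by
    have h := hsum fun d => (d : ℤ) * d
    rw [sum_sq_deg hL] at h
    have e1 : (((base.map fun d => d * d).sum : ℕ) : ℤ) = (base.map fun d : ℕ => (d : ℤ) * d).sum := by
      rw [Nat.cast_list_sum, List.map_map]; simp [Function.comp_def]
    have e2 : (((ks.map fun k => 5929 * (k * k)).sum : ℕ) : ℤ) =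
        (ks.map fun k : ℕ => ((77 * k : ℕ) : ℤ) * ((77 * k : ℕ) : ℤ)).sum := by
      rw [Nat.cast_list_sum, List.map_map]
      refine congrArg List.sum (List.map_congr_left fun k _ => ?_)
      simp only [Function.comp_apply]; push_cast; ring
    have : (((base.map fun d => d * d).sum + (ks.map fun k => 5929 * (k * k)).sum + 148225 * m : ℕ) : ℤ) = (443520 : ℤ) := by
      push_cast
      push_cast at h e1 e2
      linarith
    exact_mod_cast this
  refine ⟨?_, by rw [gap]; omega, hsq⟩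
  simp only [fiveOk, Bool.and_eq_true, decide_eq_true_eq]
  refine ⟨⟨⟨by rw [List.length_append, List.length_map]; exact hlen, by omega, by omega⟩, ?_⟩, ?_⟩
  · intro d hd
    obtain ⟨χ, rfl⟩ : ∃ χ : IrrCharacter G, deg χ = d := by
      rcases List.mem_append.mp hd with h | h
      · obtain ⟨h1, h2⟩ := List.mem_filter.mp h
        exact hres d h1 (by simpa using h2)
      · obtain ⟨k, hk, rfl⟩ := List.mem_map.mp h
        exact hkres k hk
    refine hZmod χ ((hZ χ).mpr fun h5 => ?_)
    rcases List.mem_append.mp hd with h | h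
    · exact absurd (Nat.mod_eq_zero_of_dvd h5) (by simpa using (List.mem_filter.mp h).2)
    · obtain ⟨k, hk, e⟩ := List.mem_map.mp h
      exact hk5 k hk (by rw [show 77 * k = deg χ from e]; exact Nat.mod_eq_zero_of_dvd h5)
  · have h := hflt fun d => sgn 5 d * (d : ℤ)
    rw [List.map_append, List.sum_append, List.map_map]
    refine h.symm.trans ?_
    have h1 := hZrel 1 (by rw [orderOf_one]; norm_num)
    simp only [deg_spec] at h1
    exact_mod_cast h1

end CfsgLib.MTwentyTwoUnique
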