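import Cfsg.Agent.Lib.MTwentyTwoUnique.Pair
import Cfsg.Agent.Lib.SylowNumbers.TwoPrimeAddOne
import Mathlib

/-!
The largest normal 2-subgroup of the centraliser of an involution, and general tools.
-/

set_option autoImplicit false
set_option linter.style.haveILetI false

noncomputable section

namespace CfsgLib.MTwentyTwoUnique

open Subgroup Cfsg
open scoped Pointwise
attribute [local instance] Classical.propDecidable

variable {G : Type*} [Group G] [Fintype G]

/-- A subgroup properly inside a subgroup of prime power order is normalised by an outside element. -/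
theorem exists_normalizing {p k : ℕ} [Fact p.Prime] {F H : Subgroup G} (hF : Nat.card F = p ^ k) (hle : H ≤ F)
    (hne : H ≠ F) : ∃ g ∈ F, g ∉ H ∧ g ∈ normalizer (H : Set G) := by
  haveI : Group.IsNilpotent F := (IsPGroup.of_card hF).isNilpotent
  have hlt : H.subgroupOf F < ⊤ := lt_top_iff_ne_top.2 fun e => hne (le_antisymm hle (subgroupOf_eq_top.1 e))
  obtain ⟨g, hg, hg'⟩ := SetLike.exists_of_lt (Group.normalizerCondition_of_isNilpotent _ hlt)
  rw [← subgroupOf_normalizer_eq hle] at hg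
  exact ⟨g, g.2, hg', hg⟩

/-- A subgroup of order nine acting freely on a set of elements. -/
theorem nine_dvd_of_free {P : Subgroup G} (hP : Nat.card P = 9) (X : Set G)
    (hX : ∀ p ∈ P, ∀ r ∈ X, p * r * p⁻¹ ∈ X) (hfree : ∀ p ∈ P, p ≠ 1 → ∀ r ∈ X, ¬ Commute p r) :
    9 ∣ Nat.card X := by
  letI : MulAction P X :=
    { smul := fun p r => ⟨(p : G) * r * (p : G)⁻¹, hX p p.2 r r.2⟩
      one_smul := fun r => Subtype.ext (by show ((1 : P) : G) * (r : G) * ((1 : P) : G)⁻¹ = r; simp)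
      mul_smul := fun p q r => Subtype.ext (by
        show ((p * q : P) : G) * (r : G) * ((p * q : P) : G)⁻¹ = (p : G) * ((q : G) * r * (q : G)⁻¹) * (p : G)⁻¹
        rw [Subgroup.coe_mul]; group) }
  have h : ∀ r : X, MulAction.stabilizer P r = ⊥ := fun r => (Subgroup.eq_bot_iff_forall _).2 fun p hp => by
    by_contra hne
    have h' : (p : G) * r * (p : G)⁻¹ = r := congrArg Subtype.val (MulAction.mem_stabilizer_iff.1 hp)
    exact hfree p p.2 (fun e => hne (Subtype.ext e)) r r.2 (mul_inv_eq_iff_eq_mul.1 h')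
  rw [Nat.card_congr (MulAction.selfEquivOrbitsQuotientProd h), Nat.card_prod, hP]
  exact dvd_mul_left _ _

omit [Fintype G] in
/-- The product of two subgroups centralising each other and meeting trivially. -/
theorem exists_join (A B : Subgroup G) (hc : ∀ a ∈ A, ∀ b ∈ B, Commute a b) (hd : ∀ x ∈ A, x ∈ B → x = 1) :
    ∃ E : Subgroup G, (∀ g, g ∈ E ↔ ∃ a ∈ A, ∃ b ∈ B, a * b = g) ∧ A ≤ E ∧ B ≤ E ∧
      Nat.card E = Nat.card A * Nat.card B := by
  let E : Subgroup G :=
    { carrier := {g | ∃ a ∈ A, ∃ b ∈ B, a * b = g}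
      one_mem' := ⟨1, one_mem A, 1, one_mem B, mul_one 1⟩
      mul_mem' := by
        rintro _ _ ⟨a, ha, b, hb, rfl⟩ ⟨a', ha', b', hb', rfl⟩
        exact ⟨a * a', mul_mem ha ha', b * b', mul_mem hb hb', by
          rw [mul_assoc, ← mul_assoc a', (hc a' ha' b hb).eq]; group⟩
      inv_mem' := by
        rintro _ ⟨a, ha, b, hb, rfl⟩
        exact ⟨a⁻¹, inv_mem ha, b⁻¹, inv_mem hb, by
          rw [mul_inv_rev, ((hc a ha b hb).inv_inv).eq]⟩ }
  refine ⟨E, fun g => Iff.rfl, fun a ha => ⟨a, ha, 1, one_mem B, mul_one a⟩,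
    fun b hb => ⟨1, one_mem A, b, hb, one_mul b⟩, ?_⟩
  rw [← Nat.card_prod]
  refine (Nat.card_congr (Equiv.ofBijective
    (fun q : A × B => (⟨(q.1 : G) * q.2, q.1, q.1.2, q.2, q.2.2, rfl⟩ : E)) ⟨fun q q' h => ?_, fun g => ?_⟩)).symm
  · have h' : (q.1 : G) * q.2 = q'.1 * q'.2 := congrArg Subtype.val h
    have h1 : (q'.1 : G)⁻¹ * q.1 = q'.2 * (q.2 : G)⁻¹ := by
      calc (q'.1 : G)⁻¹ * q.1 = (q'.1 : G)⁻¹ * ((q.1 : G) * q.2) * (q.2 : G)⁻¹ := by group
        _ = _ := by rw [h']; group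
    have h2 := hd _ (mul_mem (inv_mem q'.1.2) q.1.2) (h1 ▸ mul_mem q'.2.2 (inv_mem q.2.2))
    have e1 : (q.1 : G) = q'.1 := (inv_mul_eq_one.1 h2).symm
    refine Prod.ext (Subtype.ext e1) (Subtype.ext ?_)
    rw [e1] at h'
    exact mul_left_cancel h'
  · obtain ⟨a, ha, b, hb, e⟩ := g.2
    exact ⟨(⟨a, ha⟩, ⟨b, hb⟩), Subtype.ext e⟩

variable (hL : Local G)
include hL

theorem two_elem_pow {H : Subgroup G} (hH : Nat.card H ∣ 128) {h : G} (hh : h ∈ H) : h ^ 2 ^ 7 = 1 :=
  orderOf_dvd_iff_pow_eq_one.1 ((Subgroup.orderOf_dvd_natCard H hh).trans (by exact hH))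

/-- A 2-subgroup over the four-group, normalised by the element of order three, has order `1` mod 3. -/
theorem card_mod_three {y : G} (hy : orderOf y = 3) {V : Subgroup G}
    (hV : ∀ t, t ∈ V ↔ Commute y t ∧ t * t = 1) (hVc : Nat.card V = 4) {H : Subgroup G}
    (hH : Nat.card H ∣ 128) (hyH : ∀ h ∈ H, y * h * y⁻¹ ∈ H) (hVH : V ≤ H) : Nat.card H % 3 = 1 := by
  haveI : Fact (Nat.Prime 3) := ⟨by norm_num⟩
  have hinj : Function.Injective (fun h : H => (⟨y * h * y⁻¹, hyH h h.2⟩ : H)) := fun a b e =>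
    Subtype.ext (mul_left_cancel (mul_right_cancel (congrArg Subtype.val e)))
  let σ : Equiv.Perm H := Equiv.ofBijective _ (Finite.injective_iff_bijective.1 hinj)
  have hit : ∀ (n : ℕ) (h : H), ((σ ^ n) h : G) = y ^ n * h * (y ^ n)⁻¹ := by
    intro n
    induction n with
    | zero => simp
    | succ n ih =>
      intro h
      rw [pow_succ', Equiv.Perm.mul_apply]
      show y * ((σ ^ n) h : G) * y⁻¹ = _
      rw [ih, pow_succ']
      group
  have hy3 : y ^ 3 = 1 := hy ▸ pow_orderOf_eq_one y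
  have hmod := CfsgLib.KnownSimple.Order7920.perm_fixed_modEq σ
    (Equiv.ext fun h => Subtype.ext (by rw [hit, hy3]; simp))
  have hfix : Nat.card {h : H // σ h = h} = 4 := by
    rw [← hVc]
    refine Nat.card_congr
      { toFun := fun h => ⟨h.1, (hV _).2 ?_⟩
        invFun := fun v => ⟨⟨v, hVH v.2⟩, Subtype.ext (by
          show y * (v : G) * y⁻¹ = v
          rw [((hV _).1 v.2).1.eq, mul_inv_cancel_right])⟩
        left_inv := fun _ => rfl
        right_inv := fun _ => rfl }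
    have hc : Commute y (h.1 : G) := mul_inv_eq_iff_eq_mul.1 (congrArg Subtype.val h.2)
    exact ⟨hc, sq_one_of_two_elem hL hy hc (two_elem_pow hL hH h.1.2)⟩
  rw [hfix] at hmod
  exact hmod

/-- An element of 2-power order in the centraliser of an involution inverts the element of order three. -/
theorem exists_inverting {y t : G} (hy : orderOf y = 3) (hyt : Commute y t) (htt : t * t = 1) (ht : t ≠ 1) :
    ∃ h : G, Commute h t ∧ h * y * h⁻¹ = y⁻¹ ∧ h ^ 2 ^ 7 = 1 := by
  haveI : Fact (Nat.Prime 3) := ⟨by norm_num⟩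
  obtain ⟨g, hg⟩ := isConj_iff.1 (isConj_inv_three hL hy)
  obtain ⟨P, hP⟩ := (IsPGroup.of_card (p := 3) (n := 1) (by rw [Nat.card_zpowers, hy, pow_one]) :
    IsPGroup 3 (zpowers y)).exists_le_sylow
  have hPc : Nat.card (P : Subgroup G) = 9 :=
    CfsgLib.SmallGroups.card_sylow_eq (show Nat.card G = 3 ^ 2 * 49280 by rw [hL.card]; norm_num) (by norm_num) P
  have hyP : y ∈ (P : Subgroup G) := hP (mem_zpowers y)
  set s := g * t * g⁻¹ with hs
  have hys : Commute y s := by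
    have h : Commute (g * y * g⁻¹) (g * t * g⁻¹) := hyt.map (MulAut.conj g)
    rw [hg] at h
    exact inv_inv y ▸ h.inv_left
  have hss : s * s = 1 := by
    rw [hs, show g * t * g⁻¹ * (g * t * g⁻¹) = g * (t * t) * g⁻¹ by group, htt, mul_one, mul_inv_cancel]
  obtain ⟨p, hpP, hp⟩ := exists_conj_mem hL hy hPc hyP hys hss (fun e => ht (conj_eq_one_iff.mp e)) hyt htt ht
  haveI : IsMulCommutative (P : Subgroup G) :=
    IsPGroup.isMulCommutative_of_card_eq_prime_sq (p := 3) (by rw [hPc]; rfl)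
  have hpy : Commute p y := congrArg Subtype.val
    ((IsMulCommutative.is_comm (M := (P : Subgroup G))).comm ⟨p, hpP⟩ ⟨y, hyP⟩)
  set k := p * g with hk
  have hkt : Commute k t := by
    have : k * t * k⁻¹ = t :=
      calc k * t * k⁻¹ = p * s * p⁻¹ := by rw [hk, hs]; group
        _ = t := hp
    exact mul_inv_eq_iff_eq_mul.1 this
  have hky : k * y * k⁻¹ = y⁻¹ := by
    rw [hk, show p * g * y * (p * g)⁻¹ = p * (g * y * g⁻¹) * p⁻¹ by group, hg, hpy.inv_right.eq, mul_inv_cancel_right]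
  -- pass to the 2-part
  have hd : orderOf k ∣ 2 ^ 7 * 3465 := by
    have := orderOf_dvd_natCard k
    rwa [hL.card] at this
  refine ⟨k ^ 3465, hkt.pow_left _, ?_, ?_⟩
  · have hrep : ∀ n : ℕ, k ^ (2 * n + 1) * y * (k ^ (2 * n + 1))⁻¹ = y⁻¹ := by
      intro n
      induction n with
      | zero => simpa using hky
      | succ n ih =>
        calc k ^ (2 * (n + 1) + 1) * y * (k ^ (2 * (n + 1) + 1))⁻¹
            = k * (k * (k ^ (2 * n + 1) * y * (k ^ (2 * n + 1))⁻¹) * k⁻¹) * k⁻¹ := by group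
          _ = y⁻¹ := by
            rw [ih, show k * y⁻¹ * k⁻¹ = (k * y * k⁻¹)⁻¹ by group, hky, inv_inv, hky]
    exact hrep 1732
  · rw [← pow_mul, mul_comm]
    exact orderOf_dvd_iff_pow_eq_one.1 hd

set_option maxHeartbeats 800000 in
/-- The largest normal 2-subgroup of the centraliser of an involution. -/
theorem exists_fitting {y t : G} (hy : orderOf y = 3) (hyt : Commute y t) (htt : t * t = 1) (ht : t ≠ 1) :
    ∃ F : Subgroup G, F ≤ centralizer ({t} : Set G) ∧ Nat.card F = 64 ∧ (∀ f ∈ F, y * f * y⁻¹ ∈ F) ∧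
      ∀ H : Subgroup G, H ≤ centralizer ({t} : Set G) → Nat.card H ∣ 128 → (∀ h ∈ H, y * h * y⁻¹ ∈ H) → H ≤ F := by
  haveI : Fact (Nat.Prime 2) := ⟨Nat.prime_two⟩
  obtain ⟨V, hV, hVc⟩ := exists_four hL hy
  set C := centralizer ({t} : Set G) with hC
  have hCc : Nat.card C = 384 := card_cent_invol hL htt ht
  have hyC : y ∈ C := mem_centralizer_singleton_iff.mpr hyt.eq
  set Y : C := ⟨y, hyC⟩ with hY
  have hSc : ∀ S : Sylow 2 C, Nat.card (S : Subgroup C) = 128 := fun S =>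
    CfsgLib.SmallGroups.card_sylow_eq (show Nat.card C = 2 ^ 7 * 3 by rw [hCc]; norm_num) (by norm_num) S
  have hn3 : Nat.card (Sylow 2 C) = 3 := by
    have hd : Nat.card (Sylow 2 C) ∣ 3 :=
      CfsgLib.SmallGroups.card_sylow_dvd_of_card_eq (show Nat.card C = 2 ^ 7 * 3 by rw [hCc]; norm_num) (by norm_num)
    refine ((Nat.dvd_prime (by norm_num)).1 hd).resolve_left fun h1 => ?_
    obtain ⟨S⟩ : Nonempty (Sylow 2 C) := inferInstance
    haveI := CfsgLib.SmallGroups.sylow_normal_of_card_eq_one h1 S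
    obtain ⟨h, hht, hhy, hh2⟩ := exists_inverting hL hy hyt htt ht
    set H' : C := ⟨h, mem_centralizer_singleton_iff.mpr hht.eq⟩ with hH'
    have hmem : ∀ c : C, c ^ 2 ^ 7 = 1 → c ∈ (S : Subgroup C) := fun c hc => by
      obtain ⟨i, -, hi⟩ := (Nat.dvd_prime_pow Nat.prime_two).1 (orderOf_dvd_of_pow_eq_one hc)
      obtain ⟨S', hS'⟩ := (IsPGroup.of_card (n := i) (by rw [Nat.card_zpowers, hi]) :
        IsPGroup 2 (zpowers c)).exists_le_sylow
      haveI : Subsingleton (Sylow 2 C) := (Nat.card_eq_one_iff_unique.1 h1).1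
      exact Subsingleton.elim S' S ▸ hS' (mem_zpowers c)
    have hh : H' ∈ (S : Subgroup C) := hmem H' (Subtype.ext (by simpa [hH'] using hh2))
    have hq : H' * Y * H'⁻¹ * Y⁻¹ ∈ (S : Subgroup C) := by
      rw [show H' * Y * H'⁻¹ * Y⁻¹ = H' * (Y * H'⁻¹ * Y⁻¹) by group]
      exact mul_mem hh (Subgroup.Normal.conj_mem inferInstance _ (inv_mem hh) Y)
    have hd := Subgroup.orderOf_dvd_natCard (S : Subgroup C) hq
    rw [hSc, ← Subgroup.orderOf_coe] at hd
    have e : ((H' * Y * H'⁻¹ * Y⁻¹ : C) : G) = (y ^ 2)⁻¹ := by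
      show h * y * h⁻¹ * y⁻¹ = _
      rw [hhy, sq, mul_inv_rev]
    rw [e, orderOf_inv, orderOf_pow' y (by norm_num), hy] at hd
    norm_num at hd
  -- `Y` moves every Sylow subgroup
  have hmove : ∀ S : Sylow 2 C, Y • S ≠ S := by
    intro S hfix
    have hYN : Y ∈ normalizer ((S : Subgroup C) : Set C) := Sylow.smul_eq_iff_mem_normalizer.1 hfix
    have h3 : 3 ∣ Nat.card (normalizer ((S : Subgroup C) : Set C)) := by
      have := Subgroup.orderOf_dvd_natCard _ hYN
      rwa [← Subgroup.orderOf_coe, hy] at this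
    have h128 : 128 ∣ Nat.card (normalizer ((S : Subgroup C) : Set C)) := hSc S ▸ card_dvd_of_le le_normalizer
    have h384 : 384 ∣ Nat.card (normalizer ((S : Subgroup C) : Set C)) :=
      Nat.Coprime.mul_dvd_of_dvd_of_dvd (by norm_num : Nat.Coprime 128 3) h128 h3
    have hn := CfsgLib.SmallGroups.card_sylow_mul_card_normalizer S
    rw [hn3, hCc] at hn
    have := Nat.le_of_dvd Nat.card_pos h384
    omega
  obtain ⟨S⟩ : Nonempty (Sylow 2 C) := inferInstance
  have hY3 : Y ^ 3 = 1 := Subtype.ext (by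
    show y ^ 3 = 1
    rw [← hy]; exact pow_orderOf_eq_one y)
  have hY4 : Y • Y • Y • S = S := by rw [← mul_smul, ← mul_smul, ← pow_three', hY3, one_smul]
  have hall : ∀ S' : Sylow 2 C, S' = S ∨ S' = Y • S ∨ S' = Y • Y • S := by
    intro S'
    haveI := Fintype.ofFinite (Sylow 2 C)
    have h13 : Y • Y • S ≠ S := fun e => hmove S (by nth_rewrite 2 [← hY4]; rw [e])
    have hu : ({S, Y • S, Y • Y • S} : Finset (Sylow 2 C)) = Finset.univ := by
      refine Finset.eq_univ_of_card _ ?_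
      rw [Finset.card_insert_of_notMem (by simp [(hmove S).symm, h13.symm]),
        Finset.card_pair (hmove (Y • S)).symm, ← Nat.card_eq_fintype_card, hn3]
    have := Finset.mem_univ S'
    rw [← hu] at this
    simpa using this
  set F₀ : Subgroup C := (S : Subgroup C) ⊓ (Y • S : Sylow 2 C) ⊓ (Y • Y • S : Sylow 2 C) with hF₀
  have hF₀all : ∀ c : C, c ∈ F₀ ↔ ∀ S' : Sylow 2 C, c ∈ (S' : Subgroup C) := fun c => by
    refine ⟨fun h S' => ?_, fun h => ⟨⟨h _, h _⟩, h _⟩⟩
    rcases hall S' with rfl | rfl | rfl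
    exacts [h.1.1, h.1.2, h.2]
  have hsmul : ∀ (S' : Sylow 2 C) (c : C), c ∈ ((Y • S' : Sylow 2 C) : Subgroup C) ↔ Y⁻¹ * c * Y ∈ (S' : Subgroup C) :=
    fun S' c => by
      show c ∈ (MulAut.conj Y • (S' : Subgroup C)) ↔ _
      rw [Subgroup.mem_pointwise_smul_iff_inv_smul_mem]
      simp [MulAut.smul_def]
  set F := F₀.map C.subtype with hF
  have hyF : ∀ f ∈ F, y * f * y⁻¹ ∈ F := by
    rintro _ ⟨c, hc, rfl⟩
    refine ⟨Y * c * Y⁻¹, (hF₀all _).2 fun S' => ?_, rfl⟩
    have h := (hsmul (Y⁻¹ • S') (Y * c * Y⁻¹))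
    rw [smul_inv_smul] at h
    rw [h, show Y⁻¹ * (Y * c * Y⁻¹) * Y = c by group]
    exact (hF₀all c).1 hc _
  have hmax : ∀ H : Subgroup G, H ≤ C → Nat.card H ∣ 128 → (∀ h ∈ H, y * h * y⁻¹ ∈ H) → H ≤ F := by
    intro H hHC hH hyH
    obtain ⟨i, -, hi⟩ := (Nat.dvd_prime_pow Nat.prime_two).1 (show Nat.card H ∣ 2 ^ 7 from hH)
    obtain ⟨S', hS'⟩ := (IsPGroup.of_card (n := i)
      (by rw [Nat.card_congr (subgroupOfEquivOfLe hHC).toEquiv, hi]) : IsPGroup 2 (H.subgroupOf C)).exists_le_sylow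
    have hsurj : ∀ c ∈ H, y⁻¹ * c * y ∈ H := fun c hc => by
      have h1 := hyH _ (hyH c hc)
      have hy3 : y ^ 3 = 1 := hy ▸ pow_orderOf_eq_one y
      have e : y⁻¹ = y * y := inv_eq_of_mul_eq_one_left (by rw [mul_assoc, ← pow_three, hy3])
      rwa [show y * (y * c * y⁻¹) * y⁻¹ = y * y * c * (y * y)⁻¹ by group, ← e, inv_inv] at h1
    have h2 : H.subgroupOf C ≤ ((Y • S' : Sylow 2 C) : Subgroup C) := fun c hc =>
      (hsmul _ _).2 (hS' (hsurj _ hc))
    have h3 : H.subgroupOf C ≤ ((Y • Y • S' : Sylow 2 C) : Subgroup C) := fun c hc =>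
      (hsmul _ _).2 (h2 (hsurj _ hc))
    intro h hh
    refine ⟨⟨h, hHC hh⟩, (hF₀all _).2 fun T => ?_, rfl⟩
    -- the three conjugates of `S'` are all the Sylow subgroups
    haveI := Fintype.ofFinite (Sylow 2 C)
    have hY4' : Y • Y • Y • S' = S' := by rw [← mul_smul, ← mul_smul, ← pow_three', hY3, one_smul]
    have h13 : Y • Y • S' ≠ S' := fun e => hmove S' (by nth_rewrite 2 [← hY4']; rw [e])
    have hu : ({S', Y • S', Y • Y • S'} : Finset (Sylow 2 C)) = Finset.univ := by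
      refine Finset.eq_univ_of_card _ ?_
      rw [Finset.card_insert_of_notMem (by simp [(hmove S').symm, h13.symm]),
        Finset.card_pair (hmove (Y • S')).symm, ← Nat.card_eq_fintype_card, hn3]
    have := Finset.mem_univ T
    rw [← hu] at this
    simp only [Finset.mem_insert, Finset.mem_singleton] at this
    rcases this with rfl | rfl | rfl
    exacts [hS' hh, h2 hh, h3 hh]
  refine ⟨F, fun g hg => ?_, ?_, hyF, hmax⟩
  · obtain ⟨c, -, rfl⟩ := hg
    exact c.2
  have hFc : Nat.card F = Nat.card F₀ := card_map_of_injective C.subtype_injective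
  have hi : ∀ S' : Sylow 2 C, (S' : Subgroup C).index = 3 := fun S' => by
    have h := (S' : Subgroup C).card_mul_index
    rw [hSc, hCc] at h
    omega
  have hpow2 : ∀ (S' : Sylow 2 C) (K : Subgroup C), K ≤ (S' : Subgroup C) → ∃ i ≤ 7, Nat.card K = 2 ^ i :=
    fun S' K hK => (Nat.dvd_prime_pow Nat.prime_two).1 ((card_dvd_of_le hK).trans (dvd_of_eq (hSc S')))
  obtain ⟨i, hi7, hK2⟩ := hpow2 S ((S : Subgroup C) ⊓ (Y • S : Sylow 2 C)) inf_le_left
  obtain ⟨j, hj7, hF2⟩ := hpow2 S F₀ (inf_le_left.trans inf_le_left)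
  have e1 := ((S : Subgroup C) ⊓ (Y • S : Sylow 2 C)).card_mul_index
  have e2 := F₀.card_mul_index
  have l1 := Subgroup.index_inf_le (H := (S : Subgroup C)) (K := ((Y • S : Sylow 2 C) : Subgroup C))
  have l2 := Subgroup.index_inf_le (H := (S : Subgroup C) ⊓ (Y • S : Sylow 2 C))
    (K := ((Y • Y • S : Sylow 2 C) : Subgroup C))
  rw [← hF₀, hi] at l2
  rw [hi, hi] at l1
  rw [hCc] at e1 e2
  rw [hK2] at e1
  have i6 : ((S : Subgroup C) ⊓ (Y • S : Sylow 2 C)).index ≤ 6 := by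
    interval_cases i <;> norm_num at e1 <;> omega
  have hd : Nat.card F ∣ 128 := hFc ▸ (dvd_of_eq hF2).trans (pow_dvd_pow 2 hj7)
  have hmod := card_mod_three hL hy hV hVc hd hyF (hmax V (fun v hv => mem_centralizer_singleton_iff.mpr
    (commute_invol_cent_three hL hy ((hV v).1 hv).1 ((hV v).1 hv).2 hyt htt).eq) (by rw [hVc]; norm_num)
    fun v hv => by
      rw [((hV v).1 hv).1.eq, mul_inv_cancel_right]
      exact hv)
  rw [hFc, hF2] at hmod ⊢
  rw [hF2] at e2
  interval_cases j <;> omega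

end CfsgLib.MTwentyTwoUnique
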