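import Cfsg.Agent.Lib.MTwentyTwoUnique.DegSeven
import Mathlib

/-!
An element of order five is self-centralising; the five characters of degree prime to five.
-/

set_option autoImplicit false

noncomputable section

namespace CfsgLib.MTwentyTwoUnique

open Subgroup CfsgLib.InvolChar CfsgLib.Blocks CfsgLib.Blocks.PrimeSylow Cfsg
open scoped ComplexConjugate
attribute [local instance] Classical.propDecidable

variable {G : Type*} [Group G] [Fintype G] (hL : Local G)
include hL

theorem five_centralizer {x : G} (hx : orderOf x = 5) :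
    Nat.card (centralizer ({x} : Set G)) = 5 := by
  classical
  haveI : Fact (Nat.Prime 5) := ⟨by norm_num⟩
  haveI := hL.simple
  obtain ⟨P, hPx⟩ := (IsPGroup.of_card (p := 5) (n := 1) (by rw [Nat.card_zpowers, hx, pow_one]) :
    IsPGroup 5 (zpowers x)).exists_le_sylow
  have hP : Nat.card (P : Subgroup G) = 5 := by
    simpa using CfsgLib.SmallGroups.card_sylow_eq (show Nat.card G = 5 ^ 1 * 88704 by rw [hL.card]; norm_num)
      (by norm_num) P
  have hPe : zpowers x = (P : Subgroup G) := eq_of_le_of_card_ge hPx (by rw [hP, Nat.card_zpowers, hx])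
  have hC : centralizer ({x} : Set G) = centralizer ((P : Subgroup G) : Set G) := by
    rw [← hPe, zpowers_eq_closure, centralizer_closure]
  have hN : Nat.card (normalizer ((P : Subgroup G) : Set G)) = 20 := hPe ▸ hL.five x hx
  have hce := CfsgLib.SmallGroups.Order459648.card_centralizer_mul_relIndex (P : Subgroup G)
  rw [hN] at hce
  set e := (centralizer ((P : Subgroup G) : Set G)).relIndex (normalizer ((P : Subgroup G) : Set G)) with he
  have he4 : e ∣ 4 := relIndex_dvd P hP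
  have he1 : e ≠ 1 := fun h => CfsgLib.SmallGroups.not_normalizer_le_centralizer (not_comm hL)
    (by rw [hL.card]; norm_num) P (Subgroup.relIndex_eq_one.mp h)
  rw [hC]
  have key : e = 2 ∨ e = 4 := by
    have : ∀ k ∈ Nat.divisors 4, k ≠ 1 → k = 2 ∨ k = 4 := by decide
    exact this e (Nat.mem_divisors.mpr ⟨he4, by norm_num⟩) he1
  rcases key with h2 | h4
  swap
  · rw [h4] at hce; omega
  exfalso
  obtain ⟨M, hM⟩ := CfsgLib.Invol.exists_isPModular 5 (by norm_num)
  haveI := hM.2.1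
  obtain ⟨X, Y, hB, hXY, hXc, hYc, -, εX, ε, hX, hε, hYdeg, hYeq, hYrel⟩ :=
    principal_block_prime_sylow P hM hP 2 h2
  have hdeg : ∀ χ : IrrCharacter G, charDegree (χ : G → ℂ) = deg χ :=
    CfsgLib.SmallGroups.BrauerFew.deg_eq_charDegree
  have hone : CfsgLib.Char.irrOne ∈ X := by
    have h : (CfsgLib.Char.irrOne : IrrCharacter G) ∈ X ∪ Y := hB ▸ irrOne_mem_principalBlock
    refine h.resolve_right fun h' => ?_
    have h1 := hYdeg _ h'
    rw [hdeg, deg_irrOne] at h1
    rcases hε with e | e <;> rw [e] at h1 <;> exact absurd h1 (by decide)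
  obtain ⟨c₁, c₂, hne, hXe⟩ := Set.ncard_eq_two.mp (show X.ncard = 2 from hXc)
  obtain ⟨χ, hχ, hXe⟩ : ∃ χ, χ ≠ CfsgLib.Char.irrOne ∧ X = {CfsgLib.Char.irrOne, χ} := by
    rw [hXe] at hone
    rcases hone with h | h
    · exact ⟨c₂, h ▸ hne.symm, h ▸ hXe⟩
    · rw [Set.mem_singleton_iff] at h
      exact ⟨c₁, h ▸ hne, by rw [h, Set.pair_comm]; exact hXe⟩
  obtain ⟨θ, hθ⟩ : ∃ θ, θ ∈ Y := by
    rcases Set.eq_empty_or_nonempty Y with h | h
    · rw [h] at hYc; simp at hYc
    · exact h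
  have hone' : CfsgLib.Char.irrOne ∈ X := by rw [hXe]; simp
  have hχX : χ ∈ X := by rw [hXe]; simp
  have hs1 : εX CfsgLib.Char.irrOne = 1 := by
    have h1 := (hX _ hone').2.1
    rw [hdeg, deg_irrOne] at h1
    rcases (hX _ hone').1 with e | e
    · exact e
    · rw [e] at h1; exact absurd h1 (by decide)
  have hsχ : sgn 5 (deg χ) = εX χ :=
    sgn_eq (by norm_num) (hX χ hχX).1 (by
      have h := (hX χ hχX).2.1
      rw [hdeg] at h
      exact Int.ModEq.dvd h.symm)
  have hrel := hYrel θ hθ 1 (by rw [orderOf_one]; norm_num)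
  rw [hXe, finsum_mem_pair hχ.symm, hs1, CfsgLib.Char.irrOne_apply, deg_spec θ, deg_spec χ] at hrel
  have hrelz : ε * (deg θ : ℤ) = 1 + εX χ * (deg χ : ℤ) := by
    have : ((ε * (deg θ : ℤ) : ℤ) : ℂ) = ((1 + εX χ * (deg χ : ℤ) : ℤ) : ℂ) := by
      push_cast; push_cast at hrel; linear_combination hrel
    exact_mod_cast this
  have hθne : θ ≠ CfsgLib.Char.irrOne := fun e => Set.disjoint_left.mp hXY hone' (e ▸ hθ)
  obtain ⟨S⟩ := exists_seven hL.toPre
  have hok : ∀ η : IrrCharacter G, η ≠ CfsgLib.Char.irrOne → deg η % 7 = 0 ∨ deg η ∈ [55, 99, 45, 120, 66] := by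
    intro η hη
    by_cases h7 : 7 ∣ deg η
    · exact Or.inl (Nat.mod_eq_zero_of_dvd h7)
    rcases S.mem_iff h7 with e | e | e | e | e
    · exact absurd e hη
    all_goals rcases S.deg_b with ⟨h, h', h''⟩ | ⟨h, h', h''⟩ <;> simp [e, S.deg_a, h, h', h'']
  have hf : (1 + sgn 5 (deg χ) * deg χ).natAbs = deg θ := by
    rw [hsχ, ← hrelz]
    rcases hε with e | e <;> simp [e]
  have hv : validFiveTwo (deg χ) = true := by
    simp only [validFiveTwo, hf, Bool.and_eq_true, decide_eq_true_eq]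
    refine ⟨⟨⟨two_le_deg hL hχ, Nat.mod_eq_zero_of_dvd (deg_dvd hL χ), ?_, two_le_deg hL hθne,
      Nat.mod_eq_zero_of_dvd (deg_dvd hL θ), ?_⟩, hok χ hχ⟩, hok θ hθne⟩
    · have h := Int.ModEq.dvd (hX χ hχX).2.1.symm
      rw [hdeg] at h
      rcases (hX χ hχX).1 with e | e <;> rw [e] at h <;> omega
    · have h := hYdeg θ hθ
      rw [hdeg] at h
      have h' := Int.ModEq.dvd h.symm
      rcases hε with e | e <;> rw [e] at h' <;> omega
  rw [search_five_two _ (List.mem_range.mpr (deg_lt hL χ))] at hv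
  exact Bool.false_ne_true hv

/-- The characters of degree prime to five. -/
theorem exists_five : ∃ Z : Finset (IrrCharacter G), Z.card = 5 ∧ (∀ χ, χ ∈ Z ↔ ¬ 5 ∣ deg χ) ∧
    (∀ χ ∈ Z, deg χ % 5 = 1 ∨ deg χ % 5 = 4) ∧
    ∀ g : G, ¬ 5 ∣ orderOf g → ∑ χ ∈ Z, (sgn 5 (deg χ) : ℂ) * (χ : G → ℂ) g = 0 := by
  classical
  haveI : Fact (Nat.Prime 5) := ⟨by norm_num⟩
  haveI := hL.simple
  obtain ⟨P⟩ : Nonempty (Sylow 5 G) := inferInstance
  obtain ⟨hP, hC, he⟩ := sylow_data hL (c := 5) (N := 20) (by norm_num) (by norm_num)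
    (fun x hx => ⟨five_centralizer hL hx, hL.five x hx⟩) P
  obtain ⟨B⟩ := exists_sc P hP hC 4 (by omega)
  obtain ⟨η, hη⟩ := Finset.card_eq_one.mp (show B.Y.card = 1 by rw [B.card_Y])
  have hηY : η ∈ B.Y := by simp [hη]
  refine ⟨B.X ∪ B.Y, by rw [Finset.card_union_of_disjoint B.disj, B.card_X, B.card_Y], fun χ => ⟨fun h => ?_, B.mem_of_not_dvd⟩,
    fun χ h => ?_, fun g hg => ?_⟩
  · rcases Finset.mem_union.mp h with h | h
    · exact B.not_dvd_of_mem_X h
    · rw [B.deg_Y χ h]; exact B.not_dvd_f (by norm_num)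
  · rcases Finset.mem_union.mp h with h | h
    · have h1 := B.deg_X χ h
      rcases B.s_sq χ h with e | e <;> rw [e] at h1 <;> omega
    · have h1 := B.deg_f
      rw [← B.deg_Y χ h] at h1
      rcases B.ε_sq with e | e <;> rw [e] at h1 <;> omega
  · have hsη : sgn 5 (deg η) = -B.ε := sgn_eq (by norm_num)
      (by rcases B.ε_sq with e | e <;> simp [e]) (by
        have h1 := B.deg_f
        rw [← B.deg_Y η hηY] at h1
        rcases B.ε_sq with e | e <;> rw [e] at h1 ⊢ <;> omega)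
    rw [Finset.sum_union B.disj, hη, Finset.sum_singleton,
      Finset.sum_congr rfl (g := fun χ => (B.s χ : ℂ) * (χ : G → ℂ) g) fun χ hχ => by
        rw [sgn_eq (by norm_num) (B.s_sq χ hχ) (B.deg_X χ hχ)],
      ← B.rel η hηY g hg, hsη]
    push_cast
    ring

end CfsgLib.MTwentyTwoUnique
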