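import Cfsg.Agent.Lib.MTwentyTwoUnique.Book
import Mathlib

/-!
The twelve degrees and the values at a central involution.
-/

set_option autoImplicit false

noncomputable section

namespace CfsgLib.MTwentyTwoUnique

open Subgroup CfsgLib.InvolChar CfsgLib.Blocks CfsgLib.Blocks.PrimeSylow Cfsg
open CfsgLib.MTwelveUnique (nu nu_eq_zero)
open scoped ComplexConjugate
attribute [local instance] Classical.propDecidable

variable {G : Type*} [Group G] [Fintype G]

/-- The irreducible characters of the group. -/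
structure Table (G : Type*) [Group G] [Fintype G] where
  /-- 55 -/
  a : IrrCharacter G
  /-- 99 -/
  b : IrrCharacter G
  /-- 45 -/
  θ : IrrCharacter G
  /-- 45 -/
  θ' : IrrCharacter G
  /-- 21 -/
  c : IrrCharacter G
  /-- 210 -/
  d : IrrCharacter G
  /-- 280 -/
  u : IrrCharacter G
  /-- 280 -/
  u' : IrrCharacter G
  /-- 154 -/
  g : IrrCharacter G
  /-- 231 -/
  h : IrrCharacter G
  /-- 385 -/
  k : IrrCharacter G
  deg_all : deg a = 55 ∧ deg b = 99 ∧ deg θ = 45 ∧ deg θ' = 45 ∧ deg c = 21 ∧ deg d = 210 ∧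
    deg u = 280 ∧ deg u' = 280 ∧ deg g = 154 ∧ deg h = 231 ∧ deg k = 385
  sum_all : ∀ {M : Type} [AddCommMonoid M] (F : IrrCharacter G → M), ∑ χ, F χ = F CfsgLib.Char.irrOne + F a + F b + F θ + F θ' +
    F c + F d + F u + F u' + F g + F h + F k
  nu_zero : nu θ = 0 ∧ nu θ' = 0 ∧ nu u = 0 ∧ nu u' = 0
  rel_seven : ∀ x : G, ¬ 7 ∣ orderOf x → (θ : G → ℂ) x = 1 - (a : G → ℂ) x + (b : G → ℂ) x ∧
    (θ' : G → ℂ) x = 1 - (a : G → ℂ) x + (b : G → ℂ) x
  rel_eleven : ∀ x : G, ¬ 11 ∣ orderOf x →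
    (u : G → ℂ) x = 1 + (θ : G → ℂ) x + (θ' : G → ℂ) x - (c : G → ℂ) x + (d : G → ℂ) x ∧
    (u' : G → ℂ) x = 1 + (θ : G → ℂ) x + (θ' : G → ℂ) x - (c : G → ℂ) x + (d : G → ℂ) x
  rel_five : ∀ x : G, ¬ 5 ∣ orderOf x →
    1 - (b : G → ℂ) x + (c : G → ℂ) x - (g : G → ℂ) x + (h : G → ℂ) x = 0
  sq_seven : ∀ y : G, y * y = 1 → ∀ v : IrrCharacter G → ℤ,
    (∀ χ : IrrCharacter G, (χ : G → ℂ) y = (v χ : ℂ)) →
      495 - 9 * v a * v a + 5 * v b * v b - 11 * v θ * v θ = 0
  sq_eleven : ∀ y : G, y * y = 1 → ∀ v : IrrCharacter G → ℤ,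
    (∀ χ : IrrCharacter G, (χ : G → ℂ) y = (v χ : ℂ)) →
      2520 + 112 * v θ * v θ - 120 * v c * v c + 12 * v d * v d - 9 * v u * v u = 0

theorem exists_pair_sorted {α : Type*} [DecidableEq α] (f : α → ℕ) {s : Finset α} (h : s.card = 2) :
    ∃ x y, f x ≤ f y ∧ x ≠ y ∧ s = {x, y} := by
  obtain ⟨x, y, hne, rfl⟩ := Finset.card_eq_two.mp h
  rcases Nat.le_total (f x) (f y) with h | h
  · exact ⟨x, y, h, hne, rfl⟩
  · exact ⟨y, x, h, hne.symm, Finset.pair_comm x y⟩

theorem exists_triple_sorted {α : Type*} [DecidableEq α] (f : α → ℕ) {s : Finset α} (h : s.card = 3) :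
    ∃ x y z, f x ≤ f y ∧ f y ≤ f z ∧ x ≠ y ∧ x ≠ z ∧ y ≠ z ∧ s = {x, y, z} := by
  obtain ⟨x, hx, hmax⟩ := Finset.exists_min_image s f (Finset.card_pos.mp (by omega))
  obtain ⟨y, z, hle, hne, e⟩ := exists_pair_sorted f (show (s.erase x).card = 2 by
    rw [Finset.card_erase_of_mem hx, h])
  have hy : y ∈ s.erase x := by simp [e]
  have hz : z ∈ s.erase x := by simp [e]
  refine ⟨x, y, z, hmax y (Finset.mem_of_mem_erase hy), hle, (Finset.ne_of_mem_erase hy).symm,
    (Finset.ne_of_mem_erase hz).symm, hne, ?_⟩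
  rw [← e, Finset.insert_erase hx]

variable (hL : Local G)
include hL

theorem val_ok {z : G} (hzz : z * z = 1) (hz1 : z ≠ 1) {χ : IrrCharacter G}
    (hχ : χ ≠ CfsgLib.Char.irrOne) :
    validVal (Nat.card (centralizer ({z} : Set G))) (deg χ) (intVal χ hzz) = true := by
  refine validVal_of hL hzz hz1 hχ ?_
  have h := CfsgLib.MTwelveUnique.sum_sq_val (fun η : IrrCharacter G => intVal η hzz) (fun η => intVal_spec η hzz)
  have h1 : intVal (CfsgLib.Char.irrOne : IrrCharacter G) hzz = 1 := intVal_irrOne hzz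
  have h2 := Finset.add_sum_erase (Finset.univ : Finset (IrrCharacter G))
    (fun η => intVal η hzz * intVal η hzz) (Finset.mem_univ CfsgLib.Char.irrOne)
  have h3 := Finset.single_le_sum (f := fun η : IrrCharacter G => intVal η hzz * intVal η hzz)
    (fun η _ => mul_self_nonneg _) (Finset.mem_erase.mpr ⟨hχ, Finset.mem_univ χ⟩)
  simp only [h1, mul_one] at h2
  linarith

theorem exists_central_three : ∃ z : G, orderOf z = 2 ∧ z * z = 1 ∧
    Nat.card (centralizer ({z} : Set G)) ∈ cents := by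
  haveI : Fact (Nat.Prime 5) := ⟨by norm_num⟩
  obtain ⟨z, hz, hzz, -, h⟩ := exists_central hL.toPre
  refine ⟨z, hz, hzz, h (not_dvd_centralizer_of_self hL (fun x hx => five_centralizer hL hx) ?_ ?_)⟩
  · intro e; rw [e, orderOf_one] at hz; norm_num at hz
  · rw [hz]; norm_num

/-- The exceptional characters are not real. -/
theorem nu_of_pair {p e : ℕ} [Fact p.Prime] (B : SC G p e) (he : ¬ p ∣ e) (hY : B.Y.card = 2)
    {x : G} (hx : orderOf x = p) (hinv : ¬ IsConj x x⁻¹) :
    ∀ θ ∈ B.Y, nu θ = 0 := by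
  classical
  obtain ⟨θ, θ', hne, hYe⟩ := Finset.card_eq_two.mp hY
  by_contra hc
  push Not at hc
  obtain ⟨η, hη, hnu⟩ := hc
  have hreal : conj ((η : G → ℂ) x) = (η : G → ℂ) x := by
    by_contra h
    exact hnu (nu_eq_zero h)
  have hsum := B.sum_Y he hx
  rw [hYe, Finset.sum_pair hne] at hsum
  have hboth : conj ((θ : G → ℂ) x) = (θ : G → ℂ) x ∧ conj ((θ' : G → ℂ) x) = (θ' : G → ℂ) x := by
    have hc := congrArg conj hsum
    rw [map_add, map_neg, map_intCast] at hc
    rw [hYe, Finset.mem_insert, Finset.mem_singleton] at hη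
    rcases hη with rfl | rfl
    · exact ⟨hreal, by linear_combination hc - hsum - hreal⟩
    · exact ⟨by linear_combination hc - hsum - hreal, hreal⟩
  refine hinv ((CfsgLib.Char.isConj_iff_forall_irr x x⁻¹).mpr fun χ => ?_)
  rw [CfsgLib.Char.char_inv (CfsgLib.Char.isCharacter_of_isIrr χ.2)]
  by_cases hX : χ ∈ B.X
  · rw [B.val_X χ hX x hx, map_intCast]
  by_cases hY' : χ ∈ B.Y
  · rw [hYe, Finset.mem_insert, Finset.mem_singleton] at hY'
    rcases hY' with rfl | rfl
    · exact hboth.1.symm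
    · exact hboth.2.symm
  · rw [B.out_zero χ hX hY' x hx, map_zero]

theorem not_isConj_inv_seven_eleven {x : G} (hx : orderOf x = 7 ∨ orderOf x = 11) : ¬ IsConj x x⁻¹ := by
  have h2 : x * x ≠ 1 := fun h => by
    have := orderOf_dvd_of_pow_eq_one (x := x) (n := 2) (by rw [sq]; exact h)
    rcases hx with e | e <;> rw [e] at this <;> norm_num at this
  rcases hx with hx | hx
  · exact not_isConj_inv_of_odd (hL.seven x hx).2 (by norm_num) h2
  · exact not_isConj_inv_of_odd (hL.eleven x hx).2 (by norm_num) h2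

omit hL in
theorem eleven_X {B : SC G 11 5} {χ : IrrCharacter G} {d : ℕ} (h : deg χ = d) (h11 : ¬ 11 ∣ d)
    (h5 : d % 11 ≠ 5 ∧ d % 11 ≠ 6) : χ ∈ B.X := by
  refine (Finset.mem_union.mp (B.mem_of_not_dvd (h ▸ h11))).resolve_right fun hY => ?_
  have h' := B.deg_f
  rw [← B.deg_Y χ hY, h] at h'
  rcases B.ε_sq with e | e <;> rw [e] at h' <;> omega

/-- The 11-block beside the 7-block. -/
theorem eleven_others (S : Blk7 G) (B : SC G 11 5) (N : Finset (IrrCharacter G)) (hN : N ⊆ B.X)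
    (hout : ∀ χ, χ ∈ B.X ∪ B.Y → ¬ 7 ∣ deg χ → χ ∈ N) :
    (∀ χ ∈ B.X \ N, deg χ ∈ candEleven ∧ B.s χ = sgn 11 (deg χ)) ∧
    (∀ χ ∈ B.Y, χ ∉ N → 7 ∣ deg χ) := by
  haveI : Fact (Nat.Prime 11) := ⟨by norm_num⟩
  refine ⟨fun χ hχ => ?_, fun χ hχ hn => ?_⟩
  · obtain ⟨hX, hn⟩ := Finset.mem_sdiff.mp hχ
    have h7 : 7 ∣ deg χ := by
      by_contra h7
      exact hn (hout χ (Finset.mem_union_left _ hX) h7)
    have h1 := B.deg_X χ hX
    refine ⟨candEleven_mem (deg_lt hL χ) ?_ (Nat.mod_eq_zero_of_dvd (deg_dvd hL χ))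
      (Nat.mod_eq_zero_of_dvd h7) ?_, (sgn_eq (by norm_num) (B.s_sq χ hX) h1).symm⟩
    · have := deg_pos χ
      omega
    · rcases B.s_sq χ hX with e | e <;> rw [e] at h1 <;> omega
  · by_contra h7
    exact hn (hout χ (Finset.mem_union_right _ hχ) h7)

set_option maxHeartbeats 1600000 in
theorem exists_table : Nonempty (Table G) := by
  classical
  haveI : Fact (Nat.Prime 5) := ⟨by norm_num⟩
  haveI : Fact (Nat.Prime 7) := ⟨by norm_num⟩
  haveI : Fact (Nat.Prime 11) := ⟨by norm_num⟩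
  obtain ⟨S⟩ := exists_seven hL.toPre
  obtain ⟨B⟩ := exists_sc_eleven hL.toPre
  obtain ⟨x7, hx7⟩ := exists_prime_orderOf_dvd_card' (G := G) 7 (by rw [hL.card]; norm_num)
  obtain ⟨x11, hx11⟩ := exists_prime_orderOf_dvd_card' (G := G) 11 (by rw [hL.card]; norm_num)
  obtain ⟨h1X, hs1⟩ := B.one_X (by norm_num) (by norm_num) hx11
  obtain ⟨Z, -, hZ, -, hZrel⟩ := exists_five hL
  obtain ⟨z, hz, hzz, hCmem⟩ := exists_central_three hL
  have hz1 : z ≠ 1 := fun e => by rw [e, orderOf_one] at hz; norm_num at hz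
  set C := Nat.card (centralizer ({z} : Set G)) with hCdef
  have hC : C ≤ 5760 := by
    have : ∀ c ∈ cents, c ≤ 5760 := by decide
    exact this _ hCmem
  set v : IrrCharacter G → ℤ := fun χ => intVal χ hzz with hv
  have hvs : ∀ χ : IrrCharacter G, (χ : G → ℂ) z = (v χ : ℂ) := fun χ => intVal_spec χ hzz
  have hv1 : v CfsgLib.Char.irrOne = 1 := intVal_irrOne hzz
  have hvok : ∀ χ, χ ≠ CfsgLib.Char.irrOne → v χ ∈ valList C (deg χ) := fun χ hχ =>
    mem_valList (val_ok hL hzz hz1 hχ) hC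
  have hne1 : ∀ χ : IrrCharacter G, deg χ ≠ 1 → χ ≠ CfsgLib.Char.irrOne := fun χ h e => h (by rw [e, deg_irrOne])
  have hz7 : ¬ 7 ∣ orderOf z := by rw [hz]; norm_num
  have hz11 : ¬ 11 ∣ orderOf z := by rw [hz]; norm_num
  have hz5 : ¬ 5 ∣ orderOf z := by rw [hz]; norm_num
  have hout7 : ∀ χ : IrrCharacter G, χ ∈ B.X ∪ B.Y → ¬ 7 ∣ deg χ → χ = CfsgLib.Char.irrOne ∨
      (χ = S.θ ∨ χ = S.θ') ∧ deg S.b = 99 ∨ χ = S.b ∧ deg S.b = 120 := by
    intro χ hχ h7
    have h11 : ¬ 11 ∣ deg χ := by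
      rcases Finset.mem_union.mp hχ with h | h
      · exact B.not_dvd_of_mem_X h
      · rw [B.deg_Y χ h]; exact B.not_dvd_f (by norm_num)
    rcases S.mem_iff h7 with e | e | e | e | e
    · exact Or.inl e
    · rw [e, S.deg_a] at h11; exact absurd (by norm_num) h11
    · rcases S.deg_b with ⟨hb, -⟩ | ⟨hb, -⟩
      · rw [e, hb] at h11; exact absurd (by norm_num) h11
      · exact Or.inr (Or.inr ⟨e, hb⟩)
    all_goals
      rcases S.deg_b with ⟨hb, hθ, hθ'⟩ | ⟨hb, hθ, hθ'⟩
      · exact Or.inr (Or.inl ⟨by simp [e], hb⟩)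
      · rw [e] at h11
        simp [hθ, hθ'] at h11
  have h7S : ∀ χ ∈ S.B.X ∪ S.B.Y, ¬ 7 ∣ deg χ := fun χ hχ => by
    rcases Finset.mem_union.mp hχ with h | h
    · exact S.B.not_dvd_of_mem_X h
    · rw [S.B.deg_Y χ h]; exact S.B.not_dvd_f (by norm_num)
  obtain ⟨u, u', hu, hYe⟩ := Finset.card_eq_two.mp (show B.Y.card = 2 by rw [B.card_Y])
  have huY : u ∈ B.Y ∧ u' ∈ B.Y := by simp [hYe]
  have hfdeg : deg u = B.f ∧ deg u' = B.f := ⟨B.deg_Y u huY.1, B.deg_Y u' huY.2⟩
  have hfpos : 0 < B.f := hfdeg.1 ▸ deg_pos u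
  have hrest : ∀ O : Finset (IrrCharacter G), B.X ∪ B.Y ⊆ (S.B.X ∪ S.B.Y) ∪ (O ∪ B.Y) →
      ∀ χ ∈ Finset.univ \ ((S.B.X ∪ S.B.Y) ∪ (O ∪ B.Y)), 7 ∣ deg χ ∧ 11 ∣ deg χ := fun O hO χ hχ => by
    have hn := (Finset.mem_sdiff.mp hχ).2
    refine ⟨?_, ?_⟩
    · by_contra h
      exact hn (Finset.mem_union_left _ (S.B.mem_of_not_dvd h))
    · by_contra h
      exact hn (hO (B.mem_of_not_dvd h))
  have hf7 : 7 ∣ B.f := by
    by_contra h7
    rcases hout7 u (Finset.mem_union_right _ huY.1) (hfdeg.1 ▸ h7) with e | ⟨e, hb⟩ | ⟨e, hb⟩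
    · exact Finset.disjoint_left.mp B.disj h1X (e ▸ huY.1)
    · rcases S.deg_b with ⟨-, hθ, hθ'⟩ | ⟨hb', -⟩
      · refine Finset.disjoint_left.mp B.disj (eleven_X (d := 45) ?_ (by norm_num) (by norm_num)) huY.1
        rcases e with e | e <;> rw [e] <;> assumption
      · omega
    · refine Finset.disjoint_left.mp B.disj (eleven_X (d := 120) ?_ (by norm_num) (by norm_num)) huY.1
      rw [e, hb]
  have hvalid : ∀ T : ℤ, B.ε * (B.f : ℤ) = T → validEleven T = true ∧ T.natAbs = B.f ∧ tsgn T = B.ε := by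
    intro T hT
    obtain ⟨e1, e2⟩ := tsgn_eq B.ε_sq hfpos hT
    refine ⟨?_, e2, e1⟩
    simp only [validEleven, e1, e2, decide_eq_true_eq]
    refine ⟨hfdeg.1 ▸ two_le_deg hL (fun e => Finset.disjoint_left.mp B.disj h1X (e ▸ huY.1)),
      hfdeg.1 ▸ Nat.mod_eq_zero_of_dvd (deg_dvd hL u), Nat.mod_eq_zero_of_dvd hf7, ?_⟩
    have h := B.deg_f
    rw [mul_comm (5 : ℤ)]
    push_cast at h
    exact Int.emod_eq_emod_iff_emod_sub_eq_zero.mpr (Int.emod_eq_zero_of_dvd h)
  have hclS := S.B.square_rel (by norm_num) hx7 (not_isConj_inv_seven_eleven hL (Or.inl hx7)) hzz v hvs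
  have hclB := B.square_rel (by norm_num) hx11 (not_isConj_inv_seven_eleven hL (Or.inr hx11)) hzz v hvs
  have hr7 := S.rel hz7
  simp only [hvs] at hr7
  have hθv : v S.θ = 1 - v S.a + v S.b ∧ v S.θ' = 1 - v S.a + v S.b := ⟨by exact_mod_cast hr7.1, by exact_mod_cast hr7.2⟩
  have hrθ : ∀ η ∈ S.B.Y, v η = v S.θ := fun η hη => by
    rw [S.Y_eq', Finset.mem_insert, Finset.mem_singleton] at hη
    rcases hη with rfl | rfl
    · rfl
    · rw [hθv.1, hθv.2]
  have hsq7 := hclS (v S.θ) hrθ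
  rw [S.sum_X, S.s_one, S.s_a, S.s_b, S.ε_eq, deg_irrOne, hv1, S.deg_a, ← S.B.deg_Y S.θ S.θ_mem.1] at hsq7
  have hru : ∀ η ∈ B.Y, v η = v u := fun η hη => by
    have h := B.Y_eq η hη u huY.1 z hz11
    rw [hvs, hvs] at h
    exact_mod_cast h
  have hsq11 := hclB (v u) hru
  rcases S.deg_b with ⟨hb, hθd, hθd'⟩ | ⟨hb, hθd, hθd'⟩
  · -- the first family
    have hθX : S.θ ∈ B.X ∧ S.θ' ∈ B.X :=
      ⟨eleven_X hθd (by norm_num) (by norm_num), eleven_X hθd' (by norm_num) (by norm_num)⟩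
    set N : Finset (IrrCharacter G) := {CfsgLib.Char.irrOne, S.θ, S.θ'} with hN
    have h1θ : CfsgLib.Char.irrOne ≠ S.θ ∧ CfsgLib.Char.irrOne ≠ S.θ' :=
      ⟨(hne1 _ (by omega)).symm, (hne1 _ (by omega)).symm⟩
    have hNc : N.card = 3 := by
      rw [hN, Finset.card_insert_of_notMem (by simp [h1θ.1, h1θ.2]), Finset.card_pair S.θ_ne]
    have hNX : N ⊆ B.X := by
      intro χ hχ
      simp only [hN, Finset.mem_insert, Finset.mem_singleton] at hχ
      rcases hχ with rfl | rfl | rfl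
      exacts [h1X, hθX.1, hθX.2]
    have hNout : ∀ χ, χ ∈ B.X ∪ B.Y → ¬ 7 ∣ deg χ → χ ∈ N := by
      intro χ hχ h7
      rcases hout7 χ hχ h7 with e | ⟨e, -⟩ | ⟨-, e⟩
      · simp [hN, e]
      · rcases e with e | e <;> simp [hN, e]
      · omega
    obtain ⟨A, A', hle, hAne, hO⟩ := exists_pair_sorted (fun χ : IrrCharacter G => deg χ)
      (show (B.X \ N).card = 2 by rw [Finset.card_sdiff_of_subset hNX, B.card_X, hNc])
    obtain ⟨hOX, -⟩ := eleven_others hL S B N hNX hNout
    obtain ⟨hAc, hAs⟩ := hOX A (by simp [hO])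
    obtain ⟨hA'c, hA's⟩ := hOX A' (by simp [hO])
    have hsX : ∀ {M : Type} [AddCommMonoid M] (F : IrrCharacter G → M),
        ∑ χ ∈ B.X, F χ = (F A + F A') + (F CfsgLib.Char.irrOne + (F S.θ + F S.θ')) := fun F => by
      rw [← Finset.sum_sdiff hNX, hO, Finset.sum_pair hAne, hN,
        Finset.sum_insert (by simp [h1θ.1, h1θ.2]), Finset.sum_pair S.θ_ne]
    have hsθ : B.s S.θ = 1 ∧ B.s S.θ' = 1 := by
      constructor
      · rw [← sgn_eq (p := 11) (by norm_num) (B.s_sq _ hθX.1) (B.deg_X _ hθX.1), hθd]; rfl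
      · rw [← sgn_eq (p := 11) (by norm_num) (B.s_sq _ hθX.2) (B.deg_X _ hθX.2), hθd']; rfl
    obtain ⟨hv11, hfT, hεT⟩ := hvalid (totOne (deg A) (deg A')) (by
      rw [B.deg_rel huY.1 (by norm_num), hsX, hs1, deg_irrOne, hsθ.1, hsθ.2, hθd, hθd', hAs, hA's, totOne]
      push_cast; ring)
    set O : Finset (IrrCharacter G) := {A, A'} with hOdef
    set K := (S.B.X ∪ S.B.Y) ∪ (O ∪ B.Y) with hK
    have hd7O : ∀ χ ∈ O ∪ B.Y, 7 ∣ deg χ := by
      intro χ hχ
      rcases Finset.mem_union.mp hχ with h | h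
      · have hc : deg χ ∈ candEleven := (hOX χ (by rw [hO]; exact h)).1
        simp only [candEleven, List.mem_filter, decide_eq_true_eq] at hc
        exact Nat.dvd_of_mod_eq_zero hc.2.2.2.1
      · rw [B.deg_Y χ h]; exact hf7
    have hdis1 : Disjoint (S.B.X ∪ S.B.Y) (O ∪ B.Y) :=
      Finset.disjoint_left.mpr fun χ h h' => h7S χ h (hd7O χ h')
    have hdis2 : Disjoint O B.Y := Finset.disjoint_left.mpr fun χ h h' => by
      have : χ ∈ B.X \ N := by rw [hO]; exact h
      exact Finset.disjoint_left.mp B.disj (Finset.mem_sdiff.mp this).1 h'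
    have hsK : ∀ {M : Type} [AddCommMonoid M] (F : IrrCharacter G → M), ∑ χ ∈ K, F χ =
        (F CfsgLib.Char.irrOne + (F S.a + F S.b) + (F S.θ + F S.θ')) + ((F A + F A') + (F u + F u')) := fun F => by
      rw [hK, Finset.sum_union hdis1, Finset.sum_union S.B.disj, Finset.sum_union hdis2, S.sum_X, S.sum_Y,
        hOdef, Finset.sum_pair hAne, hYe, Finset.sum_pair hu]
    have hcov : B.X ∪ B.Y ⊆ K := by
      intro χ hχ
      rcases Finset.mem_union.mp hχ with h | h
      · by_cases hn : χ ∈ N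
        · refine Finset.mem_union_left _ ?_
          simp only [hN, Finset.mem_insert, Finset.mem_singleton] at hn
          rcases hn with e | e | e <;> simp [e, S.X_eq, S.Y_eq']
        · exact Finset.mem_union_right _ (Finset.mem_union_left _ (hO ▸ Finset.mem_sdiff.mpr ⟨h, hn⟩))
      · exact Finset.mem_union_right _ (Finset.mem_union_right _ h)
    obtain ⟨ks, hkse, hks, hm385, hsumR⟩ := rest_split hL (Finset.univ \ K) (hrest O hcov)
    set R5 := (Finset.univ \ K).filter fun χ => ¬ 5 ∣ deg χ with hR5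
    set M5 := (Finset.univ \ K).filter fun χ => 5 ∣ deg χ with hM5
    have hkres : ∀ k ∈ ks, ∃ χ : IrrCharacter G, deg χ = 77 * k := fun k hk => by
      rw [hkse] at hk
      obtain ⟨χ, hχ, rfl⟩ := List.mem_map.mp hk
      obtain ⟨hh7, hh11⟩ := hrest O hcov χ (Finset.mem_filter.mp (Finset.mem_toList.mp hχ)).1
      exact ⟨χ, (Nat.mul_div_cancel' (Nat.Coprime.mul_dvd_of_dvd_of_dvd (by norm_num : Nat.Coprime 7 11) hh7 hh11)).symm⟩
    obtain ⟨hok, hgap, hsq⟩ := fiveOk_of hL (baseOne (deg A) (deg A')) ks M5.card hks (by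
        intro d hd _
        simp only [baseOne, List.mem_cons, List.not_mem_nil, or_false, hfT] at hd
        rcases hd with e | e | e | e | e | e | e | e | e
        exacts [⟨_, deg_irrOne.trans e.symm⟩, ⟨_, S.deg_a.trans e.symm⟩, ⟨_, hb.trans e.symm⟩,
          ⟨_, hθd.trans e.symm⟩, ⟨_, hθd.trans e.symm⟩, ⟨_, e.symm⟩, ⟨_, e.symm⟩,
          ⟨_, hfdeg.1.trans e.symm⟩, ⟨_, hfdeg.1.trans e.symm⟩]) hkres (fun F => by
        rw [← Finset.sum_sdiff (Finset.subset_univ K), hsK, hsumR]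
        simp only [baseOne, hfT, List.map_cons, List.map_nil, List.sum_cons, List.sum_nil, deg_irrOne, S.deg_a,
          hb, hθd, hθd', hfdeg.1, hfdeg.2]
        ring)
    obtain ⟨hA21, hA210, hksv⟩ := search_eleven_one _ hAc _ hA'c hle hv11 ks
      (hgap ▸ mem_seqs hks) hok
    have hf280 : B.f = 280 ∧ B.ε = 1 := by
      rw [← hfT, ← hεT, hA21, hA210]; decide
    have hm : M5.card = 1 := by
      simp only [baseOne] at hsq
      rw [hfT, hf280.1, hA21, hA210] at hsq
      rcases hksv with e | e <;> rw [e] at hsq <;>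
        simp only [List.map_cons, List.map_nil, List.sum_cons, List.sum_nil] at hsq <;> omega
    obtain ⟨k, hk⟩ := Finset.card_eq_one.mp hm
    obtain ⟨g, h, hgne, hR5e, hgd, hhd⟩ : ∃ g h, g ≠ h ∧ R5 = {g, h} ∧ deg g = 154 ∧ deg h = 231 := by
      have hlen : R5.card = 2 := by
        have := congrArg List.length hkse
        rw [List.length_map, Finset.length_toList] at this
        rcases hksv with e | e <;> rw [e] at this <;> simpa using this.symm
      obtain ⟨g, h, hne, he⟩ := Finset.card_eq_two.mp hlen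
      have h2 : ∀ χ ∈ R5, deg χ = 154 ∨ deg χ = 231 := fun χ hχ => by
        obtain ⟨hh7, hh11⟩ := hrest O hcov χ (Finset.mem_filter.mp hχ).1
        have hj := Nat.mul_div_cancel' (Nat.Coprime.mul_dvd_of_dvd_of_dvd (by norm_num : Nat.Coprime 7 11) hh7 hh11)
        have : deg χ / 77 ∈ ks := hkse ▸ List.mem_map.mpr ⟨χ, Finset.mem_toList.mpr hχ, rfl⟩
        rcases hksv with e | e <;> rw [e] at this <;> simp only [List.mem_cons, List.not_mem_nil, or_false] at this <;> omega
      have hsum2 : deg g + deg h = 385 := by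
        have h1 : (R5.toList.map fun χ => deg χ / 77).sum = 5 := by
          rw [← hkse]; rcases hksv with e | e <;> rw [e] <;> rfl
        rw [Finset.sum_map_toList, he, Finset.sum_pair hne] at h1
        rcases h2 g (by simp [he]) with e | e <;> rcases h2 h (by simp [he]) with e' | e' <;>
          rw [e, e'] at h1 <;> omega
      rcases h2 g (by simp [he]) with e | e
      · exact ⟨g, h, hne, he, e, by omega⟩
      · exact ⟨h, g, hne.symm, by rw [he, Finset.pair_comm], by omega, e⟩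
    have hkd : deg k = 385 := hm385 k (by rw [hk]; simp)
    have hall : ∀ {M : Type} [AddCommMonoid M] (F : IrrCharacter G → M), ∑ χ, F χ =
        ((F g + F h) + F k) +
        ((F CfsgLib.Char.irrOne + (F S.a + F S.b) + (F S.θ + F S.θ')) + ((F A + F A') + (F u + F u'))) := fun F => by
      rw [← Finset.sum_sdiff (Finset.subset_univ K), hsK,
        ← Finset.sum_filter_add_sum_filter_not (Finset.univ \ K) (fun χ => ¬ 5 ∣ deg χ)]
      simp only [not_not]
      rw [← hR5, ← hM5, hR5e, hk, Finset.sum_pair hgne, Finset.sum_singleton]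
    refine ⟨{
      a := S.a, b := S.b, θ := S.θ, θ' := S.θ', c := A, d := A', u := u, u' := u', g := g, h := h, k := k
      deg_all := ⟨S.deg_a, hb, hθd, hθd', hA21, hA210, hfdeg.1.trans hf280.1, hfdeg.2.trans hf280.1, hgd, hhd, hkd⟩
      sum_all := fun F => by rw [hall]; abel
      nu_zero := ?_
      rel_seven := fun x hx => S.rel hx
      rel_eleven := fun x hx => ?_
      rel_five := fun x hx => ?_
      sq_seven := fun y hy w hw => ?_
      sq_eleven := fun y hy w hw => ?_ }⟩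
    · have n7 := nu_of_pair hL S.B (by norm_num) (by rw [S.B.card_Y]) hx7 (not_isConj_inv_seven_eleven hL (Or.inl hx7))
      have n11 := nu_of_pair hL B (by norm_num) (by rw [B.card_Y]) hx11 (not_isConj_inv_seven_eleven hL (Or.inr hx11))
      exact ⟨n7 _ S.θ_mem.1, n7 _ S.θ_mem.2, n11 _ huY.1, n11 _ huY.2⟩
    · have h : ∀ η ∈ B.Y, (η : G → ℂ) x =
          1 + (S.θ : G → ℂ) x + (S.θ' : G → ℂ) x - (A : G → ℂ) x + (A' : G → ℂ) x := fun η hη => by
        have h := B.rel η hη x hx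
        rw [hsX, hs1, hsθ.1, hsθ.2, hAs, hA's, hA21, hA210, hf280.2, CfsgLib.Char.irrOne_apply,
          show sgn 11 21 = -1 from rfl, show sgn 11 210 = 1 from rfl] at h
        push_cast at h
        linear_combination h
      exact ⟨h u huY.1, h u' huY.2⟩
    · have h := hZrel x hx
      rw [show Z = Finset.univ.filter (fun χ => ¬ 5 ∣ deg χ) from by ext χ; simp [hZ χ],
        Finset.sum_filter, hall] at h
      simp only [deg_irrOne, S.deg_a, hb, hθd, hθd', hA21, hA210, hfdeg.1, hfdeg.2, hf280.1, hgd, hhd, hkd,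
        CfsgLib.Char.irrOne_apply] at h
      norm_num [sgn] at h
      linear_combination h
    · have hy2 : orderOf y ∣ 2 := orderOf_dvd_of_pow_eq_one (by rw [sq]; exact hy)
      have hy7 : ¬ 7 ∣ orderOf y := fun h => absurd (h.trans hy2) (by norm_num)
      have e := S.rel hy7
      simp only [hw] at e
      have e' : w S.θ' = w S.θ := by exact_mod_cast e.2.trans e.1.symm
      have w1 : w CfsgLib.Char.irrOne = 1 := by
        have h := hw CfsgLib.Char.irrOne; rw [CfsgLib.Char.irrOne_apply] at h; exact_mod_cast h.symm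
      have h := S.B.square_rel (by norm_num) hx7 (not_isConj_inv_seven_eleven hL (Or.inl hx7)) hy w hw (w S.θ)
        (fun η hη => by
          rw [S.Y_eq', Finset.mem_insert, Finset.mem_singleton] at hη
          rcases hη with rfl | rfl
          exacts [rfl, e'])
      rw [S.sum_X, S.s_one, S.s_a, S.s_b, S.ε_eq, deg_irrOne, w1, S.deg_a, ← S.B.deg_Y S.θ S.θ_mem.1, hb, hθd] at h
      have : ((495 - 9 * w S.a * w S.a + 5 * w S.b * w S.b - 11 * w S.θ * w S.θ : ℤ) : ℚ) = 0 := by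
        push_cast at h ⊢; linear_combination 495 * h
      exact_mod_cast this
    · have hy2 : orderOf y ∣ 2 := orderOf_dvd_of_pow_eq_one (by rw [sq]; exact hy)
      have hy7 : ¬ 7 ∣ orderOf y := fun h => absurd (h.trans hy2) (by norm_num)
      have hy11 : ¬ 11 ∣ orderOf y := fun h => absurd (h.trans hy2) (by norm_num)
      have e := S.rel hy7
      simp only [hw] at e
      have e' : w S.θ' = w S.θ := by exact_mod_cast e.2.trans e.1.symm
      have w1 : w CfsgLib.Char.irrOne = 1 := by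
        have h := hw CfsgLib.Char.irrOne; rw [CfsgLib.Char.irrOne_apply] at h; exact_mod_cast h.symm
      have h := B.square_rel (by norm_num) hx11 (not_isConj_inv_seven_eleven hL (Or.inr hx11)) hy w hw (w u)
        (fun η hη => by
          have h := B.Y_eq η hη u huY.1 y hy11
          rw [hw, hw] at h
          exact_mod_cast h)
      rw [hsX, hs1, hsθ.1, hsθ.2, hAs, hA's, hA21, hA210, hf280.1, hf280.2, deg_irrOne, w1, e', hθd, hθd',
        show sgn 11 21 = -1 from rfl, show sgn 11 210 = 1 from rfl] at h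
      have : ((2520 + 112 * w S.θ * w S.θ - 120 * w A * w A + 12 * w A' * w A' - 9 * w u * w u : ℤ) : ℚ) = 0 := by
        push_cast at h ⊢; linear_combination 2520 * h
      exact_mod_cast this
  · -- the second family is impossible
    exfalso
    have hbX : S.b ∈ B.X := eleven_X hb (by norm_num) (by norm_num)
    set N : Finset (IrrCharacter G) := {CfsgLib.Char.irrOne, S.b} with hN
    have h1b : CfsgLib.Char.irrOne ≠ S.b := S.b_ne.symm
    have hNX : N ⊆ B.X := by
      intro χ hχ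
      simp only [hN, Finset.mem_insert, Finset.mem_singleton] at hχ
      rcases hχ with rfl | rfl
      exacts [h1X, hbX]
    have hNout : ∀ χ, χ ∈ B.X ∪ B.Y → ¬ 7 ∣ deg χ → χ ∈ N := by
      intro χ hχ h7
      rcases hout7 χ hχ h7 with e | ⟨-, e⟩ | ⟨e, -⟩
      · simp [hN, e]
      · omega
      · simp [hN, e]
    obtain ⟨A, A', D, hle, hle', h12, h13, h23, hO⟩ := exists_triple_sorted (fun χ : IrrCharacter G => deg χ)
      (show (B.X \ N).card = 3 by rw [Finset.card_sdiff_of_subset hNX, B.card_X, hN, Finset.card_pair h1b])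
    obtain ⟨hOX, -⟩ := eleven_others hL S B N hNX hNout
    obtain ⟨hAc, hAs⟩ := hOX A (by simp [hO])
    obtain ⟨hA'c, hA's⟩ := hOX A' (by simp [hO])
    obtain ⟨hDc, hDs⟩ := hOX D (by simp [hO])
    have hs3 : ∀ {M : Type} [AddCommMonoid M] (F : IrrCharacter G → M),
        ∑ χ ∈ ({A, A', D} : Finset (IrrCharacter G)), F χ = F A + (F A' + F D) := fun F => by
      rw [Finset.sum_insert (by simp [h12, h13]), Finset.sum_pair h23]
    have hsX : ∀ {M : Type} [AddCommMonoid M] (F : IrrCharacter G → M),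
        ∑ χ ∈ B.X, F χ = (F A + (F A' + F D)) + (F CfsgLib.Char.irrOne + F S.b) := fun F => by
      rw [← Finset.sum_sdiff hNX, hO, hs3, hN, Finset.sum_pair h1b]
    have hsb : B.s S.b = -1 := by
      rw [← sgn_eq (p := 11) (by norm_num) (B.s_sq _ hbX) (B.deg_X _ hbX), hb]; rfl
    obtain ⟨hv11, hfT, hεT⟩ := hvalid (totTwo (deg A) (deg A') (deg D)) (by
      rw [B.deg_rel huY.1 (by norm_num), hsX, hs1, deg_irrOne, hsb, hb, hAs, hA's, hDs, totTwo]
      push_cast; ring)
    set O : Finset (IrrCharacter G) := {A, A', D} with hOdef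
    set K := (S.B.X ∪ S.B.Y) ∪ (O ∪ B.Y) with hK
    have hd7O : ∀ χ ∈ O ∪ B.Y, 7 ∣ deg χ := by
      intro χ hχ
      rcases Finset.mem_union.mp hχ with h | h
      · have hc : deg χ ∈ candEleven := (hOX χ (by rw [hO]; exact h)).1
        simp only [candEleven, List.mem_filter, decide_eq_true_eq] at hc
        exact Nat.dvd_of_mod_eq_zero hc.2.2.2.1
      · rw [B.deg_Y χ h]; exact hf7
    have hdis1 : Disjoint (S.B.X ∪ S.B.Y) (O ∪ B.Y) :=
      Finset.disjoint_left.mpr fun χ h h' => h7S χ h (hd7O χ h')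
    have hdis2 : Disjoint O B.Y := Finset.disjoint_left.mpr fun χ h h' => by
      have : χ ∈ B.X \ N := by rw [hO]; exact h
      exact Finset.disjoint_left.mp B.disj (Finset.mem_sdiff.mp this).1 h'
    have hsK : ∀ {M : Type} [AddCommMonoid M] (F : IrrCharacter G → M), ∑ χ ∈ K, F χ =
        (F CfsgLib.Char.irrOne + (F S.a + F S.b) + (F S.θ + F S.θ')) + ((F A + (F A' + F D)) + (F u + F u')) := fun F => by
      rw [hK, Finset.sum_union hdis1, Finset.sum_union S.B.disj, Finset.sum_union hdis2, S.sum_X, S.sum_Y,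
        hOdef, hs3, hYe, Finset.sum_pair hu]
    have hcov : B.X ∪ B.Y ⊆ K := by
      intro χ hχ
      rcases Finset.mem_union.mp hχ with h | h
      · by_cases hn : χ ∈ N
        · refine Finset.mem_union_left _ ?_
          simp only [hN, Finset.mem_insert, Finset.mem_singleton] at hn
          rcases hn with e | e <;> simp [e, S.X_eq]
        · exact Finset.mem_union_right _ (Finset.mem_union_left _ (hO ▸ Finset.mem_sdiff.mpr ⟨h, hn⟩))
      · exact Finset.mem_union_right _ (Finset.mem_union_right _ h)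
    obtain ⟨ks, hkse, hks, hm385, hsumR⟩ := rest_split hL (Finset.univ \ K) (hrest O hcov)
    set R5 := (Finset.univ \ K).filter fun χ => ¬ 5 ∣ deg χ with hR5
    set M5 := (Finset.univ \ K).filter fun χ => 5 ∣ deg χ with hM5
    have hkres : ∀ k ∈ ks, ∃ χ : IrrCharacter G, deg χ = 77 * k := fun k hk => by
      rw [hkse] at hk
      obtain ⟨χ, hχ, rfl⟩ := List.mem_map.mp hk
      obtain ⟨hh7, hh11⟩ := hrest O hcov χ (Finset.mem_filter.mp (Finset.mem_toList.mp hχ)).1
      exact ⟨χ, (Nat.mul_div_cancel' (Nat.Coprime.mul_dvd_of_dvd_of_dvd (by norm_num : Nat.Coprime 7 11) hh7 hh11)).symm⟩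
    obtain ⟨hok, hgap, hsq⟩ := fiveOk_of hL (baseTwo (deg A) (deg A') (deg D)) ks M5.card hks (by
        intro d hd _
        simp only [baseTwo, List.mem_cons, List.not_mem_nil, or_false, hfT] at hd
        rcases hd with e | e | e | e | e | e | e | e | e | e
        exacts [⟨_, deg_irrOne.trans e.symm⟩, ⟨_, S.deg_a.trans e.symm⟩, ⟨_, hb.trans e.symm⟩,
          ⟨_, hθd.trans e.symm⟩, ⟨_, hθd.trans e.symm⟩, ⟨_, e.symm⟩, ⟨_, e.symm⟩, ⟨_, e.symm⟩,
          ⟨_, hfdeg.1.trans e.symm⟩, ⟨_, hfdeg.1.trans e.symm⟩]) hkres (fun F => by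
        rw [← Finset.sum_sdiff (Finset.subset_univ K), hsK, hsumR]
        simp only [baseTwo, hfT, List.map_cons, List.map_nil, List.sum_cons, List.sum_nil, deg_irrOne, S.deg_a,
          hb, hθd, hθd', hfdeg.1, hfdeg.2]
        ring)
    obtain ⟨hA21, hA210, hD210, hksv⟩ := search_eleven_two _ hAc _ hA'c hle _ hDc hle' hv11 ks
      (hgap ▸ mem_seqs hks) hok
    have hf280 : B.f = 280 ∧ B.ε = 1 := by
      rw [← hfT, ← hεT, hA21, hA210, hD210]; decide
    have hm : M5.card = 1 := by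
      simp only [baseTwo] at hsq
      rw [hfT, hf280.1, hA21, hA210, hD210, hksv] at hsq
      simp only [List.map_cons, List.map_nil, List.sum_cons, List.sum_nil] at hsq
      omega
    obtain ⟨k, hk⟩ := Finset.card_eq_one.mp hm
    have hkd : deg k = 385 := hm385 k (by rw [hk]; simp)
    obtain ⟨g, hg⟩ := Finset.card_eq_one.mp (show R5.card = 1 by
      have := congrArg List.length hkse
      rw [List.length_map, Finset.length_toList, hksv] at this
      simpa using this.symm)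
    have hgd : deg g = 154 := by
      obtain ⟨hh7, hh11⟩ := hrest O hcov g (Finset.mem_filter.mp (hg ▸ Finset.mem_singleton_self g : g ∈ R5)).1
      have hj := Nat.mul_div_cancel' (Nat.Coprime.mul_dvd_of_dvd_of_dvd (by norm_num : Nat.Coprime 7 11) hh7 hh11)
      have hm' : deg g / 77 ∈ ks := hkse ▸ List.mem_map.mpr ⟨g, Finset.mem_toList.mpr (by simp [hg]), rfl⟩
      rw [hksv] at hm'
      simp only [List.mem_singleton] at hm'
      omega
    have hall : ∀ {M : Type} [AddCommMonoid M] (F : IrrCharacter G → M), ∑ χ, F χ = (F g + F k) +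
        ((F CfsgLib.Char.irrOne + (F S.a + F S.b) + (F S.θ + F S.θ')) + ((F A + (F A' + F D)) + (F u + F u'))) := fun F => by
      rw [← Finset.sum_sdiff (Finset.subset_univ K), hsK,
        ← Finset.sum_filter_add_sum_filter_not (Finset.univ \ K) (fun χ => ¬ 5 ∣ deg χ)]
      simp only [not_not]
      rw [← hR5, ← hM5, hg, hk, Finset.sum_singleton, Finset.sum_singleton]
    have e1 : v u' = v u := hru u' huY.2
    have e2 : v S.θ' = v S.θ := hrθ _ S.θ_mem.2
    have hv11' : v u = 1 - v S.b - v A + v A' + v D := by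
      have h := B.rel u huY.1 z hz11
      rw [hsX, hs1, hsb, hAs, hA's, hDs, hA21, hA210, hD210, hf280.2, CfsgLib.Char.irrOne_apply,
        show sgn 11 21 = -1 from rfl, show sgn 11 210 = 1 from rfl] at h
      simp only [hvs] at h
      have : ((v u : ℤ) : ℂ) = ((1 - v S.b - v A + v A' + v D : ℤ) : ℂ) := by
        push_cast at h ⊢; linear_combination h
      exact_mod_cast this
    have hv5 : v g = 1 + 2 * v S.θ + v A := by
      have h := hZrel z hz5
      rw [show Z = Finset.univ.filter (fun χ => ¬ 5 ∣ deg χ) from by ext χ; simp [hZ χ],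
        Finset.sum_filter, hall] at h
      simp only [deg_irrOne, S.deg_a, hb, hθd, hθd', hA21, hA210, hD210, hfdeg.1, hfdeg.2, hf280.1, hgd, hkd,
        CfsgLib.Char.irrOne_apply, hvs, hv1, e2] at h
      norm_num [sgn] at h
      have : ((v g : ℤ) : ℂ) = ((1 + 2 * v S.θ + v A : ℤ) : ℂ) := by
        push_cast; linear_combination -h
      exact_mod_cast this
    have hS := CfsgLib.MTwelveUnique.sum_deg_val hz1 v hvs
    rw [hall] at hS
    simp only [deg_irrOne, S.deg_a, hb, hθd, hθd', hA21, hA210, hD210, hfdeg.1, hfdeg.2, hf280.1, hgd, hkd, hv1, e1, e2] at hS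
    have hQ := CfsgLib.MTwelveUnique.sum_sq_val v hvs
    rw [hall, ← hCdef] at hQ
    simp only [hv1, e1, e2] at hQ
    -- the class constant is not negative
    have hcl := CfsgLib.Char.card_classProduct_eq z z z
    rw [hall] at hcl
    simp only [hvs, map_intCast, deg_spec, deg_irrOne, S.deg_a, hb, hθd, hθd', hA21, hA210, hD210, hfdeg.1,
      hfdeg.2, hf280.1, hgd, hkd, hv1, e1, e2] at hcl
    set n₁ := Nat.card {q : G × G // IsConj z q.1 ∧ IsConj z q.2 ∧ q.1 * q.2 = z}
    set m₁ := Nat.card {y : G // IsConj z y} with hm₁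
    haveI : Nonempty {y : G // IsConj z y} := ⟨⟨z, IsConj.refl z⟩⟩
    have hm₁pos : 0 < m₁ := Nat.card_pos
    set W : ℤ := 9240 + 168 * v S.a * v S.a * v S.a + 77 * v S.b * v S.b * v S.b +
        280 * v S.θ * v S.θ * v S.θ + 440 * v A * v A * v A + 44 * v A' * v A' * v A' +
        44 * v D * v D * v D + 66 * v u * v u * v u + 60 * v g * v g * v g + 24 * v k * v k * v k with hW
    have hW0 : 0 ≤ W := by
      rw [hL.card] at hcl
      have hh : ((n₁ : ℤ) : ℂ) * (443520 * 9240) = (((m₁ : ℤ) * m₁ * W : ℤ) : ℂ) := by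
        rw [hW]
        push_cast at hcl ⊢
        rw [hcl]
        ring
      have hh' : (n₁ : ℤ) * (443520 * 9240) = (m₁ : ℤ) * m₁ * W := by exact_mod_cast hh
      have hpos : (0 : ℤ) < (m₁ : ℤ) * m₁ := by positivity
      exact nonneg_of_mul_nonneg_right (hh' ▸ by positivity) hpos
    rw [hθd, hb] at hsq7
    rw [hsX, hs1, hsb, hAs, hA's, hDs, hA21, hA210, hD210, hf280.1, hf280.2, deg_irrOne, hv1, hb,
      show sgn 11 21 = -1 from rfl, show sgn 11 210 = 1 from rfl] at hsq11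
    have q7 : 1320 - 24 * v S.a * v S.a + 11 * v S.b * v S.b - 20 * v S.θ * v S.θ = 0 := by
      have : ((1320 - 24 * v S.a * v S.a + 11 * v S.b * v S.b - 20 * v S.θ * v S.θ : ℤ) : ℚ) = 0 := by
        push_cast at hsq7 ⊢; linear_combination 1320 * hsq7
      exact_mod_cast this
    have q11 : 840 - 7 * v S.b * v S.b - 40 * v A * v A + 4 * v A' * v A' + 4 * v D * v D - 3 * v u * v u = 0 := by
      have : ((840 - 7 * v S.b * v S.b - 40 * v A * v A + 4 * v A' * v A' + 4 * v D * v D - 3 * v u * v u : ℤ) : ℚ) = 0 := by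
        push_cast at hsq11 ⊢; linear_combination 840 * hsq11
      exact_mod_cast this
    have hu2 := val_ok hL hzz hz1 (hne1 u (by omega))
    have hθ2 := val_ok hL hzz hz1 (hne1 S.θ (by omega))
    have hg2 := val_ok hL hzz hz1 (hne1 g (by omega))
    have hk2 := val_ok hL hzz hz1 (hne1 k (by omega))
    rw [hfdeg.1, hf280.1] at hu2
    rw [hθd] at hθ2
    rw [hgd] at hg2
    rw [hkd] at hk2
    have la := hvok S.a S.a_ne
    have lb := hvok S.b S.b_ne
    have lA := hvok A (hne1 A (by omega))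
    have lA' := hvok A' (hne1 A' (by omega))
    have lD := hvok D (hne1 D (by omega))
    rw [S.deg_a] at la
    rw [hb] at lb
    rw [hA21] at lA
    rw [hA210] at lA'
    rw [hD210] at lD
    have hno := search_two _ hCmem _ la _ lb (by rw [← hθv.1]; exact q7) _ lA _ lA' _ lD (by rw [← hv11']; exact q11)
    have hyes : validTwo C (v S.a) (v S.b) (v A) (v A') (v D) = true := by
      simp only [validTwo, ← hθv.1, ← hv11', ← hv5]
      push_cast at hS
      set Sv := 1 + 55 * v S.a + 120 * v S.b + 132 * v S.θ + 21 * v A + 210 * v A' + 210 * v D + 560 * v u + 154 * v g with hSv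
      have hk385 : Sv = -385 * v k := by rw [hSv]; linarith
      have hdiv : -Sv / 385 = v k := by omega
      simp only [hdiv, Bool.and_eq_true, decide_eq_true_eq]
      exact ⟨⟨⟨⟨hθ2, hu2⟩, hg2⟩, hk2⟩, by omega, q7, q11, by linarith, hW ▸ hW0⟩
    rw [hno] at hyes
    exact Bool.false_ne_true hyes

end CfsgLib.MTwentyTwoUnique
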