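import Cfsg.Agent.Lib.MTwentyTwoUnique.Rank
import Mathlib

/-!
The strongly regular graph (77, 16, 0, 4) of the action.
-/

set_option autoImplicit false
set_option linter.style.haveILetI false

noncomputable section

namespace CfsgLib.MTwentyTwoUnique

open Subgroup Cfsg
attribute [local instance] Classical.propDecidable

universe w

/-- The numerical possibilities for the suborbits. -/
theorem subdegree_search : ∀ d ∈ List.range 77, ∀ s ∈ [1, 2, 4, 8, 16], ∀ t ∈ [1, 2, 4, 8, 16],
    d * s + (76 - d) * t = 256 → d % 5 + (76 - d) % 5 = 1 → d ≠ 0 → 76 - d ≠ 0 → 5760 % d = 0 →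
      5760 % (76 - d) = 0 → d = 16 ∨ d = 60 := by decide +kernel

variable {G : Type w} [Group G] [Fintype G]

namespace RankData

variable (R : RankData G)

/-- The base point. -/
def base : G ⧸ R.N := ((1 : G) : G ⧸ R.N)

theorem smul_base {g : G} : g • R.base = R.base ↔ g ∈ R.N := by
  have h : g ∈ MulAction.stabilizer G (((1 : G) : G ⧸ R.N)) ↔ g ∈ R.N := by rw [MulAction.stabilizer_quotient]
  exact MulAction.mem_stabilizer_iff.symm.trans h

theorem exists_smul (x : G ⧸ R.N) : ∃ g : G, g • R.base = x := MulAction.exists_smul_eq G R.base x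

/-- The number of elements of `E` fixing a point. -/
def fixE (x : G ⧸ R.N) : ℕ := Nat.card {e : R.E // (e : G) • x = x}

theorem fixE_smul {n : G} (hn : n ∈ R.N) (x : G ⧸ R.N) : R.fixE (n • x) = R.fixE x := by
  refine Nat.card_congr
    { toFun := fun e => ⟨⟨n⁻¹ * (e.1 : G) * n, by
        simpa using R.normal n⁻¹ (R.N.inv_mem hn) _ e.1.2⟩, by
          show (n⁻¹ * (e.1 : G) * n) • x = x
          rw [mul_smul, mul_smul, e.2, inv_smul_smul]⟩
      invFun := fun e => ⟨⟨n * (e.1 : G) * n⁻¹, R.normal n hn _ e.1.2⟩, by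
          show (n * (e.1 : G) * n⁻¹) • n • x = n • x
          rw [mul_smul, mul_smul, inv_smul_smul, e.2]⟩
      left_inv := fun e => Subtype.ext (Subtype.ext (by show n * (n⁻¹ * (e.1 : G) * n) * n⁻¹ = e.1; group))
      right_inv := fun e => Subtype.ext (Subtype.ext (by show n⁻¹ * (n * (e.1 : G) * n⁻¹) * n = e.1; group)) }

theorem fixE_mem (x : G ⧸ R.N) : R.fixE x ∈ [1, 2, 4, 8, 16] := by
  let S : Subgroup R.E := (MulAction.stabilizer G x).subgroupOf R.E
  have hS : Nat.card S = R.fixE x := Nat.card_congr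
    (Equiv.subtypeEquivRight fun e => by
      show (e : G) ∈ MulAction.stabilizer G x ↔ _
      exact MulAction.mem_stabilizer_iff)
  have hd : R.fixE x ∣ 16 := hS ▸ R.card_E ▸ Subgroup.card_subgroup_dvd_card S
  have key : ∀ k ∈ Nat.divisors 16, k ∈ [1, 2, 4, 8, 16] := by decide
  exact key _ (Nat.mem_divisors.2 ⟨hd, by norm_num⟩)

/-- The orbit of the point stabiliser through a point. -/
def Orb (b x : G ⧸ R.N) : Prop := ∃ n ∈ R.N, n • b = x

theorem Orb.refl (b : G ⧸ R.N) : R.Orb b b := ⟨1, R.N.one_mem, one_smul _ _⟩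

variable {R} in
theorem Orb.smul {b x : G ⧸ R.N} (h : R.Orb b x) {n : G} (hn : n ∈ R.N) : R.Orb b (n • x) := by
  obtain ⟨m, hm, rfl⟩ := h
  exact ⟨n * m, R.N.mul_mem hn hm, mul_smul _ _ _⟩

variable {R} in
theorem Orb.symm {b x : G ⧸ R.N} (h : R.Orb b x) : R.Orb x b := by
  obtain ⟨m, hm, rfl⟩ := h
  exact ⟨m⁻¹, R.N.inv_mem hm, inv_smul_smul _ _⟩

theorem orb_card_dvd (b : G ⧸ R.N) : Nat.card {x // R.Orb b x} ∣ 5760 := by
  have h := MulAction.card_orbit_mul_card_stabilizer_eq_card_group R.N b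
  simp only [← Nat.card_eq_fintype_card] at h
  refine Dvd.intro (Nat.card (MulAction.stabilizer R.N b)) ?_
  rw [← R.card_N, ← h]
  congr 1
  exact Nat.card_congr (Equiv.subtypeEquivRight fun x =>
    ⟨fun ⟨n, hn, e⟩ => ⟨⟨n, hn⟩, e⟩, fun ⟨n, e⟩ => ⟨n, n.2, e⟩⟩)

variable (hL : Local G)
include hL

/-- The suborbit of length 16. -/
theorem exists_sixteen_orbit : ∃ b, b ≠ R.base ∧ Nat.card {x // R.Orb b x} = 16 ∧
    Nat.card {x // x ≠ R.base ∧ ¬ R.Orb b x} = 60 ∧
    ∀ x y, x ≠ R.base → ¬ R.Orb b x → y ≠ R.base → ¬ R.Orb b y → R.Orb x y := by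
  classical
  haveI : Fact (Nat.Prime 5) := ⟨by norm_num⟩
  haveI : Fintype (G ⧸ R.N) := Fintype.ofFinite _
  haveI : Finite (MulAction.orbitRel.Quotient R.N (G ⧸ R.N)) := Quotient.finite _
  let q : G ⧸ R.N → MulAction.orbitRel.Quotient R.N (G ⧸ R.N) := fun x => Quotient.mk'' x
  have hq : ∀ x y, q x = q y ↔ R.Orb y x := fun x y =>
    Quotient.eq''.trans (MulAction.orbitRel_apply.trans ⟨fun ⟨n, e⟩ => ⟨n, n.2, e⟩, fun ⟨n, hn, e⟩ => ⟨⟨n, hn⟩, e⟩⟩)
  have hbase : ∀ x, R.Orb R.base x → x = R.base := fun x ⟨n, hn, e⟩ => e ▸ R.smul_base.2 hn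
  haveI : Fintype (MulAction.orbitRel.Quotient R.N (G ⧸ R.N)) := Fintype.ofFinite _
  obtain ⟨u, v, w, huv, huw, hvw, hall⟩ := Finset.card_eq_three.1
    (show (Finset.univ : Finset (MulAction.orbitRel.Quotient R.N (G ⧸ R.N))).card = 3 by
      rw [Finset.card_univ, ← Nat.card_eq_fintype_card, R.rank])
  have hsur : ∀ o, ∃ x, q x = o := fun o => Quotient.exists_rep o
  -- arrange that the first class is the base point
  obtain ⟨b, c, hbc, hb, hc, hcov⟩ : ∃ b c, ¬ R.Orb b c ∧ b ≠ R.base ∧ c ≠ R.base ∧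
      ∀ x, x = R.base ∨ R.Orb b x ∨ R.Orb c x := by
    have h3 : ∀ o, o = u ∨ o = v ∨ o = w := fun o => by simpa using hall.subset (Finset.mem_univ o)
    have pick : ∀ o₁ o₂, o₁ ≠ o₂ → o₁ ≠ q R.base → o₂ ≠ q R.base →
        (∀ o, o = q R.base ∨ o = o₁ ∨ o = o₂) → ∃ b c, ¬ R.Orb b c ∧ b ≠ R.base ∧ c ≠ R.base ∧
        ∀ x, x = R.base ∨ R.Orb b x ∨ R.Orb c x := by
      intro o₁ o₂ h12 h1 h2 h
      obtain ⟨b, rfl⟩ := hsur o₁
      obtain ⟨c, rfl⟩ := hsur o₂
      refine ⟨b, c, fun hh => h12 ((hq c b).2 hh).symm, fun e => h1 (by rw [e]), fun e => h2 (by rw [e]), fun x => ?_⟩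
      rcases h (q x) with e | e | e
      · exact Or.inl (hbase x ((hq _ _).1 e))
      · exact Or.inr (Or.inl ((hq _ _).1 e))
      · exact Or.inr (Or.inr ((hq _ _).1 e))
    rcases h3 (q R.base) with e | e | e
    · exact pick v w hvw (e ▸ huv.symm) (e ▸ huw.symm) fun o => by rcases h3 o with h | h | h <;> simp [h, e]
    · exact pick u w huw (e ▸ huv) (e ▸ hvw.symm) fun o => by rcases h3 o with h | h | h <;> simp [h, e]
    · exact pick u v huv (e ▸ huw) (e ▸ hvw) fun o => by rcases h3 o with h | h | h <;> simp [h, e]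
  have hdisj : ∀ x, R.Orb b x → ¬ R.Orb c x := fun x h1 h2 => hbc (by
    obtain ⟨n, hn, e⟩ := h2.symm
    exact e ▸ h1.smul hn)
  have hnb : ¬ R.Orb b R.base := fun h => hb (hbase b h.symm)
  have hnc : ¬ R.Orb c R.base := fun h => hc (hbase c h.symm)
  set B := Finset.univ.filter fun x => R.Orb b x with hB
  set C := Finset.univ.filter fun x => R.Orb c x with hC
  have hsplit : ∀ (F : G ⧸ R.N → ℕ), ∑ x, F x = F R.base + (∑ x ∈ B, F x + ∑ x ∈ C, F x) := fun F => by
    have hu : (Finset.univ : Finset (G ⧸ R.N)) = insert R.base (B ∪ C) := by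
      ext x
      simpa [hB, hC] using hcov x
    rw [hu, Finset.sum_insert (by simp [hB, hC, hnb, hnc]),
      Finset.sum_union (Finset.disjoint_left.2 fun x h1 h2 =>
        hdisj x (by simpa [hB] using h1) (by simpa [hC] using h2))]
  have hconst : ∀ z, ∀ x ∈ Finset.univ.filter (fun x => R.Orb z x), R.fixE x = R.fixE z := fun z x hx => by
    obtain ⟨n, hn, rfl⟩ := (Finset.mem_filter.1 hx).2
    exact R.fixE_smul hn z
  -- the counts
  have h76 := hsplit fun _ => 1
  simp only [Finset.sum_const, smul_eq_mul, mul_one, Finset.card_univ, ← Nat.card_eq_fintype_card, R.card_pts] at h76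
  have hE : ∑ x, R.fixE x = 272 := by
    have h1 : ∀ x, R.fixE x = ∑ e : R.E, if (e : G) • x = x then 1 else 0 := fun x => by
      rw [fixE, Nat.card_eq_fintype_card, Fintype.card_subtype, Finset.card_filter]
    simp only [h1]
    rw [Finset.sum_comm, Finset.sum_congr rfl (g := fun e : R.E => if e = 1 then 77 else 13) fun e _ => ?_,
      ← Finset.add_sum_erase _ _ (Finset.mem_univ (1 : R.E)), if_pos rfl,
      Finset.sum_congr rfl (g := fun _ => 13) fun e he => if_neg (Finset.ne_of_mem_erase he),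
      Finset.sum_const, Finset.card_erase_of_mem (Finset.mem_univ _), Finset.card_univ, ← Nat.card_eq_fintype_card,
      R.card_E]
    · rfl
    rw [← Finset.card_filter]
    by_cases he : e = 1
    · subst he
      rw [if_pos rfl, ← R.card_pts, Nat.card_eq_fintype_card, Finset.filter_true_of_mem (by simp), Finset.card_univ]
    · rw [if_neg he, ← R.fix_invol e e.2 (fun h => he (Subtype.ext h)), Nat.card_eq_fintype_card,
        ← Fintype.card_subtype]
      exact Fintype.card_congr (Equiv.subtypeEquivRight fun x => Iff.rfl)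
  rw [hsplit, Finset.sum_congr rfl (hconst b), Finset.sum_congr rfl (hconst c), Finset.sum_const, Finset.sum_const,
    smul_eq_mul, smul_eq_mul, ← hB, ← hC] at hE
  have hfb : R.fixE R.base = 16 := by
    rw [fixE, ← R.card_E]
    exact Nat.card_congr (Equiv.subtypeUnivEquiv fun e => R.smul_base.2 (R.le e.2))
  rw [hfb] at hE
  -- an element of order five
  obtain ⟨x5, hx5⟩ := exists_prime_orderOf_dvd_card' (G := R.N) 5 (by rw [R.card_N]; norm_num)
  have hf := R.fix_five (x5 : G) (by rw [Subgroup.orderOf_coe, hx5])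
  have hpow : (x5 : G) ^ 5 = 1 := by rw [← hx5, ← Subgroup.orderOf_coe]; exact pow_orderOf_eq_one _
  have hfive : ∀ z, Nat.card {x // R.Orb z x} % 5 = Nat.card {x // R.Orb z x ∧ (x5 : G) • x = x} % 5 := by
    intro z
    let σ : Equiv.Perm {x // R.Orb z x} := (MulAction.toPerm (x5 : G)).subtypePerm fun x =>
      ⟨fun h => by simpa using h.smul (R.N.inv_mem x5.2), fun h => h.smul x5.2⟩
    have hs : σ ^ 5 = 1 := by
      rw [Equiv.Perm.subtypePerm_pow]
      ext x
      simp [← MulAction.toPermHom_apply, ← map_pow, hpow]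
    have h := CfsgLib.KnownSimple.Order7920.perm_fixed_modEq σ hs
    rw [Nat.ModEq] at h
    rw [h]
    congr 1
    exact Nat.card_congr
      { toFun := fun x => ⟨x.1.1, x.1.2, congrArg Subtype.val x.2⟩
        invFun := fun x => ⟨⟨x.1, x.2.1⟩, Subtype.ext x.2.2⟩
        left_inv := fun _ => rfl
        right_inv := fun _ => rfl }
  have hcard : ∀ (p : G ⧸ R.N → Prop), Nat.card {x // p x} = (Finset.univ.filter p).card := fun p => by
    rw [Nat.card_eq_fintype_card, Fintype.card_subtype]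
  have hfB := hfive b
  have hfC := hfive c
  rw [hcard, hcard, ← hB] at hfB
  rw [hcard, hcard, ← hC] at hfC
  have hfsum : (Finset.univ.filter fun x => R.Orb b x ∧ (x5 : G) • x = x).card +
      (Finset.univ.filter fun x => R.Orb c x ∧ (x5 : G) • x = x).card = 1 := by
    have h := hsplit fun x => if (x5 : G) • x = x then 1 else 0
    rw [if_pos (R.smul_base.2 x5.2), ← Finset.card_filter, ← Finset.card_filter, ← Finset.card_filter,
      hB, hC, Finset.filter_filter, Finset.filter_filter] at h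
    have h2 : (Finset.univ.filter fun x : G ⧸ R.N => (x5 : G) • x = x).card = 2 := by
      rw [← hf]
      rw [← Fintype.card_subtype, ← Nat.card_eq_fintype_card]
      exact Nat.card_congr (Equiv.subtypeEquivRight fun x => Iff.rfl)
    omega
  have hBd := R.orb_card_dvd b
  have hCd := R.orb_card_dvd c
  rw [hcard, ← hB] at hBd
  rw [hcard, ← hC] at hCd
  have hB0 : B.card ≠ 0 := fun h => by
    have := Finset.card_eq_zero.1 h
    exact Finset.notMem_empty b (this ▸ Finset.mem_filter.2 ⟨Finset.mem_univ _, Orb.refl R b⟩)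
  have hC0 : C.card ≠ 0 := fun h => by
    have := Finset.card_eq_zero.1 h
    exact Finset.notMem_empty c (this ▸ Finset.mem_filter.2 ⟨Finset.mem_univ _, Orb.refl R c⟩)
  have hCe : C.card = 76 - B.card := by omega
  have hmod5 : B.card % 5 + C.card % 5 = 1 := by
    have gen : ∀ p q : ℕ, p + q = 1 → p % 5 + q % 5 = 1 := by omega
    rw [hfB, hfC]
    refine gen _ _ ?_
    convert hfsum
  have hres := subdegree_search B.card (List.mem_range.2 (by omega)) _ (R.fixE_mem b) _ (R.fixE_mem c)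
    (by rw [← hCe]; omega) (by rw [← hCe]; exact hmod5) hB0 (by omega) (Nat.mod_eq_zero_of_dvd hBd)
    (by rw [← hCe]; exact Nat.mod_eq_zero_of_dvd hCd)
  have fin : ∀ b c : G ⧸ R.N, b ≠ R.base → (∀ x, x = R.base ∨ R.Orb b x ∨ R.Orb c x) →
      (∀ x, R.Orb b x → ¬ R.Orb c x) → c ≠ R.base → Nat.card {x // R.Orb b x} = 16 →
      Nat.card {x // R.Orb c x} = 60 → ∃ b, b ≠ R.base ∧ Nat.card {x // R.Orb b x} = 16 ∧
      Nat.card {x // x ≠ R.base ∧ ¬ R.Orb b x} = 60 ∧
      ∀ x y, x ≠ R.base → ¬ R.Orb b x → y ≠ R.base → ¬ R.Orb b y → R.Orb x y := by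
    intro b c hb hcov hdisj hc h16 h60
    refine ⟨b, hb, h16, ?_, fun x y hx1 hx2 hy1 hy2 => ?_⟩
    · rw [← h60]
      refine Nat.card_congr (Equiv.subtypeEquivRight fun x => ⟨fun h => ((hcov x).resolve_left h.1).resolve_left h.2,
        fun h => ⟨fun e => hc (hbase c (e ▸ h).symm), fun hh => hdisj x hh h⟩⟩)
    · obtain ⟨n, hn, e⟩ := (((hcov x).resolve_left hx1).resolve_left hx2).symm
      obtain ⟨m, hm, e'⟩ := ((hcov y).resolve_left hy1).resolve_left hy2
      exact ⟨m * n, R.N.mul_mem hm hn, by rw [mul_smul, e, e']⟩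
  rcases hres with h | h
  · exact fin b c hb hcov hdisj hc (by rw [hcard, ← hB]; exact h) (by rw [hcard, ← hC]; omega)
  · refine fin c b hc (fun x => ?_) (fun x h1 h2 => hdisj x h2 h1) hb (by rw [hcard, ← hC]; omega)
      (by rw [hcard, ← hB]; exact h)
    rcases hcov x with e | e | e
    exacts [Or.inl e, Or.inr (Or.inr e), Or.inr (Or.inl e)]

/-- The orbital graph is strongly regular with parameters (77, 16, 0, 4). -/
theorem exists_graph [Fintype (G ⧸ R.N)] : ∃ Γ : SimpleGraph (G ⧸ R.N),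
    Γ.IsSRGWith 77 16 0 4 ∧ ∀ (g : G) (x y : G ⧸ R.N), Γ.Adj (g • x) (g • y) ↔ Γ.Adj x y := by
  classical
  obtain ⟨b, hb, h16, h60, htrans⟩ := R.exists_sixteen_orbit hL
  set A : G ⧸ R.N → G ⧸ R.N → Prop := fun x y => ∃ g : G, g • R.base = x ∧ g • b = y with hA
  have hinv : ∀ (g : G) x y, A (g • x) (g • y) ↔ A x y := by
    refine fun g x y => ⟨?_, ?_⟩
    · rintro ⟨k, e1, e2⟩
      exact ⟨g⁻¹ * k, by rw [mul_smul, e1, inv_smul_smul], by rw [mul_smul, e2, inv_smul_smul]⟩
    · rintro ⟨k, rfl, rfl⟩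
      exact ⟨g * k, mul_smul _ _ _, mul_smul _ _ _⟩
  have hAb : ∀ y, A R.base y ↔ R.Orb b y := fun y =>
    ⟨fun ⟨g, e1, e2⟩ => ⟨g, R.smul_base.1 e1, e2⟩, fun ⟨n, hn, e⟩ => ⟨n, R.smul_base.2 hn, e⟩⟩
  have hirr : ∀ x, ¬ A x x := by
    rintro x ⟨g, e1, e2⟩
    exact hb (smul_left_cancel g (e2.trans e1.symm))
  have hout : ∀ x, Nat.card {y // A x y} = 16 := by
    intro x
    obtain ⟨g, rfl⟩ := R.exists_smul x
    rw [← h16]
    refine (Nat.card_congr (Equiv.subtypeEquiv (MulAction.toPerm g) fun y => ?_)).symm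
    rw [MulAction.toPerm_apply, hinv, hAb]
  have hin : Nat.card {x // A x R.base} = 16 := by
    have hc : ∀ y, Nat.card {x // A x y} = Nat.card {x // A x R.base} := fun y => by
      obtain ⟨g, rfl⟩ := R.exists_smul y
      refine (Nat.card_congr (Equiv.subtypeEquiv (MulAction.toPerm g) fun x => ?_)).symm
      rw [MulAction.toPerm_apply, hinv]
    have e : (Σ x, {y // A x y}) ≃ Σ y, {x // A x y} :=
      { toFun := fun p => ⟨p.2.1, p.1, p.2.2⟩
        invFun := fun p => ⟨p.2.1, p.1, p.2.2⟩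
        left_inv := fun _ => rfl
        right_inv := fun _ => rfl }
    have h := Nat.card_congr e
    rw [Nat.card_sigma, Nat.card_sigma, Finset.sum_congr rfl (fun x _ => hout x),
      Finset.sum_congr rfl (fun y _ => hc y), Finset.sum_const, Finset.sum_const, smul_eq_mul, smul_eq_mul,
      Finset.card_univ, ← Nat.card_eq_fintype_card, R.card_pts] at h
    omega
  have hsym : ∀ x y, A x y → A y x := by
    intro x y h
    obtain ⟨g, e1, e2⟩ := id h
    subst e1
    subst e2
    rw [hinv]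
    by_contra hcon
    -- `b` is joined to the base only from outside
    obtain ⟨k, hk⟩ := R.exists_smul b
    have hz : A (k⁻¹ • R.base) R.base := by
      have h' : A R.base b := (hAb b).2 (Orb.refl R b)
      have := (hinv k⁻¹ R.base b).2 h'
      rwa [← hk, inv_smul_smul] at this
    have hz1 : k⁻¹ • R.base ≠ R.base := fun e => by rw [e] at hz; exact hirr _ hz
    have hz2 : ¬ R.Orb b (k⁻¹ • R.base) := fun e => hcon (by
      obtain ⟨n, hn, en⟩ := e
      have h1 : A (n⁻¹ • k⁻¹ • R.base) (n⁻¹ • R.base) := (hinv n⁻¹ _ _).2 hz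
      rwa [← en, inv_smul_smul, R.smul_base.2 (R.N.inv_mem hn)] at h1)
    have hle : Nat.card {x // x ≠ R.base ∧ ¬ R.Orb b x} ≤ Nat.card {x // A x R.base} := by
      refine Nat.card_le_card_of_injective (fun x => ⟨x.1, ?_⟩) fun x y e => Subtype.ext (congrArg Subtype.val e :)
      obtain ⟨n, hn, en⟩ := htrans _ _ hz1 hz2 x.2.1 x.2.2
      have := (hinv n _ _).2 hz
      rwa [en, R.smul_base.2 hn] at this
    omega
  let Γ : SimpleGraph (G ⧸ R.N) :=
    { Adj := A
      symm := ⟨fun x y h => hsym x y h⟩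
      loopless := ⟨fun x => hirr x⟩ }
  obtain ⟨c, hc1, hc2⟩ : ∃ c, c ≠ R.base ∧ ¬ R.Orb b c := by
    haveI : Nonempty {x // x ≠ R.base ∧ ¬ R.Orb b x} := Finite.card_pos_iff.1 (by omega)
    obtain ⟨x, hx⟩ := (inferInstance : Nonempty {x // x ≠ R.base ∧ ¬ R.Orb b x})
    exact ⟨x, hx⟩
  have hcommon : ∀ x y, Fintype.card (Γ.commonNeighbors x y) = Nat.card {z // A x z ∧ A y z} := fun x y => by
    rw [← Nat.card_eq_fintype_card]
    rfl
  have hcinv : ∀ (g : G) x y, Nat.card {z // A (g • x) z ∧ A (g • y) z} = Nat.card {z // A x z ∧ A y z} :=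
    fun g x y => (Nat.card_congr (Equiv.subtypeEquiv (MulAction.toPerm g) fun z => by
      rw [MulAction.toPerm_apply, hinv, hinv])).symm
  have hreg : Γ.IsRegularOfDegree 16 := fun x => by
    rw [← SimpleGraph.card_neighborSet_eq_degree, ← Nat.card_eq_fintype_card]
    exact hout x
  have hsrg : Γ.IsSRGWith 77 16 (Nat.card {z // A R.base z ∧ A b z}) (Nat.card {z // A R.base z ∧ A c z}) := by
    refine ⟨by rw [← Nat.card_eq_fintype_card, R.card_pts], hreg, fun x y h => ?_, fun x y hne h => ?_⟩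
    · obtain ⟨g, rfl, rfl⟩ := h
      rw [hcommon, hcinv]
    · obtain ⟨g, rfl⟩ := R.exists_smul x
      obtain ⟨y', rfl⟩ : ∃ y', g • y' = y := ⟨g⁻¹ • y, smul_inv_smul _ _⟩
      have h1 : y' ≠ R.base := fun e => hne (by rw [e])
      have h2 : ¬ R.Orb b y' := fun e => h ((hinv g _ _).2 ((hAb y').2 e))
      obtain ⟨n, hn, rfl⟩ := htrans c y' hc1 hc2 h1 h2
      rw [hcommon, hcinv]
      conv_lhs => rw [← R.smul_base.2 hn]
      exact hcinv n _ _
  set l := Nat.card {z // A R.base z ∧ A b z} with hl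
  set mu := Nat.card {z // A R.base z ∧ A c z} with hmu
  have hpar := SimpleGraph.IsSRGWith.param_eq Γ hsrg (by norm_num)
  have hl15 : l ≠ 15 := by
    intro h15
    have htriv : ∀ x y z, A x y → A x z → y = z ∨ A y z := by
      intro x y z hxy hxz
      by_contra hcon
      push Not at hcon
      have hsub : ({w | A x w ∧ A y w} : Set (G ⧸ R.N)) ⊆ ({w | A x w} : Set (G ⧸ R.N)) \ {y, z} := fun w hw =>
        ⟨hw.1, fun e => by
          rcases e with e | e
          · exact hirr y (e ▸ hw.2)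
          · exact hcon.2 ((Set.mem_singleton_iff.1 e) ▸ hw.2)⟩
      have h1 := Set.ncard_le_ncard hsub (Set.toFinite _)
      rw [Set.ncard_sdiff (show ({y, z} : Set (G ⧸ R.N)) ⊆ {w | A x w} from fun w hw => by
          rcases hw with rfl | rfl; exacts [hxy, hxz]), Set.ncard_pair hcon.1, ← Nat.card_coe_set_eq,
        ← Nat.card_coe_set_eq] at h1
      have h2 : Nat.card ({w | A x w ∧ A y w} : Set (G ⧸ R.N)) = 15 := by
        obtain ⟨g, rfl, rfl⟩ := id hxy
        rw [show Nat.card ({w | A (g • R.base) w ∧ A (g • b) w} : Set (G ⧸ R.N)) = _ from hcinv g R.base b]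
        exact h15
      have h3 : Nat.card ({w | A x w} : Set (G ⧸ R.N)) = 16 := hout x
      omega
    let s : Setoid (G ⧸ R.N) :=
      { r := fun x y => x = y ∨ A x y
        iseqv := ⟨fun x => Or.inl rfl, fun h => h.elim (fun e => Or.inl e.symm) fun e => Or.inr (hsym _ _ e),
          fun h h' => by
            rcases h with rfl | h
            · exact h'
            rcases h' with rfl | h'
            · exact Or.inr h
            exact htriv _ _ _ (hsym _ _ h) h'⟩ }
    have hfib : ∀ o : Quotient s, Nat.card {x // Quotient.mk s x = o} = 17 := by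
      intro o
      obtain ⟨x₀, rfl⟩ := Quotient.exists_rep o
      rw [Nat.card_congr (Equiv.subtypeEquivRight (q := fun x => x ∈ insert x₀ ({w | A x₀ w} : Set (G ⧸ R.N))) fun x =>
        Quotient.eq.trans (show (x = x₀ ∨ A x x₀) ↔ (x = x₀ ∨ A x₀ x) from
          ⟨fun h => h.elim Or.inl fun e => Or.inr (hsym _ _ e),
            fun h => h.elim Or.inl fun e => Or.inr (hsym _ _ e)⟩))]
      rw [show Nat.card {x // x ∈ insert x₀ ({w | A x₀ w} : Set (G ⧸ R.N))} =
          (insert x₀ ({w | A x₀ w} : Set (G ⧸ R.N))).ncard from Nat.card_coe_set_eq _,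
        Set.ncard_insert_of_notMem (show x₀ ∉ ({w | A x₀ w} : Set (G ⧸ R.N)) from hirr x₀), ← Nat.card_coe_set_eq]
      exact congrArg (· + 1) (hout x₀)
    haveI : Fintype (Quotient s) := Fintype.ofFinite _
    have h := Nat.card_congr (Equiv.sigmaFiberEquiv (Quotient.mk s)).symm
    rw [Nat.card_sigma, Finset.sum_congr rfl fun o _ => hfib o, Finset.sum_const, smul_eq_mul, R.card_pts] at h
    omega
  have hl16 : l ≤ 15 := by
    have h := hsrg.of_adj R.base b ((hAb b).2 (Orb.refl R b))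
    have h2 := SimpleGraph.Adj.card_commonNeighbors_lt_degree (G := Γ) (show Γ.Adj R.base b from (hAb b).2 (Orb.refl R b))
    rw [h, hreg] at h2
    omega
  refine ⟨Γ, ?_, hinv⟩
  obtain ⟨e0, e4⟩ : l = 0 ∧ mu = 4 := by
    interval_cases l <;> omega
  rw [e0, e4] at hsrg
  convert hsrg

end RankData

end CfsgLib.MTwentyTwoUnique
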