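import Cfsg.Agent.Lib.MTwelveUnique.Common
import Cfsg.Agent.Lib.SmallGroups.Order459648.Local
import Mathlib

/-!
The local facts at 5, 7 and 11 from which a group of order 443520 is identified with the Mathieu group
of degree 22.
-/

set_option autoImplicit false

noncomputable section

namespace CfsgLib.MTwentyTwoUnique

open Subgroup CfsgLib.InvolChar Cfsg
attribute [local instance] Classical.propDecidable

/-- The order, simplicity and the Sylow normalizers at 7, 11. -/
structure Pre (G : Type*) [Group G] : Prop where
  card : Nat.card G = 443520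
  simple : IsSimpleGroup G
  seven : ∀ x : G, orderOf x = 7 → Nat.card (centralizer ({x} : Set G)) = 7 ∧
    Nat.card (normalizer ((zpowers x : Subgroup G) : Set G)) = 21
  eleven : ∀ x : G, orderOf x = 11 → Nat.card (centralizer ({x} : Set G)) = 11 ∧
    Nat.card (normalizer ((zpowers x : Subgroup G) : Set G)) = 55

/-- The order, simplicity and the Sylow normalizers at 5, 7, 11. -/
structure Local (G : Type*) [Group G] : Prop extends Pre G where
  five : ∀ x : G, orderOf x = 5 → Nat.card (normalizer ((zpowers x : Subgroup G) : Set G)) = 20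

instance coeLocalPre {G : Type*} [Group G] : Coe (Local G) (Pre G) := ⟨Local.toPre⟩

variable {G : Type*} [Group G] [Fintype G] (hL : Pre G)

include hL

omit [Fintype G] in
theorem not_comm : ¬ IsMulCommutative G := by
  haveI : Finite G := Nat.finite_of_card_ne_zero (by rw [hL.card]; norm_num)
  haveI := hL.simple
  exact CfsgLib.SmallGroups.not_isMulCommutative_of_not_prime (by rw [hL.card]; norm_num)

theorem linear_trivial (f : G →* ℂˣ) : f = 1 := by
  haveI := hL.simple
  ext g
  have hp : commutator G = ⊤ := CfsgLib.SmallGroups.commutator_eq_top_of_simple (not_comm hL)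
  have hg : g ∈ f.ker := Abelianization.commutator_subset_ker f (by rw [hp]; exact mem_top g)
  exact congrArg Units.val (MonoidHom.mem_ker.mp hg)

theorem deg_dvd (χ : IrrCharacter G) : deg χ ∣ 443520 :=
  hL.card ▸ CfsgLib.Char.degree_dvd_card χ.2 (deg_spec χ)

theorem sum_sq_deg : ∑ χ : IrrCharacter G, (deg χ : ℤ) * deg χ = 443520 := by
  have h := CfsgLib.Char.sum_degree_sq (G := G)
  simp only [deg_spec, hL.card, ← pow_two] at h
  simp only [← pow_two]
  exact_mod_cast h

/-- The Sylow data in the shape the block theorem wants. -/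
theorem sylow_data {p c N : ℕ} [Fact p.Prime] (hp : p ^ 1 * (443520 / p) = 443520) (hp' : ¬ p ∣ 443520 / p)
    (hloc : ∀ x : G, orderOf x = p → Nat.card (centralizer ({x} : Set G)) = c ∧
      Nat.card (normalizer ((zpowers x : Subgroup G) : Set G)) = N) (P : Sylow p G) :
    Nat.card (P : Subgroup G) = p ∧ Nat.card (centralizer ((P : Subgroup G) : Set G)) = c ∧
      c * (centralizer ((P : Subgroup G) : Set G)).relIndex (normalizer ((P : Subgroup G) : Set G)) = N := by
  have hP : Nat.card (P : Subgroup G) = p := by
    simpa using CfsgLib.SmallGroups.card_sylow_eq (hL.card.trans hp.symm) hp' P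
  have hz := CfsgLib.Blocks.PrimeSylow.zpowers_gen P hP
  obtain ⟨h1, h2⟩ := hloc _ (CfsgLib.Blocks.PrimeSylow.orderOf_gen P hP)
  rw [← centralizer_closure, ← zpowers_eq_closure, hz] at h1
  rw [hz] at h2
  refine ⟨hP, h1, ?_⟩
  rw [← h2, ← h1]
  exact CfsgLib.SmallGroups.Order459648.card_centralizer_mul_relIndex _

/-- The centraliser of an element of order five has order 5, 10 or 20. -/
theorem not_dvd_centralizer_of_self {p : ℕ} [Fact p.Prime]
    (hloc : ∀ x : G, orderOf x = p → Nat.card (centralizer ({x} : Set G)) = p) {g : G} (hg : g ≠ 1)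
    (hgp : orderOf g ≠ p) : ¬ p ∣ Nat.card (centralizer ({g} : Set G)) := by
  intro h
  obtain ⟨c, hc⟩ := exists_prime_orderOf_dvd_card' (G := centralizer ({g} : Set G)) p h
  have hcG : orderOf (c : G) = p := by rw [Subgroup.orderOf_coe, hc]
  have hmem : g ∈ centralizer ({(c : G)} : Set G) :=
    mem_centralizer_singleton_iff.mpr (mem_centralizer_singleton_iff.mp c.2).symm
  have hd := Subgroup.orderOf_dvd_natCard (s := centralizer ({(c : G)} : Set G)) hmem
  rw [hloc _ hcG] at hd
  rcases (Nat.dvd_prime Fact.out).mp hd with e | e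
  · exact hg (orderOf_eq_one_iff.mp e)
  · exact hgp e

end CfsgLib.MTwentyTwoUnique
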