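import Cfsg.Agent.Lib.MTwentyTwoUnique.Sixteen
import Mathlib

/-!
The normaliser of the subgroup of order sixteen has index 77.
-/

set_option autoImplicit false
set_option linter.style.haveILetI false

noncomputable section

namespace CfsgLib.MTwentyTwoUnique

open Subgroup Cfsg
attribute [local instance] Classical.propDecidable

variable {G : Type*} [Group G] [Fintype G]

/-- Orbit and stabiliser for conjugation by a subgroup. -/
theorem card_eq_orbit_mul (N : Subgroup G) (t : G) :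
    Nat.card N = Nat.card {v : G // ∃ n ∈ N, n * t * n⁻¹ = v} *
      Nat.card (N ⊓ centralizer ({t} : Set G) : Subgroup G) := by
  letI : MulAction N G := MulAction.compHom G ((MulAut.conj : G →* MulAut G).comp N.subtype)
  have hsm : ∀ (n : N) (v : G), n • v = (n : G) * v * (n : G)⁻¹ := fun n v => rfl
  have h := MulAction.card_orbit_mul_card_stabilizer_eq_card_group N t
  simp only [← Nat.card_eq_fintype_card] at h
  rw [← h]
  congr 1
  · exact Nat.card_congr (Equiv.subtypeEquivRight fun v =>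
      ⟨fun ⟨n, hn⟩ => ⟨n, n.2, by rw [← hsm]; exact hn⟩,
        fun ⟨n, hn, e⟩ => ⟨⟨n, hn⟩, show (⟨n, hn⟩ : N) • t = v by rw [hsm]; exact e⟩⟩)
  · refine Nat.card_congr
      { toFun := fun n => ⟨(n.1 : G), n.1.2, mem_centralizer_singleton_iff.mpr
          (mul_inv_eq_iff_eq_mul.1 ((hsm n.1 t).symm.trans (MulAction.mem_stabilizer_iff.1 n.2)))⟩
        invFun := fun g => ⟨⟨g, g.2.1⟩, MulAction.mem_stabilizer_iff.2 (by
          rw [hsm]
          exact mul_inv_eq_iff_eq_mul.2 (mem_centralizer_singleton_iff.mp g.2.2))⟩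
        left_inv := fun _ => rfl
        right_inv := fun _ => rfl }

namespace Sixteen

variable (hL : Local G) (S : Sixteen G)

omit [Fintype G] in
theorem comm_P {p q : G} (hp : p ∈ S.P) (hq : q ∈ S.P) : Commute p q := by
  haveI : Fact (Nat.Prime 3) := ⟨by norm_num⟩
  haveI : IsMulCommutative S.P := IsPGroup.isMulCommutative_of_card_eq_prime_sq (p := 3) (by rw [S.card_P]; rfl)
  exact congrArg Subtype.val ((IsMulCommutative.is_comm (M := S.P)).comm ⟨p, hp⟩ ⟨q, hq⟩)

include hL in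
theorem comm_V {a b : G} (ha : a ∈ S.V) (hb : b ∈ S.V) : Commute a b :=
  commute_invol_cent_three hL S.order_y ((S.mem_V a).1 ha).1 ((S.mem_V a).1 ha).2 ((S.mem_V b).1 hb).1
    ((S.mem_V b).1 hb).2

include hL in
theorem comm_W {a b : G} (ha : a ∈ S.W) (hb : b ∈ S.W) : Commute a b :=
  commute_invol_cent_three hL S.order_x ((S.mem_W a).1 ha).1 ((S.mem_W a).1 ha).2 ((S.mem_W b).1 hb).1
    ((S.mem_W b).1 hb).2

omit [Fintype G] in
theorem V_le : S.V ≤ S.E := fun a ha => (S.mem_E a).2 ⟨a, ha, 1, one_mem _, mul_one a⟩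

omit [Fintype G] in
theorem W_le : S.W ≤ S.E := fun b hb => (S.mem_E b).2 ⟨1, one_mem _, b, hb, one_mul b⟩

omit [Fintype G] in
theorem conj_V {p a : G} (hp : p ∈ S.P) (ha : a ∈ S.V) : p * a * p⁻¹ ∈ S.V := by
  obtain ⟨h1, h2⟩ := (S.mem_V a).1 ha
  refine (S.mem_V _).2 ⟨?_, by rw [show p * a * p⁻¹ * (p * a * p⁻¹) = p * (a * a) * p⁻¹ by group, h2, mul_one,
    mul_inv_cancel]⟩
  have e : p * S.y * p⁻¹ = S.y := by rw [(S.comm_P hp S.mem_y).eq, mul_inv_cancel_right]
  exact e ▸ h1.map (MulAut.conj p)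

omit [Fintype G] in
theorem conj_W {p a : G} (hp : p ∈ S.P) (ha : a ∈ S.W) : p * a * p⁻¹ ∈ S.W := by
  obtain ⟨h1, h2⟩ := (S.mem_W a).1 ha
  refine (S.mem_W _).2 ⟨?_, by rw [show p * a * p⁻¹ * (p * a * p⁻¹) = p * (a * a) * p⁻¹ by group, h2, mul_one,
    mul_inv_cancel]⟩
  have e : p * S.x * p⁻¹ = S.x := by rw [(S.comm_P hp S.mem_x).eq, mul_inv_cancel_right]
  exact e ▸ h1.map (MulAut.conj p)

omit [Fintype G] in
theorem conj_E {p a : G} (hp : p ∈ S.P) (ha : a ∈ S.E) : p * a * p⁻¹ ∈ S.E := by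
  obtain ⟨v, hv, w, hw, rfl⟩ := (S.mem_E a).1 ha
  exact (S.mem_E _).2 ⟨_, S.conj_V hp hv, _, S.conj_W hp hw, by group⟩

omit [Fintype G] in
theorem P_le_normalizer : S.P ≤ normalizer (S.E : Set G) := fun p hp =>
  Subgroup.mem_normalizer_iff.2 fun v => ⟨S.conj_E hp, fun h => by
    have := S.conj_E (S.P.inv_mem hp) h
    rwa [show p⁻¹ * (p * v * p⁻¹) * p⁻¹⁻¹ = v by group] at this⟩

include hL in
theorem comm_E {a b : G} (ha : a ∈ S.E) (hb : b ∈ S.E) : Commute a b := by
  obtain ⟨v, hv, w, hw, rfl⟩ := (S.mem_E a).1 ha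
  obtain ⟨v', hv', w', hw', rfl⟩ := (S.mem_E b).1 hb
  exact ((S.comm_V hL hv hv').mul_right (S.commute_VW v hv w' hw')).mul_left
    ((S.commute_VW v' hv' w hw).symm.mul_right (S.comm_W hL hw hw'))

include hL in
theorem sq_E {a : G} (ha : a ∈ S.E) : a * a = 1 := by
  obtain ⟨v, hv, w, hw, rfl⟩ := (S.mem_E a).1 ha
  rw [(S.commute_VW v hv w hw).symm.mul_mul_mul_comm, ((S.mem_V v).1 hv).2, ((S.mem_W w).1 hw).2, mul_one]

/-- The two elements of order three exchanged. -/
def swap (hne : S.y ∉ zpowers S.x) : Sixteen G where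
  y := S.x
  x := S.y
  t := S.s
  s := S.t
  V := S.W
  W := S.V
  E := S.E
  P := S.P
  order_y := S.order_x
  order_x := S.order_y
  mem_y := S.mem_x
  mem_x := S.mem_y
  card_P := S.card_P
  notMem := hne
  mem_V := S.mem_W
  card_V := S.card_W
  mem_W := S.mem_V
  card_W := S.card_V
  t_mem := S.s_mem
  t_ne := S.s_ne
  s_mem := S.t_mem
  s_ne := S.t_ne
  mem_E := fun g => (S.mem_E g).trans
    ⟨fun ⟨a, ha, b, hb, e⟩ => ⟨b, hb, a, ha, by rw [← (S.commute_VW a ha b hb).eq, e]⟩,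
      fun ⟨b, hb, a, ha, e⟩ => ⟨a, ha, b, hb, by rw [(S.commute_VW a ha b hb).eq, e]⟩⟩
  card_E := S.card_E
  commute_VW := fun a ha b hb => (S.commute_VW b hb a ha).symm
  disj := fun g h h' => S.disj g h' h
  cent := S.cent

omit [Fintype G] in
theorem y_notMem : S.y ∉ zpowers S.x := fun h => S.notMem (by
  haveI : Finite (zpowers S.x) := Nat.finite_of_card_ne_zero (by rw [Nat.card_zpowers, S.order_x]; norm_num)
  have e : zpowers S.y = zpowers S.x := eq_of_le_of_card_ge (zpowers_le.mpr h)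
    (by rw [Nat.card_zpowers, Nat.card_zpowers, S.order_x, S.order_y])
  rw [e]; exact mem_zpowers _)

include hL in
/-- The subgroup of order nine is regular on the pairs of involutions of the two four-groups. -/
theorem exists_conj_pair {a b : G} (ha : a ∈ S.V) (ha1 : a ≠ 1) (hb : b ∈ S.W) (hb1 : b ≠ 1) :
    ∃ p ∈ S.P, p * S.t * p⁻¹ = a ∧ p * S.s * p⁻¹ = b := by
  let f : S.P → {v : S.V // v ≠ 1} × {w : S.W // w ≠ 1} := fun p =>
    (⟨⟨(p : G) * S.t * (p : G)⁻¹, S.conj_V p.2 S.t_mem⟩,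
        fun e => S.t_ne (conj_eq_one_iff.mp (congrArg Subtype.val e))⟩,
      ⟨⟨(p : G) * S.s * (p : G)⁻¹, S.conj_W p.2 S.s_mem⟩,
        fun e => S.s_ne (conj_eq_one_iff.mp (congrArg Subtype.val e))⟩)
  have hf : Function.Injective f := by
    intro p q h
    have h1 : (p : G) * S.t * (p : G)⁻¹ = (q : G) * S.t * (q : G)⁻¹ :=
      congrArg (fun u : {v : S.V // v ≠ 1} × {w : S.W // w ≠ 1} => (u.1.1 : G)) h
    have h2 : (p : G) * S.s * (p : G)⁻¹ = (q : G) * S.s * (q : G)⁻¹ :=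
      congrArg (fun u : {v : S.V // v ≠ 1} × {w : S.W // w ≠ 1} => (u.2.1 : G)) h
    have c1 : Commute ((q : G)⁻¹ * p) S.t := mul_inv_eq_iff_eq_mul.1 (by
      calc (q : G)⁻¹ * p * S.t * ((q : G)⁻¹ * p)⁻¹ = (q : G)⁻¹ * ((p : G) * S.t * (p : G)⁻¹) * q := by group
        _ = S.t := by rw [h1]; group)
    have c2 : Commute ((q : G)⁻¹ * p) S.s := mul_inv_eq_iff_eq_mul.1 (by
      calc (q : G)⁻¹ * p * S.s * ((q : G)⁻¹ * p)⁻¹ = (q : G)⁻¹ * ((p : G) * S.s * (p : G)⁻¹) * q := by group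
        _ = S.s := by rw [h2]; group)
    have hm := S.P.mul_mem (S.P.inv_mem q.2) p.2
    have z1 := mem_zpowers_of_fix hL S.order_y S.card_P S.mem_y hm ((S.mem_V _).1 S.t_mem).1
      ((S.mem_V _).1 S.t_mem).2 S.t_ne c1
    have z2 := mem_zpowers_of_fix hL S.order_x S.card_P S.mem_x hm ((S.mem_W _).1 S.s_mem).1
      ((S.mem_W _).1 S.s_mem).2 S.s_ne c2
    by_contra hne
    have hne1 : (q : G)⁻¹ * p ≠ 1 := fun e => hne (Subtype.ext (inv_mul_eq_one.1 e).symm)
    have full : ∀ z : G, orderOf z = 3 → (q : G)⁻¹ * p ∈ zpowers z → zpowers ((q : G)⁻¹ * p) = zpowers z := by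
      intro z hz hmz
      refine eq_of_le_of_card_ge (zpowers_le.mpr hmz) ?_
      rw [Nat.card_zpowers, Nat.card_zpowers, hz]
      have hd := Subgroup.orderOf_dvd_natCard _ hmz
      rw [Nat.card_zpowers, hz] at hd
      exact le_of_eq (((Nat.dvd_prime (by norm_num)).1 hd).resolve_left fun e => hne1 (orderOf_eq_one_iff.1 e)).symm
    exact S.notMem (((full _ S.order_y z1).symm.trans (full _ S.order_x z2)).ge (mem_zpowers _))
  have hbij : Function.Bijective f := (Nat.bijective_iff_injective_and_card f).2 ⟨hf, by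
    rw [Nat.card_prod, S.card_P, Nat.card_eq_fintype_card (α := {v : S.V // v ≠ 1}),
      Nat.card_eq_fintype_card (α := {w : S.W // w ≠ 1}), Fintype.card_subtype_compl, Fintype.card_subtype_eq,
      Fintype.card_subtype_compl, Fintype.card_subtype_eq, ← Nat.card_eq_fintype_card, ← Nat.card_eq_fintype_card,
      S.card_V, S.card_W]⟩
  obtain ⟨p, hp⟩ := hbij.2 (⟨⟨a, ha⟩, fun e => ha1 (congrArg Subtype.val e)⟩,
    ⟨⟨b, hb⟩, fun e => hb1 (congrArg Subtype.val e)⟩)
  exact ⟨p, p.2, congrArg (fun u : {v : S.V // v ≠ 1} × {w : S.W // w ≠ 1} => (u.1.1 : G)) hp,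
    congrArg (fun u : {v : S.V // v ≠ 1} × {w : S.W // w ≠ 1} => (u.2.1 : G)) hp⟩

include hL in
/-- The Fitting subgroup of the centraliser normalises the subgroup of order sixteen. -/
theorem exists_F : ∃ F : Subgroup G, F ≤ centralizer ({S.t} : Set G) ∧ Nat.card F = 64 ∧
    (∀ f ∈ F, S.y * f * S.y⁻¹ ∈ F) ∧ F ≤ normalizer (S.E : Set G) ∧ S.E ≤ F := by
  haveI : Fact (Nat.Prime 2) := ⟨Nat.prime_two⟩
  obtain ⟨F, hFC, hFc, hyF, hmax⟩ := exists_fitting hL S.order_y ((S.mem_V _).1 S.t_mem).1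
    ((S.mem_V _).1 S.t_mem).2 S.t_ne
  have hEF : S.E ≤ F := hmax S.E (fun e he => mem_centralizer_singleton_iff.mpr
    (S.comm_E hL he (S.V_le S.t_mem)).eq) (by rw [S.card_E]; norm_num) fun e he => S.conj_E S.mem_y he
  refine ⟨F, hFC, hFc, hyF, ?_, hEF⟩
  set N : Subgroup G := F ⊓ normalizer (S.E : Set G) with hN
  obtain ⟨g, hgF, hgE, hgN⟩ := exists_normalizing (p := 2) (k := 6) (by rw [hFc]; rfl) hEF
    (fun e => by have := S.card_E; rw [e, hFc] at this; norm_num at this)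
  have hEN : S.E ≤ N := le_inf hEF le_normalizer
  have hyn : S.y ∈ normalizer (S.E : Set G) := S.P_le_normalizer S.mem_y
  have hd : Nat.card N ∣ 64 := hFc ▸ card_dvd_of_le inf_le_left
  have hmod := card_mod_three hL S.order_y S.mem_V S.card_V (hd.trans (by norm_num))
    (fun n hn => ⟨hyF n hn.1, Subgroup.mul_mem _ (Subgroup.mul_mem _ hyn hn.2) (Subgroup.inv_mem _ hyn)⟩)
    (S.V_le.trans hEN)
  have h16 : 16 ∣ Nat.card N := S.card_E ▸ card_dvd_of_le hEN
  have key : ∀ k ∈ Nat.divisors 64, 16 ∣ k → k % 3 = 1 → k = 16 ∨ k = 64 := by decide +kernel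
  rcases key _ (Nat.mem_divisors.2 ⟨hd, by norm_num⟩) h16 hmod with h | h
  · exfalso
    refine hgE ?_
    rw [eq_of_le_of_card_ge hEN (by rw [h, S.card_E])]
    exact ⟨hgF, hgN⟩
  · exact le_of_eq_of_le (eq_of_le_of_card_ge inf_le_left (by rw [h, hFc])).symm inf_le_right

include hL in
/-- Either the normaliser is large or the union of the four-groups is not broken from `V`. -/
theorem orbit_cases : Nat.card (normalizer (S.E : Set G)) = 5760 ∨ Nat.card (normalizer (S.E : Set G)) = 2880 ∨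
    ∀ n ∈ normalizer (S.E : Set G), ∀ a ∈ S.V, n * a * n⁻¹ ∈ S.V ∨ n * a * n⁻¹ ∈ S.W := by
  classical
  set N := normalizer (S.E : Set G) with hNdef
  obtain ⟨F, hFC, hFc, hyF, hFN, hEF⟩ := S.exists_F hL
  have htt := ((S.mem_V _).1 S.t_mem).2
  set K := N ⊓ centralizer ({S.t} : Set G) with hK
  have hKc : Nat.card K = 192 ∨ Nat.card K = 384 := by
    have hd : Nat.card K ∣ 384 := card_cent_invol hL htt S.t_ne ▸ card_dvd_of_le inf_le_right
    have h64 : 64 ∣ Nat.card K := hFc ▸ card_dvd_of_le (le_inf hFN hFC)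
    have h3 : 3 ∣ Nat.card K := by
      rw [← S.order_y]
      exact Subgroup.orderOf_dvd_natCard K (show S.y ∈ K from ⟨S.P_le_normalizer S.mem_y,
        mem_centralizer_singleton_iff.mpr ((S.mem_V _).1 S.t_mem).1.eq⟩)
    have key : ∀ k ∈ Nat.divisors 384, 64 ∣ k → 3 ∣ k → k = 192 ∨ k = 384 := by decide +kernel
    exact key _ (Nat.mem_divisors.2 ⟨hd, by norm_num⟩) h64 h3
  by_cases hall : ∀ n ∈ N, ∀ a ∈ S.V, n * a * n⁻¹ ∈ S.V ∨ n * a * n⁻¹ ∈ S.W
  · exact Or.inr (Or.inr hall)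
  push Not at hall
  obtain ⟨n, hn, a, ha, hnV, hnW⟩ := hall
  have ha1 : a ≠ 1 := fun e => hnV (by rw [e, mul_one, mul_inv_cancel]; exact one_mem _)
  set Orb : G → Prop := fun v => ∃ m ∈ N, m * S.t * m⁻¹ = v with hOrb
  have hconj : ∀ v, Orb v → ∀ m ∈ N, Orb (m * v * m⁻¹) := by
    rintro v ⟨k, hk, rfl⟩ m hm
    exact ⟨m * k, N.mul_mem hm hk, by group⟩
  have hOV : ∀ v ∈ S.V, v ≠ 1 → Orb v := fun v hv hv1 => by
    obtain ⟨p, hp, h1, -⟩ := S.exists_conj_pair hL hv hv1 S.s_mem S.s_ne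
    exact ⟨p, S.P_le_normalizer hp, h1⟩
  obtain ⟨c, hc, d, hd, hcd⟩ := (S.mem_E _).1
    ((Subgroup.mem_normalizer_iff.1 hn a).1 (S.V_le ha))
  have hc1 : c ≠ 1 := fun e => hnW (by rw [← hcd, e, one_mul]; exact hd)
  have hd1 : d ≠ 1 := fun e => hnV (by rw [← hcd, e, mul_one]; exact hc)
  have hOD : ∀ v ∈ S.V, v ≠ 1 → ∀ w ∈ S.W, w ≠ 1 → Orb (v * w) := fun v hv hv1 w hw hw1 => by
    obtain ⟨p, hp, e1, e2⟩ := S.exists_conj_pair hL hc hc1 hd hd1
    obtain ⟨q, hq, f1, f2⟩ := S.exists_conj_pair hL hv hv1 hw hw1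
    have h := hconj _ (hconj _ (hOV a ha ha1) n hn) (q * p⁻¹)
      (N.mul_mem (S.P_le_normalizer hq) (N.inv_mem (S.P_le_normalizer hp)))
    rw [← hcd] at h
    have : q * p⁻¹ * (c * d) * (q * p⁻¹)⁻¹ = v * w := by rw [← e1, ← e2, ← f1, ← f2]; group
    rwa [this] at h
  have hOE : ∀ v, Orb v → v ∈ S.E ∧ v ≠ 1 := by
    rintro v ⟨m, hm, rfl⟩
    exact ⟨(Subgroup.mem_normalizer_iff.1 hm _).1 (S.V_le S.t_mem), fun e => S.t_ne (conj_eq_one_iff.mp e)⟩
  by_cases hOs : Orb S.s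
  · -- the orbit is everything
    have hOW : ∀ w ∈ S.W, w ≠ 1 → Orb w := fun w hw hw1 => by
      obtain ⟨p, hp, -, h2⟩ := S.exists_conj_pair hL S.t_mem S.t_ne hw hw1
      exact h2 ▸ hconj _ hOs p (S.P_le_normalizer hp)
    have hcard : Nat.card {v : G // ∃ m ∈ N, m * S.t * m⁻¹ = v} = 15 := by
      rw [Nat.card_congr (Equiv.subtypeEquivRight (q := fun v => v ∈ S.E ∧ v ≠ 1) fun v => ⟨hOE v, fun h => ?_⟩)]
      · have e : Nat.card {v : G // v ∈ S.E ∧ v ≠ 1} = Nat.card ((S.E : Set G) \ {1} : Set G) := rfl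
        rw [e, Nat.card_coe_set_eq, Set.ncard_diff_singleton_of_mem S.E.one_mem, ← Nat.card_coe_set_eq]
        show Nat.card S.E - 1 = 15
        rw [S.card_E]
      obtain ⟨v', hv', w', hw', rfl⟩ := (S.mem_E v).1 h.1
      rcases eq_or_ne v' 1 with rfl | h1
      · rw [one_mul] at h ⊢; exact hOW w' hw' h.2
      rcases eq_or_ne w' 1 with rfl | h2
      · rw [mul_one]; exact hOV v' hv' h1
      exact hOD v' hv' h1 w' hw' h2
    have h := card_eq_orbit_mul N S.t
    rw [hcard] at h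
    rcases hKc with e | e <;> rw [← hK, e] at h
    · exact Or.inr (Or.inl h)
    · exact Or.inl h
  · exfalso
    -- twelve conjugates
    have hcard : Nat.card {v : G // ∃ m ∈ N, m * S.t * m⁻¹ = v} = 12 := by
      rw [Nat.card_congr (Equiv.subtypeEquivRight (q := fun v => v ∈ S.E ∧ v ∉ S.W) fun v => ⟨fun h => ?_, fun h => ?_⟩)]
      · have e : Nat.card {v : G // v ∈ S.E ∧ v ∉ S.W} = Nat.card ((S.E : Set G) \ S.W : Set G) := rfl
        rw [e, Nat.card_coe_set_eq, Set.ncard_sdiff S.W_le, ← Nat.card_coe_set_eq, ← Nat.card_coe_set_eq]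
        show Nat.card S.E - Nat.card S.W = 12
        rw [S.card_E, S.card_W]
      · refine ⟨(hOE v h).1, fun hW => hOs ?_⟩
        obtain ⟨p, hp, -, h2⟩ := S.exists_conj_pair hL S.t_mem S.t_ne hW (hOE v h).2
        have := hconj _ h p⁻¹ (N.inv_mem (S.P_le_normalizer hp))
        rwa [← h2, show p⁻¹ * (p * S.s * p⁻¹) * p⁻¹⁻¹ = S.s by group] at this
      · obtain ⟨v', hv', w', hw', rfl⟩ := (S.mem_E v).1 h.1
        rcases eq_or_ne v' 1 with rfl | h1
        · rw [one_mul] at h; exact absurd hw' h.2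
        rcases eq_or_ne w' 1 with rfl | h2
        · rw [mul_one]; exact hOV v' hv' h1
        exact hOD v' hv' h1 w' hw' h2
    have h := card_eq_orbit_mul N S.t
    rw [hcard] at h
    have hdvd : Nat.card N ∣ 443520 := hL.card ▸ Subgroup.card_subgroup_dvd_card _
    rcases hKc with e | e <;> rw [← hK, e] at h <;> rw [h] at hdvd <;> norm_num at hdvd

include hL in
/-- The union of the four-groups is broken. -/
theorem not_stable (h1 : ∀ n ∈ normalizer (S.E : Set G), ∀ a ∈ S.V, n * a * n⁻¹ ∈ S.V ∨ n * a * n⁻¹ ∈ S.W)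
    (h2 : ∀ n ∈ normalizer (S.E : Set G), ∀ a ∈ S.W, n * a * n⁻¹ ∈ S.W ∨ n * a * n⁻¹ ∈ S.V) : False := by
  obtain ⟨F, hFC, hFc, hxF, hFN, hEF⟩ := (S.swap S.y_notMem).exists_F hL
  have hFs : ∀ n ∈ F, n * S.s * n⁻¹ = S.s := fun n hn => by
    rw [show n * S.s = S.s * n from mem_centralizer_singleton_iff.mp (hFC hn), mul_inv_cancel_right]
  have hV : ∀ n ∈ F, ∀ a ∈ S.V, n * a * n⁻¹ ∈ S.V := by
    intro n hn a ha
    rcases eq_or_ne a 1 with rfl | ha1
    · rw [mul_one, mul_inv_cancel]; exact one_mem _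
    refine (h1 n (hFN hn) a ha).resolve_right fun hW => ?_
    have hp : n * (a * S.s) * n⁻¹ ∈ S.W := by
      rw [show n * (a * S.s) * n⁻¹ = n * a * n⁻¹ * (n * S.s * n⁻¹) by group, hFs n hn]
      exact S.W.mul_mem hW S.s_mem
    have hback := h2 n⁻¹ (Subgroup.inv_mem _ (hFN hn)) _ hp
    rw [show n⁻¹ * (n * (a * S.s) * n⁻¹) * n⁻¹⁻¹ = a * S.s by group] at hback
    rcases hback with h | h
    · exact ha1 (S.disj a ha (by simpa [mul_assoc] using S.W.mul_mem h (S.W.inv_mem S.s_mem)))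
    · exact S.s_ne (S.disj S.s (by simpa [← mul_assoc] using S.V.mul_mem (S.V.inv_mem ha) h) S.s_mem)
  have hW : ∀ n ∈ F, ∀ a ∈ S.W, n * a * n⁻¹ ∈ S.W := by
    intro n hn a ha
    rcases eq_or_ne a 1 with rfl | ha1
    · rw [mul_one, mul_inv_cancel]; exact one_mem _
    refine (h2 n (hFN hn) a ha).resolve_right fun hh => ?_
    have := hV n⁻¹ (F.inv_mem hn) _ hh
    rw [show n⁻¹ * (n * a * n⁻¹) * n⁻¹⁻¹ = a by group] at this
    exact ha1 (S.disj a this ha)
  -- the Fitting subgroup centralises `W`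
  have hWsq : ∀ a ∈ S.W, a * a = 1 := fun a ha => ((S.mem_W a).1 ha).2
  have hle := card_le_two_mul S.card_W (fun a ha b hb => S.comm_W hL ha hb) hWsq S.s_mem S.s_ne (N := F) hW
    (fun n hn => mem_centralizer_singleton_iff.mp (hFC hn))
  set K : Subgroup G := F ⊓ centralizer (S.W : Set G) with hK
  have hKF : K = F := by
    have hd : Nat.card K ∣ 64 := hFc ▸ card_dvd_of_le inf_le_left
    have hWK : S.W ≤ K := le_inf (S.W_le.trans hEF) fun a ha => mem_centralizer_iff.2 fun b hb =>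
      (S.comm_W hL hb ha).eq
    have hxW : S.x ∈ centralizer (S.W : Set G) := mem_centralizer_iff.2 fun b hb => ((S.mem_W b).1 hb).1.eq.symm
    have hmod := card_mod_three hL S.order_x S.mem_W S.card_W (hd.trans (by norm_num))
      (fun k hk => ⟨hxF k hk.1, Subgroup.mul_mem _ (Subgroup.mul_mem _ hxW hk.2) (Subgroup.inv_mem _ hxW)⟩) hWK
    refine eq_of_le_of_card_ge inf_le_left ?_
    rw [hFc] at hle ⊢
    have key : ∀ k ∈ Nat.divisors 64, 32 ≤ k → k % 3 = 1 → k = 64 := by decide +kernel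
    rw [key _ (Nat.mem_divisors.2 ⟨hd, by norm_num⟩) (by omega) hmod]
  -- and acts on `V` through a group of order dividing six
  let X := {v : G // v ∈ S.V ∧ v ≠ 1}
  letI : MulAction F X :=
    { smul := fun n v => ⟨(n : G) * v.1 * (n : G)⁻¹, hV n n.2 v.1 v.2.1, fun e => v.2.2 (conj_eq_one_iff.mp e)⟩
      one_smul := fun v => Subtype.ext (by show ((1 : F) : G) * v.1 * ((1 : F) : G)⁻¹ = v.1; simp)
      mul_smul := fun n m v => Subtype.ext (by
        show ((n * m : F) : G) * v.1 * ((n * m : F) : G)⁻¹ = (n : G) * ((m : G) * v.1 * (m : G)⁻¹) * (n : G)⁻¹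
        rw [Subgroup.coe_mul]; group) }
  set ρ := MulAction.toPermHom F X with hρ
  have hker : Nat.card ρ.ker ≤ 16 := by
    rw [← S.card_E]
    refine Nat.card_le_card_of_injective (fun n => (⟨((n : F) : G), S.cent (mem_centralizer_iff.2 fun e he => ?_)⟩ : S.E))
      fun a b h => Subtype.ext (Subtype.ext (congrArg Subtype.val h :))
    obtain ⟨v, hv, w, hw, rfl⟩ := (S.mem_E e).1 he
    have hnw : Commute ((n : F) : G) w :=
      (mem_centralizer_iff.1 ((hKF.ge (n : F).2).2 : ((n : F) : G) ∈ centralizer (S.W : Set G)) w hw).symm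
    have hnv : Commute ((n : F) : G) v := by
      rcases eq_or_ne v 1 with rfl | hv1
      · exact Commute.one_right _
      · have h := congrArg Subtype.val (Equiv.Perm.ext_iff.1 (MonoidHom.mem_ker.1 n.2) (⟨v, hv, hv1⟩ : X))
        exact mul_inv_eq_iff_eq_mul.1 h
    exact (hnv.mul_right hnw).eq.symm
  have hX : Nat.card X = 3 := by
    have e : Nat.card X = Nat.card ((S.V : Set G) \ {1} : Set G) := rfl
    rw [e, Nat.card_coe_set_eq, Set.ncard_diff_singleton_of_mem S.V.one_mem, ← Nat.card_coe_set_eq]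
    show Nat.card S.V - 1 = 3
    rw [S.card_V]
  have hr6 : Nat.card ρ.range ∣ 6 := by
    have h := Subgroup.card_subgroup_dvd_card ρ.range
    rwa [Nat.card_perm, hX] at h
  have hmul := ρ.ker.card_mul_index
  rw [Subgroup.index_ker, hFc] at hmul
  have hr2 : Nat.card ρ.range ∣ 2 := by
    have h64 : Nat.card ρ.range ∣ 64 := Dvd.intro_left _ hmul
    exact (Nat.dvd_gcd hr6 h64)
  have := Nat.le_of_dvd (by norm_num) hr2
  nlinarith

end Sixteen

theorem exists_index_seventy_seven (hL : Local G) : ∃ E N : Subgroup G, Nat.card E = 16 ∧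
    (∀ e ∈ E, e * e = 1) ∧ E ≤ N ∧ Nat.card N = 5760 ∧ (∀ n ∈ N, ∀ e ∈ E, n * e * n⁻¹ ∈ E) := by
  haveI : Fact (Nat.Prime 5) := ⟨by norm_num⟩
  haveI : Fact (Nat.Prime 3) := ⟨by norm_num⟩
  obtain ⟨S⟩ := exists_sixteen hL
  set N := normalizer (S.E : Set G) with hN
  refine ⟨S.E, N, S.card_E, fun e he => S.sq_E hL he, le_normalizer, ?_,
    fun n hn e he => (Subgroup.mem_normalizer_iff.1 hn e).1 he⟩
  have h2880 : Nat.card N ≠ 2880 := fun hc => by
    have hP5 : ∀ Q : Sylow 5 N, Nat.card (Q : Subgroup N) = 5 := fun Q => by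
      simpa using CfsgLib.SmallGroups.card_sylow_eq (show Nat.card N = 5 ^ 1 * 576 by rw [hc]; norm_num) (by norm_num) Q
    obtain ⟨Q⟩ : Nonempty (Sylow 5 N) := inferInstance
    set M := normalizer ((Q : Subgroup N) : Set N) with hM
    set q : N := CfsgLib.Blocks.PrimeSylow.gen Q (hP5 Q) with hq
    have hqo : orderOf q = 5 := CfsgLib.Blocks.PrimeSylow.orderOf_gen Q (hP5 Q)
    have hqz := CfsgLib.Blocks.PrimeSylow.zpowers_gen Q (hP5 Q)
    have hmem : ∀ m ∈ M, (m : G) ∈ normalizer ((zpowers (q : G) : Subgroup G) : Set G) := by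
      intro m hm
      have e : zpowers (q : G) = (zpowers q).map N.subtype := (MonoidHom.map_zpowers N.subtype q).symm
      rw [e, hqz]
      exact le_normalizer_map N.subtype ⟨m, hm, rfl⟩
    have h20 : Nat.card M ∣ 20 := by
      rw [← hL.five (q : G) (by rw [Subgroup.orderOf_coe, hqo])]
      rw [← card_map_of_injective (K := M) N.subtype_injective]
      exact card_dvd_of_le fun g ⟨m, hm, e⟩ => e ▸ hmem m hm
    have hn := CfsgLib.SmallGroups.card_sylow_mul_card_normalizer Q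
    rw [hc] at hn
    have hmod := CfsgLib.SmallGroups.mod_eq_one_card_sylow (p := 5) (G := N)
    have h5 : 5 ∣ Nat.card M := hP5 Q ▸ card_dvd_of_le le_normalizer
    have key : ∀ k ∈ Nat.divisors 20, 5 ∣ k → (2880 / k) % 5 = 1 → k = 5 := by decide +kernel
    have hM5 : Nat.card M = 5 := key _ (Nat.mem_divisors.2 ⟨h20, by norm_num⟩) h5 (by
      rw [← hn, Nat.mul_div_cancel _ Nat.card_pos]; exact hmod)
    have hMQ : M ≤ centralizer ((Q : Subgroup N) : Set N) := by
      haveI : IsCyclic (Q : Subgroup N) := isCyclic_of_prime_card (hP5 Q)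
      haveI : IsMulCommutative (Q : Subgroup N) := IsCyclic.isMulCommutative
      rw [(eq_of_le_of_card_ge le_normalizer (by rw [hP5, hM5]) : (Q : Subgroup N) = M).symm]
      exact le_centralizer _
    have hcomp := MonoidHom.ker_transferSylow_isComplement' Q hMQ
    set K := (MonoidHom.transferSylow Q hMQ).ker with hK
    have hKc : Nat.card K = 576 := by
      have := hcomp.card_mul
      rw [hP5, hc] at this
      omega
    have hKi : ¬ 3 ∣ K.index := fun h => by
      have := K.card_mul_index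
      rw [hKc, hc] at this
      omega
    have hn3 : Nat.card (Sylow 3 N) ∣ 64 := by
      rw [← CfsgLib.SylowNumbers.card_sylow_of_normal hKi]
      exact CfsgLib.SmallGroups.card_sylow_dvd_of_card_eq (show Nat.card K = 3 ^ 2 * 64 by rw [hKc]; norm_num) (by norm_num)
    obtain ⟨R⟩ : Nonempty (Sylow 3 N) := inferInstance
    have hR : Nat.card (R : Subgroup N) = 9 :=
      CfsgLib.SmallGroups.card_sylow_eq (show Nat.card N = 3 ^ 2 * 320 by rw [hc]; norm_num) (by norm_num) R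
    have h5R : 5 ∣ Nat.card (normalizer ((R : Subgroup N) : Set N)) := by
      have h := CfsgLib.SmallGroups.card_sylow_mul_card_normalizer R
      rw [hc] at h
      have : 5 ∣ Nat.card (Sylow 3 N) * Nat.card (normalizer ((R : Subgroup N) : Set N)) := h ▸ by norm_num
      refine ((Nat.Prime.dvd_mul (by norm_num)).1 this).resolve_left fun h' => ?_
      exact absurd (h'.trans hn3) (by norm_num)
    obtain ⟨z, hz⟩ := exists_prime_orderOf_dvd_card' (G := normalizer ((R : Subgroup N) : Set N)) 5 h5R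
    have hzN : orderOf (z : N) = 5 := by rw [Subgroup.orderOf_coe, hz]
    obtain ⟨b, hbR, hb1, hzb⟩ := CfsgLib.KnownSimple.Order7920.exists_commute_of_normalizes (q := 5) (by norm_num)
      hzN (R : Subgroup N) (fun h hh => (Subgroup.mem_normalizer_iff.1 z.2 h).1 hh) (by rw [hR]; norm_num)
    have hzG : orderOf ((z : N) : G) = 5 := by rw [Subgroup.orderOf_coe, hzN]
    have hd : orderOf (b : G) ∣ 5 := five_centralizer hL hzG ▸ Subgroup.orderOf_dvd_natCard _
      (mem_centralizer_singleton_iff.2 (congrArg Subtype.val hzb.eq.symm))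
    rw [Subgroup.orderOf_coe] at hd
    have hd9 : orderOf b ∣ 9 := hR ▸ Subgroup.orderOf_dvd_natCard _ hbR
    exact hb1 (orderOf_eq_one_iff.1 (Nat.eq_one_of_dvd_coprimes (by norm_num) hd hd9))
  rcases S.orbit_cases hL with h | h | h1
  · exact h
  · exact absurd h h2880
  rcases (S.swap S.y_notMem).orbit_cases hL with h | h | h2
  · exact h
  · exact absurd h h2880
  exact (S.not_stable hL h1 h2).elim

end CfsgLib.MTwentyTwoUnique
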