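import Cfsg.Agent.Lib.MTwentyTwoUnique.Table
import Mathlib

/-!
One class of involutions, with centraliser of order 384; all non-exceptional characters are real.
-/

set_option autoImplicit false

noncomputable section

namespace CfsgLib.MTwentyTwoUnique

open Subgroup CfsgLib.InvolChar CfsgLib.Blocks CfsgLib.Blocks.PrimeSylow Cfsg
open CfsgLib.MTwelveUnique (nu nu_eq_zero nu_cases card_sq_roots)
open scoped ComplexConjugate
attribute [local instance] Classical.propDecidable

variable {G : Type*} [Group G] [Fintype G]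

/-- The values of the twelve characters at an involution. -/
structure InvVals (T : Table G) (z : G) : Prop where
  cent : Nat.card (centralizer ({z} : Set G)) = 384
  va : (T.a : G → ℂ) z = 7
  vb : (T.b : G → ℂ) z = 3
  vθ : (T.θ : G → ℂ) z = -3
  vθ' : (T.θ' : G → ℂ) z = -3
  vc : (T.c : G → ℂ) z = 5
  vd : (T.d : G → ℂ) z = 2
  vu : (T.u : G → ℂ) z = -8
  vu' : (T.u' : G → ℂ) z = -8
  vg : (T.g : G → ℂ) z = 10
  vh : (T.h : G → ℂ) z = 7
  vk : (T.k : G → ℂ) z = 1

/-- The values of a class function transported along conjugacy. -/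
theorem InvVals.of_isConj {T : Table G} {z t : G} (V : InvVals T z) (h : IsConj z t) : InvVals T t := by
  have e : ∀ χ : IrrCharacter G, (χ : G → ℂ) t = (χ : G → ℂ) z := fun χ =>
    (CfsgLib.MTwelveUnique.eq_of_isConj χ h).symm
  refine ⟨?_, by rw [e, V.va], by rw [e, V.vb], by rw [e, V.vθ], by rw [e, V.vθ'], by rw [e, V.vc],
    by rw [e, V.vd], by rw [e, V.vu], by rw [e, V.vu'], by rw [e, V.vg], by rw [e, V.vh], by rw [e, V.vk]⟩
  have h1 := CfsgLib.Invol.card_conjugates_mul t
  have h2 := CfsgLib.Invol.card_conjugates_mul z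
  rw [← h2, Nat.card_congr (Equiv.subtypeEquivRight fun x => ⟨h.trans, h.symm.trans⟩ :
      {x : G // IsConj t x} ≃ {x : G // IsConj z x})] at h1
  haveI : Nonempty {x : G // IsConj z x} := ⟨⟨z, IsConj.refl z⟩⟩
  rw [Nat.eq_of_mul_eq_mul_left Nat.card_pos h1, V.cent]

variable (hL : Local G) (T : Table G)
include hL

theorem central_vals {z : G} (hzz : z * z = 1) (hz1 : z ≠ 1)
    (hC : Nat.card (centralizer ({z} : Set G)) ∈ cents) : InvVals T z := by
  classical
  obtain ⟨da, db, dθ, dθ', dc, dd, du, du', dg, dh, dk⟩ := T.deg_all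
  set C := Nat.card (centralizer ({z} : Set G)) with hCdef
  have hC' : C ≤ 5760 := by
    have : ∀ c ∈ cents, c ≤ 5760 := by decide
    exact this _ hC
  set v : IrrCharacter G → ℤ := fun χ => intVal χ hzz with hv
  have hvs : ∀ χ : IrrCharacter G, (χ : G → ℂ) z = (v χ : ℂ) := fun χ => intVal_spec χ hzz
  have hv1 : v CfsgLib.Char.irrOne = 1 := intVal_irrOne hzz
  have hne : ∀ χ : IrrCharacter G, deg χ ≠ 1 → χ ≠ CfsgLib.Char.irrOne := fun χ h e => h (by rw [e, deg_irrOne])
  have hok : ∀ χ : IrrCharacter G, ∀ d, deg χ = d → d ≠ 1 → validVal C d (v χ) = true := fun χ d h hd =>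
    h ▸ val_ok hL hzz hz1 (hne χ (h ▸ hd))
  have hmem := fun (χ : IrrCharacter G) d (h : deg χ = d) (hd : d ≠ 1) => mem_valList (hok χ d h hd) hC'
  have hz2 : orderOf z ∣ 2 := orderOf_dvd_of_pow_eq_one (by rw [sq]; exact hzz)
  obtain ⟨r1, r2⟩ := T.rel_seven z fun h => absurd (h.trans hz2) (by norm_num)
  obtain ⟨s1, s2⟩ := T.rel_eleven z fun h => absurd (h.trans hz2) (by norm_num)
  have s5 := T.rel_five z fun h => absurd (h.trans hz2) (by norm_num)
  simp only [hvs] at r1 r2 s1 s2 s5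
  have eθ : v T.θ = 1 - v T.a + v T.b := by exact_mod_cast r1
  have eθ' : v T.θ' = v T.θ := by exact_mod_cast r2.trans r1.symm
  have eu : v T.u = 1 + 2 * v T.θ - v T.c + v T.d := by
    have : ((v T.u : ℤ) : ℂ) = ((1 + 2 * v T.θ - v T.c + v T.d : ℤ) : ℂ) := by
      rw [eθ'] at s1; push_cast; linear_combination s1
    exact_mod_cast this
  have eu' : v T.u' = v T.u := by exact_mod_cast s2.trans s1.symm
  have eg : v T.g = 1 - v T.b + v T.c + v T.h := by
    have : ((v T.g : ℤ) : ℂ) = ((1 - v T.b + v T.c + v T.h : ℤ) : ℂ) := by push_cast; linear_combination -s5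
    exact_mod_cast this
  have hS := CfsgLib.MTwelveUnique.sum_deg_val hz1 v hvs
  rw [T.sum_all] at hS
  simp only [deg_irrOne, da, db, dθ, dθ', dc, dd, du, du', dg, dh, dk, hv1, eθ', eu'] at hS
  push_cast at hS
  have hQ := CfsgLib.MTwelveUnique.sum_sq_val v hvs
  rw [T.sum_all, ← hCdef] at hQ
  simp only [hv1, eθ', eu'] at hQ
  have q7 := T.sq_seven z hzz v hvs
  have q11 := T.sq_eleven z hzz v hvs
  set S := 1 + 55 * v T.a + 99 * v T.b + 90 * v T.θ + 21 * v T.c + 210 * v T.d + 560 * v T.u + 154 * v T.g +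
    231 * v T.h with hSdef
  have hk : S = -385 * v T.k := by rw [hSdef]; linarith
  have hkd : -S / 385 = v T.k := by omega
  have hyes : validOne C (v T.a) (v T.b) (v T.c) (v T.d) (v T.h) = true := by
    simp only [validOne, ← eθ, ← eu, ← eg, ← hSdef, hkd, Bool.and_eq_true, decide_eq_true_eq]
    exact ⟨⟨⟨⟨hok _ _ dθ (by norm_num), hok _ _ du (by norm_num)⟩, hok _ _ dg (by norm_num)⟩,
      hok _ _ dk (by norm_num)⟩, by omega, q7, q11, by linarith⟩
  obtain ⟨hC384, p7, q3, a5, b2, h7⟩ := search_one C hC _ (hmem _ _ da (by norm_num)) _ (hmem _ _ db (by norm_num))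
    (by rw [← eθ]; exact q7) _ (hmem _ _ dc (by norm_num)) _ (hmem _ _ dd (by norm_num))
    (by rw [← eθ, ← eu]; exact q11) _ (hmem _ _ dh (by norm_num)) hyes
  have t3 : v T.θ = -3 := by omega
  have u8 : v T.u = -8 := by omega
  have g10 : v T.g = 10 := by omega
  have k1 : v T.k = 1 := by omega
  refine ⟨hC384, ?_, ?_, ?_, ?_, ?_, ?_, ?_, ?_, ?_, ?_, ?_⟩ <;>
    simp [hvs, p7, q3, a5, b2, h7, eθ', eu', t3, u8, g10, k1]

/-- All involutions are conjugate and all non-exceptional characters have indicator one. -/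
theorem invol_facts : ∃ z : G, orderOf z = 2 ∧ InvVals T z ∧ (∀ t : G, t * t = 1 → t ≠ 1 → IsConj z t) ∧
    nu T.a = 1 ∧ nu T.b = 1 ∧ nu T.c = 1 ∧ nu T.d = 1 ∧ nu T.g = 1 ∧ nu T.h = 1 ∧ nu T.k = 1 := by
  classical
  obtain ⟨z, hz, hzz, hCz⟩ := exists_central_three hL
  have hz1 : z ≠ 1 := fun e => by rw [e, orderOf_one] at hz; norm_num at hz
  have V := central_vals hL T hzz hz1 hCz
  have hclass : Nat.card {x : G // IsConj z x} = 1155 := by
    have h := CfsgLib.Invol.card_conjugates_mul z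
    rw [V.cent, hL.card] at h
    omega
  set f : Option {x : G // IsConj z x} → {s : G // s * s = 1} := fun o => o.elim ⟨1, mul_one 1⟩
    fun x => ⟨x.1, by obtain ⟨k, hk⟩ := isConj_iff.mp x.2; rw [← hk, conj_mul, hzz, mul_one, mul_inv_cancel]⟩
    with hf
  have hx1 : ∀ x : {x : G // IsConj z x}, x.1 ≠ 1 := fun x h => hz1 (isConj_one_left.mp (h ▸ x.2))
  have hfinj : Function.Injective f := by
    intro o o' h
    cases o <;> cases o' <;> simp [hf, Subtype.ext_iff] at h ⊢
    · exact absurd h.symm (hx1 _)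
    · exact absurd h (hx1 _)
    · exact h
  have hnu : ∀ χ : IrrCharacter G, ∃ n : ℤ, nu χ = (n : ℂ) ∧ n ≤ 1 := fun χ => by
    rcases nu_cases χ with (h | h) | ⟨h, -⟩
    · exact ⟨1, by rw [h]; norm_num, le_rfl⟩
    · exact ⟨-1, by rw [h]; norm_num, by norm_num⟩
    · exact ⟨0, by rw [h]; norm_num, by norm_num⟩
  choose n hn hn1 using hnu
  obtain ⟨da, db, dθ, dθ', dc, dd, du, du', dg, dh, dk⟩ := T.deg_all
  obtain ⟨n0, n0', nu0, nu0'⟩ := T.nu_zero
  simp only [hn, Int.cast_eq_zero] at n0 n0' nu0 nu0'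
  have hroots : (Nat.card {s : G // s * s = 1} : ℤ) = ∑ χ, n χ * (deg χ : ℤ) := by
    have h := card_sq_roots (1 : G)
    simp only [hn, deg_spec, map_natCast] at h
    exact_mod_cast h
  rw [T.sum_all] at hroots
  simp only [n0, n0', nu0, nu0', deg_irrOne, da, db, dθ, dθ', dc, dd, du, du', dg, dh, dk] at hroots
  have hle := Nat.card_le_card_of_injective f hfinj
  rw [Finite.card_option, hclass] at hle
  have := hn1 CfsgLib.Char.irrOne
  have := hn1 T.a
  have := hn1 T.b
  have := hn1 T.c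
  have := hn1 T.d
  have := hn1 T.g
  have := hn1 T.h
  have := hn1 T.k
  push_cast at hroots
  refine ⟨z, hz, V, fun t htt ht1 => ?_, ?_⟩
  · have hbij : Function.Bijective f := (Nat.bijective_iff_injective_and_card f).mpr ⟨hfinj, by
      rw [Finite.card_option, hclass]; omega⟩
    obtain ⟨o, ho⟩ := hbij.2 ⟨t, htt⟩
    cases o with
    | none => exact absurd (congrArg Subtype.val ho).symm ht1
    | some x => exact (show x.1 = t from congrArg Subtype.val ho) ▸ x.2
  · simp only [hn]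
    norm_cast
    omega

/-- Every involution has centraliser of order 384 and the same values. -/
theorem invol_vals {t : G} (htt : t * t = 1) (ht1 : t ≠ 1) : InvVals T t := by
  obtain ⟨z, -, V, h, -⟩ := invol_facts hL T
  exact V.of_isConj (h t htt ht1)

theorem invol_conj {s t : G} (hs : s * s = 1) (hs1 : s ≠ 1) (ht : t * t = 1) (ht1 : t ≠ 1) : IsConj s t := by
  obtain ⟨T⟩ := exists_table hL
  obtain ⟨z, -, -, h, -⟩ := invol_facts hL T
  exact (h s hs hs1).symm.trans (h t ht ht1)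

/-- The non-exceptional characters are real. -/
theorem real_of {χ : IrrCharacter G} (h : χ = T.a ∨ χ = T.b ∨ χ = T.c ∨ χ = T.d ∨ χ = T.g ∨ χ = T.h ∨ χ = T.k)
    (x : G) : conj ((χ : G → ℂ) x) = (χ : G → ℂ) x := by
  obtain ⟨z, -, -, -, ha, hb, hc, hd, hg, hh, hk⟩ := invol_facts hL T
  by_contra hne
  have h0 := nu_eq_zero hne
  rcases h with rfl | rfl | rfl | rfl | rfl | rfl | rfl <;>
    simp_all

end CfsgLib.MTwentyTwoUnique
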