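import Cfsg.Agent.Lib.MTwentyTwoUnique.Graph
import Cfsg.Agent.Lib.Golay.Srg77Design
import Cfsg.Agent.Lib.Golay.Sys22
import Cfsg.Agent.Lib.Golay.Spor
import Mathlib

/-!
A group with the local data is the Mathieu group of degree 22.
-/

set_option autoImplicit false
set_option linter.style.haveILetI false

noncomputable section

namespace CfsgLib.MTwentyTwoUnique

open Subgroup Cfsg CfsgLib.Golay
attribute [local instance] Classical.propDecidable

/-- The blocks of the design on the roots of a (77, 16, 0, 4) graph. -/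
theorem design_of_srg {V : Type*} [Fintype V] [DecidableEq V] (Γ : SimpleGraph V) [DecidableRel Γ.Adj]
    (hΓ : Γ.IsSRGWith 77 16 0 4) :
    ∃ b : V → Finset {r // r ∈ Srg77.pts Γ}, (∀ x r, r ∈ b x ↔ r.1 x = 1) ∧ Function.Injective b ∧
      Fintype.card {r // r ∈ Srg77.pts Γ} = 22 ∧ Cfsg.IsSteinerSystem 3 6 (Set.range b) := by
  classical
  let P := {r // r ∈ Srg77.pts Γ}
  let b : V → Finset P := fun x => Finset.univ.filter fun r => r.1 x = 1
  have hb : ∀ x y, ((b x ∩ b y).card : ℚ) = Srg77.row Γ x y := by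
    intro x y
    rw [← Srg77.inter_card hΓ x y]
    congr 1
    refine Finset.card_bij (fun r _ => r.1) (fun r hr => ?_) (fun r _ s _ h => Subtype.ext h) fun r hr => ?_
    · simp only [b, Finset.mem_inter, Finset.mem_filter, Finset.mem_univ, true_and] at hr
      exact Finset.mem_filter.2 ⟨r.2, hr⟩
    · obtain ⟨hr, h⟩ := Finset.mem_filter.1 hr
      exact ⟨⟨r, hr⟩, by simp [b, h], rfl⟩
  have hcard : ∀ x, (b x).card = 6 := fun x => by
    have := hb x x
    rw [Finset.inter_self, Srg77.row_self] at this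
    exact_mod_cast this
  have hle : ∀ x y, x ≠ y → (b x ∩ b y).card ≤ 2 := by
    intro x y hne
    have := hb x y
    rcases Srg77.cases_pair (G := Γ) x y with h | h | h
    · exact absurd h hne
    · rw [Srg77.row_adj h] at this; norm_num at this; simp [this]
    · rw [Srg77.row_na h] at this
      exact le_of_eq (by exact_mod_cast this)
  have hinj : Function.Injective b := by
    intro x y h
    by_contra hne
    have := hle x y hne
    rw [h, Finset.inter_self, hcard] at this
    omega
  set T := (Finset.univ : Finset V).biUnion fun x => (b x).powersetCard 3 with hT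
  have hTcard : T.card = 1540 := by
    rw [hT, Finset.card_biUnion ?_,
      Finset.sum_congr rfl fun x _ => (Finset.card_powersetCard 3 (b x)).trans (by rw [hcard]),
      Finset.sum_const, Finset.card_univ, hΓ.card]
    · decide
    · intro x _ y _ hne
      refine Finset.disjoint_left.2 fun s hs hs' => ?_
      rw [Finset.mem_powersetCard] at hs hs'
      have := Finset.card_le_card (Finset.subset_inter hs.1 hs'.1)
      have := hle x y hne
      omega
  have hsub : T ⊆ (Finset.univ : Finset P).powersetCard 3 := fun s hs => by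
    obtain ⟨x, -, hx⟩ := Finset.mem_biUnion.1 hs
    exact Finset.mem_powersetCard.2 ⟨Finset.subset_univ _, (Finset.mem_powersetCard.1 hx).2⟩
  have hP : Fintype.card P = (Srg77.pts Γ).card := Fintype.card_coe _
  have hn : Fintype.card P = 22 := by
    refine le_antisymm (hP ▸ Srg77.card_pts_le hΓ) ?_
    by_contra hlt
    have h := Finset.card_le_card hsub
    rw [hTcard, Finset.card_powersetCard, Finset.card_univ] at h
    have h2 : Nat.choose (Fintype.card P) 3 ≤ Nat.choose 21 3 := Nat.choose_le_choose 3 (by omega)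
    have h3 : Nat.choose 21 3 = 1330 := by decide
    omega
  have hTall : T = (Finset.univ : Finset P).powersetCard 3 :=
    Finset.eq_of_subset_of_card_le hsub (by
      rw [hTcard, Finset.card_powersetCard, Finset.card_univ, hn]; decide)
  refine ⟨b, fun x r => by simp [b], hinj, hn, ⟨?_, fun s hs => ?_⟩⟩
  · rintro _ ⟨x, rfl⟩
    exact hcard x
  · obtain ⟨x, -, hx⟩ := Finset.mem_biUnion.1 (hTall.ge (Finset.mem_powersetCard.2 ⟨Finset.subset_univ s, hs⟩))
    refine ⟨b x, ⟨⟨x, rfl⟩, (Finset.mem_powersetCard.1 hx).1⟩, ?_⟩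
    rintro _ ⟨⟨y, rfl⟩, hy⟩
    by_contra hne
    have := Finset.card_le_card (Finset.subset_inter (Finset.mem_powersetCard.1 hx).1 hy)
    have := hle x y fun h => hne (h ▸ rfl)
    omega

/-- A root of an invariant graph moves to a root. -/
theorem isRoot_comp {V : Type*} [Fintype V] [DecidableEq V] (Γ : SimpleGraph V) [DecidableRel Γ.Adj]
    (e : V ≃ V) (he : ∀ x y, Γ.Adj (e x) (e y) ↔ Γ.Adj x y) {f : V → ℚ} (hf : Srg77.IsRoot Γ f) :
    Srg77.IsRoot Γ (f ∘ e) := by
  have htot : ∀ f : V → ℚ, Srg77.tot (f ∘ e) = Srg77.tot f := fun f => by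
    simp only [Srg77.tot, Function.comp, Equiv.sum_comp e f]
  have hip : ∀ f g : V → ℚ, Srg77.ip (f ∘ e) (g ∘ e) = Srg77.ip f g := fun f g => by
    simp only [Srg77.ip, htot, Function.comp, Equiv.sum_comp e fun v => f v * g v]
  have hrow : ∀ v, Srg77.row Γ v = Srg77.row Γ (e v) ∘ e := fun v => funext fun w => by
    simp only [Srg77.row, Srg77.adjQ, Function.comp, he, e.injective.eq_iff]
  obtain ⟨h1, h2, h3, h4⟩ := hf
  refine ⟨fun v => ?_, by rw [hip, h2], by rw [htot, h3], fun v => h4 _⟩
  rw [hrow v, hip, h1]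
  rfl

/-- A group with the local data is the Mathieu group of degree 22. -/
theorem equiv_M22 {G : Type*} [Group G] [Finite G] (hL : Local G) : Nonempty (G ≃* ↥Cfsg.Spor.M22) := by
  classical
  haveI : Fintype G := Fintype.ofFinite G
  haveI := hL.simple
  obtain ⟨R⟩ := exists_rankData hL
  haveI : Fintype (G ⧸ R.N) := Fintype.ofFinite _
  obtain ⟨Γ, hΓ, hinv⟩ := R.exists_graph hL
  obtain ⟨b, hb, hbinj, h22, hst⟩ := design_of_srg Γ hΓ
  let P := {r // r ∈ Srg77.pts Γ}
  let act : G → P → P := fun g r => ⟨r.1 ∘ MulAction.toPerm g⁻¹, (Srg77.mem_pts_iff hΓ).2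
    (isRoot_comp Γ (MulAction.toPerm g⁻¹) (fun x y => hinv g⁻¹ x y) ((Srg77.mem_pts_iff hΓ).1 r.2))⟩
  letI : MulAction G P :=
    { smul := act
      one_smul := fun r => Subtype.ext (funext fun v => by
        show r.1 ((1 : G)⁻¹ • v) = r.1 v
        rw [inv_one, one_smul])
      mul_smul := fun g h r => Subtype.ext (funext fun v => by
        show r.1 ((g * h)⁻¹ • v) = r.1 (h⁻¹ • g⁻¹ • v)
        rw [mul_inv_rev, mul_smul]) }
  have himg : ∀ (g : G) x, (b x).image (fun r : P => g • r) = b (g • x) := by
    intro g x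
    ext r
    rw [Finset.mem_image, hb]
    constructor
    · rintro ⟨s, hs, rfl⟩
      show s.1 (g⁻¹ • g • x) = 1
      rw [inv_smul_smul]
      exact (hb x s).1 hs
    · intro h
      refine ⟨g⁻¹ • r, (hb x _).2 ?_, smul_inv_smul g r⟩
      show r.1 (g⁻¹⁻¹ • x) = 1
      rw [inv_inv, h]
  set ρ : G →* Equiv.Perm P := MulAction.toPermHom G P with hρ
  have hρmem : ∀ g, ρ g ∈ setSystemAut (Set.range b) := fun g => by
    rw [mem_setSystemAut_iff]
    rintro _ ⟨x, rfl⟩
    exact ⟨g • x, (himg g x).symm⟩
  have hρinj : Function.Injective ρ := by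
    rw [← MonoidHom.ker_eq_bot_iff]
    refine (Subgroup.Normal.eq_bot_or_eq_top (H := ρ.ker) inferInstance).resolve_right fun htop => ?_
    have hfix : ∀ g : G, ∀ x : G ⧸ R.N, g • x = x := fun g x => hbinj (by
      rw [← himg g x]
      have hg : ∀ r : P, g • r = r := fun r =>
        Equiv.Perm.ext_iff.1 (MonoidHom.mem_ker.1 (show g ∈ ρ.ker from htop ▸ mem_top g)) r
      simp [hg])
    have hN : R.N = ⊤ := eq_top_iff.2 fun g _ => R.smul_base.1 (hfix g R.base)
    have := R.card_N
    rw [hN, card_top, hL.card] at this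
    norm_num at this
  obtain ⟨e, he⟩ := iso_model22 h22 hst
  let f : G →* pairGroup :=
    (aut22Equiv.symm.toMonoidHom.comp (autEquiv e he).toMonoidHom).comp (ρ.codRestrict _ hρmem)
  have hfinj : Function.Injective f :=
    (aut22Equiv.symm.injective.comp (autEquiv e he).injective).comp fun a c h =>
      hρinj (congrArg Subtype.val h)
  set S : Subgroup pairGroup := stabTwo.subgroupOf pairGroup with hS
  have hSc : Nat.card S = 443520 := by
    rw [Nat.card_congr (subgroupOfEquivOfLe stabTwo_le_pairGroup).toEquiv, card_stabTwo]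
  have hSi : S.index = 2 := by
    have := S.card_mul_index
    rw [hSc, card_pairGroup] at this
    omega
  haveI : S.Normal := Subgroup.normal_of_index_eq_two hSi
  have hle : S.comap f = ⊤ := by
    refine (Subgroup.Normal.eq_bot_or_eq_top (H := S.comap f) inferInstance).resolve_left fun hbot => ?_
    have h := Subgroup.index_comap S f
    rw [hbot, index_bot, hL.card] at h
    have hd : S.relIndex f.range ∣ 2 := hSi ▸ S.relIndex_dvd_index_of_normal f.range
    rw [← h] at hd
    norm_num at hd
  have hmem : ∀ g, f g ∈ S := fun g => show g ∈ S.comap f from hle ▸ mem_top g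
  have hbij : Function.Bijective (f.codRestrict S hmem) :=
    (Nat.bijective_iff_injective_and_card _).2 ⟨fun a c h => hfinj (congrArg Subtype.val h), by rw [hL.card, hSc]⟩
  obtain ⟨e₁⟩ := sporM22_equiv
  exact ⟨((MulEquiv.ofBijective _ hbij).trans (subgroupOfEquivOfLe stabTwo_le_pairGroup)).trans e₁.symm⟩

end CfsgLib.MTwentyTwoUnique
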