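import Cfsg.Agent.Lib.MTwentyTwoUnique.Concrete
import Cfsg.Agent.Lib.MTwentyTwoUnique.Hyp
import Cfsg.Agent.Lib.MathieuNSE.TwentyTwo
import Cfsg.Agent.Lib.Classical.Dickson.SmallIdent
import Mathlib

/-!
A group with the order and the numbers of elements of equal order of M22 has the local facts at 5, 7, 11.
-/

set_option autoImplicit false
set_option linter.style.haveILetI false

noncomputable section

namespace CfsgLib.MTwentyTwoUnique

open Subgroup Cfsg

variable {G : Type*} [Group G] [Finite G]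

/-- Away from `1` and `p`, a self-centralising element of order `p` permutes the elements of given order freely. -/
theorem count_dvd {p k : ℕ} [Fact p.Prime] {x : G} (hx : orderOf x = p)
    (hC : Nat.card (centralizer ({x} : Set G)) = p) (hk1 : k ≠ 1) (hk : k ≠ p) :
    p ∣ Nat.card {g : G // orderOf g = k} := by
  classical
  let e : Equiv.Perm {g : G // orderOf g = k} :=
    (MulAut.conj x).toEquiv.subtypeEquiv fun g => by
      show orderOf g = k ↔ orderOf (MulAut.conj x g) = k
      rw [MulEquiv.orderOf_eq]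
  have he : e ^ p = 1 := by
    apply Equiv.ext
    intro g
    have key : ∀ j : ℕ, ((e ^ j) g : G) = x ^ j * g * (x ^ j)⁻¹ := by
      intro j
      induction j with
      | zero => simp
      | succ j ih =>
        rw [pow_succ' e j, Equiv.Perm.mul_apply]
        show x * ((e ^ j) g : G) * x⁻¹ = _
        rw [ih, pow_succ' x j]; group
    refine Subtype.ext ?_
    rw [key, ← hx, pow_orderOf_eq_one]
    simp
  have hfix : Nat.card {g : {g : G // orderOf g = k} // e g = g} = 0 := by
    rw [Nat.card_eq_zero]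
    left
    refine ⟨fun ⟨g, hg⟩ => ?_⟩
    have hcomm : Commute x (g : G) := mul_inv_eq_iff_eq_mul.1 (congrArg Subtype.val hg)
    have hd : orderOf (g : G) ∣ p := hC ▸ orderOf_dvd_natCard _ (mem_centralizer_singleton_iff.2 hcomm.eq.symm)
    rw [g.2] at hd
    rcases (Nat.dvd_prime Fact.out).1 hd with h | h
    · exact hk1 h
    · exact hk h
  have hmod := CfsgLib.KnownSimple.Order7920.perm_fixed_modEq e he
  rw [hfix] at hmod
  exact Nat.modEq_zero_iff_dvd.1 hmod

theorem sylow_card_of_one {p m : ℕ} [Fact p.Prime] (hG : Nat.card G = p ^ 1 * m) (hm : ¬ p ∣ m) (P : Sylow p G) :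
    Nat.card (P : Subgroup G) = p := by
  simpa using CfsgLib.SmallGroups.card_sylow_eq hG hm P

/-- A count of elements of prime order from the Sylow normaliser. -/
theorem count_prime {p N : ℕ} [Fact p.Prime] (hP : ∀ P : Sylow p G, Nat.card (P : Subgroup G) = p)
    (h : ∀ x : G, orderOf x = p → Nat.card (normalizer ((zpowers x : Subgroup G) : Set G)) = N) :
    Nat.card {g : G // orderOf g = p} * N = Nat.card G * (p - 1) := by
  obtain ⟨P⟩ : Nonempty (Sylow p G) := inferInstance
  have hn := CfsgLib.SmallGroups.card_sylow_mul_card_normalizer P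
  rw [← CfsgLib.Blocks.PrimeSylow.zpowers_gen P (hP P), h _ (CfsgLib.Blocks.PrimeSylow.orderOf_gen P (hP P))] at hn
  rw [CfsgLib.Classical.Dickson.card_orderOf_eq hP, ← hn]
  ring

/-- The normaliser from a count of elements of prime order. -/
theorem normalizer_of_count {p c N : ℕ} [Fact p.Prime] (hP : ∀ P : Sylow p G, Nat.card (P : Subgroup G) = p)
    (hc : Nat.card {g : G // orderOf g = p} = c) (hc0 : 0 < c) (hN : c * N = Nat.card G * (p - 1))
    {x : G} (hx : orderOf x = p) : Nat.card (normalizer ((zpowers x : Subgroup G) : Set G)) = N := by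
  obtain ⟨P, hPx⟩ := (IsPGroup.of_card (p := p) (n := 1) (by rw [Nat.card_zpowers, hx, pow_one]) :
    IsPGroup p (zpowers x)).exists_le_sylow
  have hPe : zpowers x = (P : Subgroup G) := eq_of_le_of_card_ge hPx (by rw [hP, Nat.card_zpowers, hx])
  have hn := CfsgLib.SmallGroups.card_sylow_mul_card_normalizer P
  have h := CfsgLib.Classical.Dickson.card_orderOf_eq hP
  rw [hc] at h
  rw [hPe]
  rw [← hn, h] at hN
  refine Nat.eq_of_mul_eq_mul_left hc0 (Eq.symm ?_)
  rw [h, hN]
  ring

/-- A self-centralising Sylow subgroup from its normaliser. -/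
theorem centralizer_of_normalizer [IsSimpleGroup G] (hna : ¬ IsMulCommutative G) {p q : ℕ} [Fact p.Prime]
    (hq : q.Prime) (hP : ∀ P : Sylow p G, Nat.card (P : Subgroup G) = p)
    (h : ∀ x : G, orderOf x = p → Nat.card (normalizer ((zpowers x : Subgroup G) : Set G)) = p * q)
    {x : G} (hx : orderOf x = p) : Nat.card (centralizer ({x} : Set G)) = p := by
  obtain ⟨P, hPx⟩ := (IsPGroup.of_card (p := p) (n := 1) (by rw [Nat.card_zpowers, hx, pow_one]) :
    IsPGroup p (zpowers x)).exists_le_sylow
  have hPe : zpowers x = (P : Subgroup G) := eq_of_le_of_card_ge hPx (by rw [hP, Nat.card_zpowers, hx])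
  have hC : centralizer ({x} : Set G) = centralizer ((P : Subgroup G) : Set G) := by
    rw [← hPe, zpowers_eq_closure, centralizer_closure]
  have hN : Nat.card (normalizer ((P : Subgroup G) : Set G)) = p * q := hPe ▸ h x hx
  have hce := CfsgLib.SmallGroups.Order459648.card_centralizer_mul_relIndex (P : Subgroup G)
  rw [hN] at hce
  have he1 : (centralizer ((P : Subgroup G) : Set G)).relIndex (normalizer ((P : Subgroup G) : Set G)) ≠ 1 :=
    fun h => CfsgLib.SmallGroups.not_normalizer_le_centralizer hna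
      ((hP P) ▸ Subgroup.card_subgroup_dvd_card _) P (Subgroup.relIndex_eq_one.mp h)
  have hpC : p ∣ Nat.card (centralizer ((P : Subgroup G) : Set G)) := by
    have h1 := mem_centralizer_singleton_iff.2 (rfl : x * x = x * x)
    rw [← hC]
    exact hx ▸ orderOf_dvd_natCard _ h1
  rw [hC]
  obtain ⟨k, hk⟩ := hpC
  rw [hk, mul_assoc] at hce
  have hkq : k ∣ q := Dvd.intro _ (Nat.eq_of_mul_eq_mul_left (Fact.out : p.Prime).pos hce)
  rcases (Nat.dvd_prime hq).1 hkq with rfl | rfl
  · rw [hk, mul_one]
  · have := Nat.eq_of_mul_eq_mul_left (Fact.out : p.Prime).pos hce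
    exact absurd ((mul_eq_left₀ hq.pos.ne').1 this) he1

/-- The counts in M22. -/
theorem count_m22 (k : ℕ) :
    Nat.card {g : ↥Cfsg.Spor.M22 // orderOf g = k} ∈ ({1, 88704, 126720, 80640} : Set ℕ) ∨
      (5 ∣ Nat.card {g : ↥Cfsg.Spor.M22 // orderOf g = k} ∧ 7 ∣ Nat.card {g : ↥Cfsg.Spor.M22 // orderOf g = k} ∧
        11 ∣ Nat.card {g : ↥Cfsg.Spor.M22 // orderOf g = k}) := by
  classical
  haveI : Fintype ↥Cfsg.Spor.M22 := Fintype.ofFinite _
  haveI : Fact (Nat.Prime 5) := ⟨by norm_num⟩
  haveI : Fact (Nat.Prime 7) := ⟨by norm_num⟩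
  haveI : Fact (Nat.Prime 11) := ⟨by norm_num⟩
  have L := local_M22
  by_cases h1 : k = 1
  · subst h1
    refine Or.inl (Set.mem_insert_iff.2 (Or.inl ?_))
    rw [Nat.card_eq_one_iff_exists]
    exact ⟨⟨1, orderOf_one⟩, fun g => Subtype.ext (orderOf_eq_one_iff.1 g.2)⟩
  by_cases h5 : k = 5
  · subst h5
    have h := count_prime (fun P => sylow_card_of_one (m := 88704) (by rw [L.card]; norm_num) (by norm_num) P) L.five
    rw [L.card] at h
    exact Or.inl (by simp only [Set.mem_insert_iff, Set.mem_singleton_iff]; omega)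
  by_cases h7 : k = 7
  · subst h7
    have h := count_prime (fun P => sylow_card_of_one (m := 63360) (by rw [L.card]; norm_num) (by norm_num) P)
      fun x hx => (L.seven x hx).2
    rw [L.card] at h
    exact Or.inl (by simp only [Set.mem_insert_iff, Set.mem_singleton_iff]; omega)
  by_cases h11 : k = 11
  · subst h11
    have h := count_prime (fun P => sylow_card_of_one (m := 40320) (by rw [L.card]; norm_num) (by norm_num) P)
      fun x hx => (L.eleven x hx).2
    rw [L.card] at h
    exact Or.inl (by simp only [Set.mem_insert_iff, Set.mem_singleton_iff]; omega)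
  obtain ⟨x5, hx5⟩ := exists_prime_orderOf_dvd_card' (G := ↥Cfsg.Spor.M22) 5 (by rw [L.card]; norm_num)
  obtain ⟨x7, hx7⟩ := exists_prime_orderOf_dvd_card' (G := ↥Cfsg.Spor.M22) 7 (by rw [L.card]; norm_num)
  obtain ⟨x11, hx11⟩ := exists_prime_orderOf_dvd_card' (G := ↥Cfsg.Spor.M22) 11 (by rw [L.card]; norm_num)
  exact Or.inr ⟨count_dvd hx5 (m22_five hx5) h1 h5, count_dvd hx7 (L.seven x7 hx7).1 h1 h7,
    count_dvd hx11 (L.eleven x11 hx11).1 h1 h11⟩

/-- Order and equal counts give the local facts. -/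
theorem local_of_nse (hcard : Nat.card G = Nat.card ↥Cfsg.Spor.M22)
    (hnse : {c : ℕ | 0 < c ∧ ∃ n : ℕ, c = Nat.card {g : G // orderOf g = n}} =
      {c : ℕ | 0 < c ∧ ∃ n : ℕ, c = Nat.card {g : ↥Cfsg.Spor.M22 // orderOf g = n}}) : Local G := by
  haveI : Fact (Nat.Prime 5) := ⟨by norm_num⟩
  haveI : Fact (Nat.Prime 7) := ⟨by norm_num⟩
  haveI : Fact (Nat.Prime 11) := ⟨by norm_num⟩
  obtain ⟨hsimple, hG⟩ := CfsgLib.MathieuNSE.Eleven.isM22_of_nse hcard hnse
  have hna : ¬ IsMulCommutative G := by
    haveI := hsimple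
    exact CfsgLib.SmallGroups.not_isMulCommutative_of_not_prime (by rw [hG]; norm_num)
  have hcases : ∀ p : ℕ, p.Prime → p ∣ 443520 →
      Nat.card {g : G // orderOf g = p} ∈ ({1, 88704, 126720, 80640} : Set ℕ) ∨
        (5 ∣ Nat.card {g : G // orderOf g = p} ∧ 7 ∣ Nat.card {g : G // orderOf g = p} ∧
          11 ∣ Nat.card {g : G // orderOf g = p}) := by
    intro p hp hd
    haveI := Fact.mk hp
    obtain ⟨x, hx⟩ := exists_prime_orderOf_dvd_card' (G := G) p (hG ▸ hd)
    haveI : Nonempty {g : G // orderOf g = p} := ⟨⟨x, hx⟩⟩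
    have hmem : Nat.card {g : G // orderOf g = p} ∈
        {c : ℕ | 0 < c ∧ ∃ n : ℕ, c = Nat.card {g : G // orderOf g = n}} := ⟨Nat.card_pos, p, rfl⟩
    rw [hnse] at hmem
    obtain ⟨-, n, hn⟩ := hmem
    rw [hn]
    exact count_m22 n
  have hP5 : ∀ P : Sylow 5 G, Nat.card (P : Subgroup G) = 5 :=
    sylow_card_of_one (m := 88704) (by rw [hG]; norm_num) (by norm_num)
  have hP7 : ∀ P : Sylow 7 G, Nat.card (P : Subgroup G) = 7 :=
    sylow_card_of_one (m := 63360) (by rw [hG]; norm_num) (by norm_num)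
  have hP11 : ∀ P : Sylow 11 G, Nat.card (P : Subgroup G) = 11 :=
    sylow_card_of_one (m := 40320) (by rw [hG]; norm_num) (by norm_num)
  have c5 : Nat.card {g : G // orderOf g = 5} = 88704 := by
    have h := hcases 5 (by norm_num) (by norm_num)
    rw [CfsgLib.Classical.Dickson.card_orderOf_eq hP5] at h ⊢
    have := CfsgLib.SmallGroups.mod_eq_one_card_sylow (p := 5) (G := G)
    simp only [Set.mem_insert_iff, Set.mem_singleton_iff] at h
    omega
  have c7 : Nat.card {g : G // orderOf g = 7} = 126720 := by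
    have h := hcases 7 (by norm_num) (by norm_num)
    rw [CfsgLib.Classical.Dickson.card_orderOf_eq hP7] at h ⊢
    have := CfsgLib.SmallGroups.mod_eq_one_card_sylow (p := 7) (G := G)
    simp only [Set.mem_insert_iff, Set.mem_singleton_iff] at h
    omega
  have c11 : Nat.card {g : G // orderOf g = 11} = 80640 := by
    have h := hcases 11 (by norm_num) (by norm_num)
    rw [CfsgLib.Classical.Dickson.card_orderOf_eq hP11] at h ⊢
    have := CfsgLib.SmallGroups.mod_eq_one_card_sylow (p := 11) (G := G)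
    simp only [Set.mem_insert_iff, Set.mem_singleton_iff] at h
    omega
  have n5 := fun (x : G) (hx : orderOf x = 5) => normalizer_of_count (N := 20) hP5 c5 (by norm_num) (by rw [hG]) hx
  have n7 := fun (x : G) (hx : orderOf x = 7) => normalizer_of_count (N := 21) hP7 c7 (by norm_num) (by rw [hG]) hx
  have n11 := fun (x : G) (hx : orderOf x = 11) =>
    normalizer_of_count (N := 55) hP11 c11 (by norm_num) (by rw [hG]) hx
  haveI := hsimple
  exact {
    card := hG
    simple := hsimple
    seven := fun x hx => ⟨centralizer_of_normalizer hna (q := 3) (by norm_num) hP7 (fun y hy => n7 y hy) hx, n7 x hx⟩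
    eleven := fun x hx => ⟨centralizer_of_normalizer hna (q := 5) (by norm_num) hP11 (fun y hy => n11 y hy) hx, n11 x hx⟩
    five := n5 }

end CfsgLib.MTwentyTwoUnique
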