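import Cfsg.Agent.Lib.MTwentyTwoUnique.Three
import Mathlib

/-!
The four-group in the centraliser of an element of order three.
-/

set_option autoImplicit false
set_option linter.style.haveILetI false

noncomputable section

namespace CfsgLib.MTwentyTwoUnique

open Subgroup CfsgLib.InvolChar Cfsg
open CfsgLib.MTwelveUnique (nu card_sq_roots)
attribute [local instance] Classical.propDecidable

variable {G : Type*} [Group G] [Fintype G] (hL : Local G)
include hL

theorem card_invol_cent_three {y : G} (hy : orderOf y = 3) :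
    Nat.card {t : G // Commute y t ∧ t * t = 1} = 4 := by
  obtain ⟨T⟩ := exists_table hL
  have V := three_vals hL T hy
  obtain ⟨z, -, -, -, na, nb, nc, nd, ng, nh, nk⟩ := invol_facts hL T
  obtain ⟨n0, n0', nu0, nu0'⟩ := T.nu_zero
  have n1 : nu (CfsgLib.Char.irrOne : IrrCharacter G) = 1 := by
    simp [nu, CfsgLib.Char.irrOne_apply, ← Nat.card_eq_fintype_card, Nat.card_pos.ne']
  have h := card_sq_roots y
  rw [T.sum_all] at h
  simp only [n1, na, nb, nc, nd, ng, nh, nk, n0, n0', nu0, nu0', CfsgLib.Char.irrOne_apply, V.va, V.vb, V.vc,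
    V.vd, V.vg, V.vh, V.vk] at h
  norm_num [-Nat.card_eq_fintype_card] at h
  have h4 : ((Nat.card {s : G // s * s = y} : ℕ) : ℂ) = ((4 : ℕ) : ℂ) := by
    rw [h]
    norm_num [Complex.conj_ofNat]
  have h4' : Nat.card {s : G // s * s = y} = 4 := by exact_mod_cast h4
  rw [← h4']
  have hy3 : y ^ 3 = 1 := hy ▸ pow_orderOf_eq_one y
  refine Nat.card_congr
    { toFun := fun t => ⟨y ^ 2 * t.1, by
        rw [mul_assoc, ← mul_assoc t.1, ← (t.2.1.pow_left 2).eq, mul_assoc, t.2.2, mul_one, ← pow_add,
          show 2 + 2 = 3 + 1 from rfl, pow_succ, hy3, one_mul]⟩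
      invFun := fun s => ⟨y * s.1, by
        have hc : Commute y s.1 := by
          have := (Commute.refl s.1).mul_left (Commute.refl s.1)
          rwa [s.2] at this
        refine ⟨(Commute.refl y).mul_right hc, ?_⟩
        rw [mul_assoc, ← mul_assoc s.1, ← hc.eq, mul_assoc, s.2, ← sq, ← pow_succ', hy3]⟩
      left_inv := fun t => Subtype.ext (by
        show y * (y ^ 2 * t.1) = t.1
        rw [← mul_assoc, ← pow_succ', hy3, one_mul])
      right_inv := fun s => Subtype.ext (by
        show y ^ 2 * (y * s.1) = s.1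
        rw [← mul_assoc, ← pow_succ, hy3, one_mul]) }

theorem card_cent_three {y : G} (hy : orderOf y = 3) : Nat.card (centralizer ({y} : Set G)) = 36 := by
  obtain ⟨T⟩ := exists_table hL
  exact (three_vals hL T hy).cent

theorem card_cent_invol {t : G} (htt : t * t = 1) (ht : t ≠ 1) :
    Nat.card (centralizer ({t} : Set G)) = 384 := by
  obtain ⟨T⟩ := exists_table hL
  exact (invol_vals hL T htt ht).cent

/-- No involution centralises a subgroup of order nine. -/
theorem not_centralizes_nine {Q : Subgroup G} (hQ : Nat.card Q = 9) {t : G} (htt : t * t = 1) (ht : t ≠ 1) :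
    ¬ ∀ q ∈ Q, Commute t q := fun h => by
  have h9 := card_dvd_of_le (show Q ≤ centralizer ({t} : Set G) from fun q hq =>
    mem_centralizer_singleton_iff.mpr (h q hq).eq.symm)
  rw [hQ, card_cent_invol hL htt ht] at h9
  norm_num at h9

omit [Fintype G] hL in
/-- An element of order 4 cannot act on six points through an automorphism with fixed-point-free square. -/
theorem not_four_on_six {α : Type*} [Fintype α] [DecidableEq α] (hα : Fintype.card α = 6) (σ : Equiv.Perm α)
    (h4 : σ ^ 4 = 1) (hfree : ∀ a, (σ ^ 2) a ≠ a) : False := by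
  have hne : σ ^ 2 ≠ 1 := fun e => by
    haveI : Nonempty α := Fintype.card_pos_iff.mp (by omega)
    exact hfree (Classical.arbitrary α) (by rw [e]; rfl)
  have hord : orderOf (σ ^ 2) = 2 := by
    haveI : Fact (Nat.Prime 2) := ⟨Nat.prime_two⟩
    exact orderOf_eq_prime (by rw [← pow_mul]; exact h4) hne
  obtain ⟨k, hk⟩ := Equiv.Perm.cycleType_prime_order (σ := σ ^ 2) (by rw [hord]; exact Nat.prime_two)
  have hsupp : (σ ^ 2).support = Finset.univ :=
    Finset.eq_univ_of_forall fun a => Equiv.Perm.mem_support.2 (hfree a)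
  have hs := (σ ^ 2).sum_cycleType
  rw [hk, hsupp, Finset.card_univ, hα, Multiset.sum_replicate, hord, smul_eq_mul] at hs
  have hk3 : k + 1 = 3 := by omega
  have hsign : Equiv.Perm.sign (σ ^ 2) = 1 := by rw [map_pow, Int.units_sq]
  rw [Equiv.Perm.sign_of_cycleType, hk, hk3, hord, Multiset.sum_replicate, Multiset.card_replicate] at hsign
  norm_num at hsign

/-- A subgroup of order nine is not normalised by an element of order four centralising one of its elements. -/
theorem not_normalized_by_four {y : G} (hy : orderOf y = 3) {Q : Subgroup G} (hQ : Nat.card Q = 9) (hyQ : y ∈ Q)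
    {w : G} (hwy : Commute w y) (hwQ : ∀ q ∈ Q, w * q * w⁻¹ ∈ Q) (h4 : w ^ 4 = 1) (h2 : w * w ≠ 1) : False := by
  haveI : Fact (Nat.Prime 3) := ⟨by norm_num⟩
  have hzle : zpowers y ≤ Q := zpowers_le.mpr hyQ
  let α := {q : Q // (q : G) ∉ zpowers y}
  have hα : Fintype.card α = 6 := by
    rw [Fintype.card_subtype_compl]
    have e : Nat.card {q : Q // (q : G) ∈ zpowers y} = 3 := by
      rw [← hy, ← Nat.card_zpowers]
      exact Nat.card_congr ⟨fun q => ⟨(q.1 : G), q.2⟩, fun z => ⟨⟨z.1, hzle z.2⟩, z.2⟩, fun _ => rfl, fun _ => rfl⟩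
    rw [Nat.card_eq_fintype_card] at e hQ
    omega
  have hfix : ∀ z ∈ zpowers y, w * z * w⁻¹ = z := fun z hz => by
    obtain ⟨i, rfl⟩ := mem_zpowers_iff.mp hz
    rw [(hwy.zpow_right i).eq, mul_inv_cancel_right]
  have hmap : ∀ q : α, w * (q.1 : G) * w⁻¹ ∉ zpowers y := fun q h => by
    have h' : w * (q.1 : G) * w⁻¹ = q.1 := mul_left_cancel (mul_right_cancel (hfix _ h))
    exact q.2 (h' ▸ h)
  let f : α → α := fun q => ⟨⟨w * (q.1 : G) * w⁻¹, hwQ _ q.1.2⟩, hmap q⟩
  have hf : Function.Injective f := fun a b h => by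
    have h' : w * (a.1 : G) * w⁻¹ = w * (b.1 : G) * w⁻¹ := congrArg (fun q : α => (q.1 : G)) h
    exact Subtype.ext (Subtype.ext (mul_left_cancel (mul_right_cancel h')))
  let σ : Equiv.Perm α := Equiv.ofBijective f (Finite.injective_iff_bijective.1 hf)
  have hit : ∀ (n : ℕ) (q : α), (((σ ^ n) q).1 : G) = w ^ n * q.1 * (w ^ n)⁻¹ := by
    intro n
    induction n with
    | zero => simp
    | succ n ih =>
      intro q
      rw [pow_succ', Equiv.Perm.mul_apply]
      show w * (((σ ^ n) q).1 : G) * w⁻¹ = _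
      rw [ih, pow_succ']
      group
  refine not_four_on_six hα σ (Equiv.ext fun q => Subtype.ext (Subtype.ext (by rw [hit, h4]; simp))) fun q hq => ?_
  have hc : Commute (w * w) (q.1 : G) := by
    have h := congrArg (fun a : α => (a.1 : G)) hq
    rw [hit, sq] at h
    exact mul_inv_eq_iff_eq_mul.1 h
  refine not_centralizes_nine hL hQ (t := w * w) (by rw [← sq, ← sq, ← pow_mul]; exact h4) h2 fun p hp => ?_
  -- `y` and `q` generate the subgroup of order nine
  have hcl : Q ≤ centralizer ({w * w} : Set G) := by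
    set K := Q ⊓ centralizer ({w * w} : Set G) with hK
    have hyK : y ∈ K := ⟨hyQ, mem_centralizer_singleton_iff.mpr (hwy.mul_left hwy).eq.symm⟩
    have hqK : (q.1 : G) ∈ K := ⟨q.1.2, mem_centralizer_singleton_iff.mpr hc.eq.symm⟩
    have hd : Nat.card K ∣ 3 ^ 2 := (card_dvd_of_le inf_le_left).trans (dvd_of_eq hQ)
    obtain ⟨i, hi, hKc⟩ := (Nat.dvd_prime_pow (by norm_num : Nat.Prime 3)).1 hd
    have h3 : 3 ∣ Nat.card K := hy ▸ Subgroup.orderOf_dvd_natCard _ hyK
    interval_cases i
    · rw [hKc] at h3; norm_num at h3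
    · exfalso
      have : zpowers y = K := eq_of_le_of_card_ge (zpowers_le.mpr hyK) (by rw [hKc, Nat.card_zpowers, hy]; rfl)
      rw [← this] at hqK
      exact q.2 hqK
    · exact le_of_eq_of_le (eq_of_le_of_card_ge inf_le_left (by rw [hKc, hQ]; rfl)).symm inf_le_right
  exact (mem_centralizer_singleton_iff.mp (hcl hp)).symm

/-- The involutions centralising an element of order three commute. -/
theorem commute_invol_cent_three {y s t : G} (hy : orderOf y = 3) (hys : Commute y s) (hss : s * s = 1)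
    (hyt : Commute y t) (htt : t * t = 1) : Commute s t := by
  haveI : Fact (Nat.Prime 3) := ⟨by norm_num⟩
  haveI : Fact (Nat.Prime 2) := ⟨Nat.prime_two⟩
  by_contra hne
  have hs1 : s ≠ 1 := fun e => hne (e ▸ Commute.one_left t)
  have ht1 : t ≠ 1 := fun e => hne (e ▸ Commute.one_right s)
  have hsi : s⁻¹ = s := inv_eq_of_mul_eq_one_left hss
  have hti : t⁻¹ = t := inv_eq_of_mul_eq_one_left htt
  set u := s * t * s with hu
  have hyu : Commute y u := (hys.mul_right hyt).mul_right hys
  have huu : u * u = 1 := by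
    calc u * u = s * t * (s * s) * t * s := by rw [hu]; group
      _ = 1 := by rw [hss, mul_one, mul_assoc s t t, htt, mul_one, hss]
  have hus : u ≠ s := fun e => hne (by
    have h1 : s * t = 1 := by simpa [hu, mul_assoc, hss] using congrArg (· * s) e
    exact absurd (show t = s by rw [← mul_one s, ← h1, ← mul_assoc, hss, one_mul]) fun h => hne (h ▸ Commute.refl s))
  have hut : u ≠ t := fun e => hne (by
    show s * t = t * s
    calc s * t = s * t * (s * s) := by rw [hss, mul_one]
      _ = u * s := by rw [hu]; group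
      _ = t * s := by rw [e])
  have hu1 : u ≠ 1 := fun e => ht1 (by
    calc t = s * s * t * (s * s) := by rw [hss, one_mul, mul_one]
      _ = s * u * s := by rw [hu]; group
      _ = 1 := by rw [e, mul_one, hss])
  -- exactly three involutions centralise `y`
  have hfour : ({1, s, t, u} : Finset G) = Finset.univ.filter fun x => Commute y x ∧ x * x = 1 := by
    refine Finset.eq_of_subset_of_card_le (fun x hx => ?_) ?_
    · simp only [Finset.mem_insert, Finset.mem_singleton] at hx
      simp only [Finset.mem_filter, Finset.mem_univ, true_and]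
      rcases hx with rfl | rfl | rfl | rfl
      exacts [⟨Commute.one_right y, mul_one 1⟩, ⟨hys, hss⟩, ⟨hyt, htt⟩, ⟨hyu, huu⟩]
    · rw [← Fintype.card_subtype, ← Nat.card_eq_fintype_card, card_invol_cent_three hL hy]
      rw [Finset.card_insert_of_notMem (by simp [hs1.symm, ht1.symm, hu1.symm]),
        Finset.card_insert_of_notMem (by
          simp only [Finset.mem_insert, Finset.mem_singleton, not_or]
          exact ⟨fun e => hne (e ▸ Commute.refl s), hus.symm⟩),
        Finset.card_pair hut.symm]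
  have hmem : ∀ x : G, Commute y x → x * x = 1 → x = 1 ∨ x = s ∨ x = t ∨ x = u := fun x h1 h2 => by
    have : x ∈ ({1, s, t, u} : Finset G) := by rw [hfour]; simp [h1, h2]
    simpa using this
  have htst : t * s * t = u := by
    have h2 : t * s * t * (t * s * t) = 1 := by
      calc t * s * t * (t * s * t) = t * s * (t * t) * s * t := by group
        _ = 1 := by rw [htt, mul_one, mul_assoc t s s, hss, mul_one, htt]
    rcases hmem _ ((hyt.mul_right hys).mul_right hyt) h2 with e | e | e | e
    · exfalso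
      exact hs1 (by
        calc s = t * t * s * (t * t) := by rw [htt, one_mul, mul_one]
          _ = t * (t * s * t) * t := by group
          _ = 1 := by rw [e, mul_one, htt])
    · exfalso
      exact hne (by
        show s * t = t * s
        calc s * t = t * s * t * t := by rw [e]
          _ = t * s := by rw [mul_assoc (t * s) t t, htt, mul_one])
    · exfalso
      refine hne ?_
      have : s * t = 1 := by
        calc s * t = t * t * s * t := by rw [htt, one_mul]
          _ = t * (t * s * t) := by group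
          _ = 1 := by rw [e, htt]
      exact absurd (show t = s by rw [← mul_one s, ← this, ← mul_assoc, hss, one_mul]) fun h => hne (h ▸ Commute.refl s)
    · exact e
  set w := s * t with hw
  have hw3 : w ^ 3 = 1 := by
    calc w ^ 3 = s * t * s * (t * s * t) := by rw [hw, pow_succ, pow_two]; group
      _ = 1 := by rw [htst, ← hu, huu]
  have hsw : s * w * s⁻¹ = w⁻¹ := by rw [hsi, hw, mul_inv_rev, hsi, hti, ← mul_assoc s s t, hss, one_mul]
  have hyw : Commute y w := hys.mul_right hyt
  set H := centralizer ({y} : Set G) ⊓ centralizer ({w} : Set G) with hH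
  have hmemH : ∀ x : G, x ∈ H ↔ Commute y x ∧ Commute w x := fun x => by
    simp only [hH, Subgroup.mem_inf, mem_centralizer_singleton_iff]
    exact ⟨fun h => ⟨h.1.symm, h.2.symm⟩, fun h => ⟨h.1.symm, h.2.symm⟩⟩
  have hC := card_cent_three hL hy
  have hHd : Nat.card H ∣ 36 := hC ▸ card_dvd_of_le inf_le_left
  have hyH : y ∈ H := (hmemH y).2 ⟨Commute.refl y, hyw.symm⟩
  have hwH : w ∈ H := (hmemH w).2 ⟨hyw, Commute.refl w⟩
  have h3H : 3 ∣ Nat.card H := hy ▸ Subgroup.orderOf_dvd_natCard H hyH
  have hnc : ∀ x, Commute y x → x * x = 1 → x ≠ 1 → ¬ Commute w x := by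
    intro x h1 h2 h3 hc
    rcases hmem x h1 h2 with e | e | e | e
    · exact h3 e
    · subst e
      refine hne ?_
      show x * t = t * x
      calc x * t = x * t * x * x := by rw [mul_assoc (x * t) x x, hss, mul_one]
        _ = x * (x * t) * x := by rw [show x * t * x = x * (x * t) from hc.eq]
        _ = t * x := by rw [← mul_assoc x x t, hss, one_mul]
    · subst e
      refine hne ?_
      show s * x = x * s
      calc s * x = x * (x * (s * x)) := by rw [← mul_assoc x x, htt, one_mul]
        _ = x * (s * x * x) := by rw [show x * (s * x) = s * x * x from hc.eq.symm]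
        _ = x * s := by rw [mul_assoc s x x, htt, mul_one]
    · subst e
      refine hne ?_
      have h : s * t * (s * t * s) = s * t * s * (s * t) := hc.eq
      show s * t = t * s
      calc s * t = s * t * (s * t * s) * (s * t * s) := by rw [mul_assoc, huu, mul_one]
        _ = s * t * s * (s * t) * (s * t * s) := by rw [h]
        _ = t * s := by
          have k1 : ∀ x, s * (s * x) = x := fun x => by rw [← mul_assoc, hss, one_mul]
          have k2 : ∀ x, t * (t * x) = x := fun x => by rw [← mul_assoc, htt, one_mul]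
          simp only [mul_assoc, k1, k2]
  have hodd : ¬ 2 ∣ Nat.card H := fun h => by
    obtain ⟨x, hx⟩ := exists_prime_orderOf_dvd_card' (G := H) 2 h
    have hx2 : (x : G) * x = 1 := by rw [← sq, ← hx, ← SubmonoidClass.coe_pow, pow_orderOf_eq_one]; rfl
    have hx1 : (x : G) ≠ 1 := fun e => by
      rw [show x = 1 from Subtype.ext e, orderOf_one] at hx
      norm_num at hx
    exact hnc x ((hmemH x).1 x.2).1 hx2 hx1 ((hmemH x).1 x.2).2
  have h9 : Nat.card H = 9 := by
    have key : ∀ k ∈ Nat.divisors 36, 3 ∣ k → ¬ 2 ∣ k → k = 3 ∨ k = 9 := by decide +kernel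
    refine (key _ (Nat.mem_divisors.2 ⟨hHd, by norm_num⟩) h3H hodd).resolve_left fun h3 => ?_
    have e : zpowers y = H := eq_of_le_of_card_ge (zpowers_le.mpr hyH) (by rw [h3, Nat.card_zpowers, hy])
    obtain ⟨i, hi⟩ := mem_zpowers_iff.mp (e ▸ hwH : w ∈ zpowers y)
    exact hnc s hys hss hs1 (hi ▸ hys.zpow_left i)
  -- `H` is normal in the centraliser of `y`
  set C := centralizer ({y} : Set G) with hCdef
  have hHC : H ≤ C := inf_le_left
  have hHc : Nat.card (H.subgroupOf C) = 9 := by rw [Nat.card_congr (subgroupOfEquivOfLe hHC).toEquiv, h9]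
  have hfac : (Nat.card C).factorization 3 = 2 := by
    rw [hC, show 36 = 3 ^ 2 * 4 from rfl, Nat.factorization_mul (by norm_num) (by norm_num), Finsupp.add_apply,
      Nat.Prime.factorization_pow (by norm_num), Finsupp.single_eq_same,
      Nat.factorization_eq_zero_of_not_dvd (by norm_num : ¬ 3 ∣ 4)]
  let Q : Sylow 3 C := Sylow.ofCard (H.subgroupOf C) (by rw [hHc, hfac]; rfl)
  have hQ : (Q : Subgroup C) = H.subgroupOf C := Sylow.coe_ofCard _ _
  have hsC : s ∈ C := mem_centralizer_singleton_iff.mpr hys.eq.symm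
  have hsN : (⟨s, hsC⟩ : C) ∈ normalizer ((Q : Subgroup C) : Set C) := by
    rw [hQ, Subgroup.mem_normalizer_iff]
    intro x
    rw [mem_subgroupOf, mem_subgroupOf, hmemH, hmemH]
    show _ ↔ Commute y (s * x * s⁻¹) ∧ Commute w (s * x * s⁻¹)
    have e1 : s * y * s⁻¹ = y := by rw [← hys.eq, mul_inv_cancel_right]
    constructor
    · rintro ⟨h1, h2⟩
      refine ⟨e1 ▸ h1.map (MulAut.conj s), ?_⟩
      have h3 : Commute (s * w * s⁻¹) (s * x * s⁻¹) := h2.map (MulAut.conj s)
      rw [hsw] at h3
      exact inv_inv w ▸ h3.inv_left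
    · rintro ⟨h1, h2⟩
      have e2 : (x : G) = s * (s * x * s⁻¹) * s⁻¹ := by
        calc (x : G) = s * s * x * (s * s)⁻¹ := by rw [hss, inv_one, one_mul, mul_one]
          _ = _ := by group
      rw [e2]
      refine ⟨e1 ▸ h1.map (MulAut.conj s), ?_⟩
      have h3 : Commute (s * w * s⁻¹) (s * (s * x * s⁻¹) * s⁻¹) := h2.map (MulAut.conj s)
      rw [hsw] at h3
      exact inv_inv w ▸ h3.inv_left
  have hn := CfsgLib.SmallGroups.card_sylow_mul_card_normalizer Q
  rw [hC] at hn
  have hmod := CfsgLib.SmallGroups.mod_eq_one_card_sylow (p := 3) (G := C)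
  have h2N : 2 ∣ Nat.card (normalizer ((Q : Subgroup C) : Set C)) := by
    refine (dvd_of_eq (orderOf_eq_prime (p := 2) ?_ ?_).symm).trans (Subgroup.orderOf_dvd_natCard _ hsN)
    · exact Subtype.ext (by rw [sq]; exact hss)
    · exact fun e => hs1 (congrArg Subtype.val e)
  have h9N : 9 ∣ Nat.card (normalizer ((Q : Subgroup C) : Set C)) :=
    hHc ▸ hQ ▸ card_dvd_of_le le_normalizer
  have hnormal : normalizer ((Q : Subgroup C) : Set C) = ⊤ := by
    refine eq_top_of_card_eq _ ?_
    have key : ∀ k ∈ Nat.divisors 36, 2 ∣ k → 9 ∣ k → k = 18 ∨ k = 36 := by decide +kernel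
    rcases key _ (Nat.mem_divisors.2 ⟨Dvd.intro_left _ hn, by norm_num⟩) h2N h9N with h | h
    · rw [h] at hn; omega
    · rw [h, hC]
  obtain ⟨S⟩ : Nonempty (Sylow 2 C) := inferInstance
  have hSc : Nat.card (S : Subgroup C) = 4 :=
    CfsgLib.SmallGroups.card_sylow_eq (show Nat.card C = 2 ^ 2 * 9 by rw [hC]; norm_num) (by norm_num) S
  by_cases hel : ∀ x : (S : Subgroup C), x * x = 1
  · -- the three involutions would be those of an elementary group of order four
    have hsub : Finset.univ.filter (fun x => Commute y x ∧ x * x = 1) ⊆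
        Finset.univ.image fun x : (S : Subgroup C) => x.1.1 := by
      have hle : Finset.univ.image (fun x : (S : Subgroup C) => x.1.1) ⊆
          Finset.univ.filter (fun x => Commute y x ∧ x * x = 1) := by
        intro g hg
        obtain ⟨x, -, rfl⟩ := Finset.mem_image.1 hg
        simp only [Finset.mem_filter, Finset.mem_univ, true_and]
        exact ⟨(mem_centralizer_singleton_iff.mp (x : C).2).symm, congrArg (fun z : (S : Subgroup C) => ((z : C) : G)) (hel x)⟩
      refine (Finset.eq_of_subset_of_card_le hle ?_).ge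
      rw [← Fintype.card_subtype, ← Nat.card_eq_fintype_card, card_invol_cent_three hL hy,
        Finset.card_image_of_injective _ (fun a b h => Subtype.ext (Subtype.ext h)), Finset.card_univ,
        ← Nat.card_eq_fintype_card, hSc]
    obtain ⟨a, -, ha⟩ := Finset.mem_image.1 (hsub (by simp [hys, hss] : s ∈ _))
    obtain ⟨b, -, hb⟩ := Finset.mem_image.1 (hsub (by simp [hyt, htt] : t ∈ _))
    refine hne ?_
    have hab : a * b = b * a := by
      have := mul_eq_one_iff_eq_inv.1 (hel (a * b))
      rw [this, mul_inv_rev, inv_eq_of_mul_eq_one_left (hel a), inv_eq_of_mul_eq_one_left (hel b)]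
    show s * t = t * s
    rw [← ha, ← hb]
    exact congrArg (fun z : (S : Subgroup C) => ((z : C) : G)) hab
  · push Not at hel
    obtain ⟨v, hv⟩ := hel
    have hvC : ((v : C) : G) * y = y * ((v : C) : G) := mem_centralizer_singleton_iff.mp (v : C).2
    refine not_normalized_by_four hL hy h9 hyH (w := ((v : C) : G)) hvC (fun q hq => ?_) ?_ ?_
    · have h := (Subgroup.mem_normalizer_iff.1 (hnormal ▸ mem_top (v : C))) ⟨q, hHC hq⟩
      rw [hQ, mem_subgroupOf, mem_subgroupOf] at h
      exact h.1 hq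
    · have : v ^ 4 = 1 := hSc ▸ pow_card_eq_one'
      exact congrArg (fun z : (S : Subgroup C) => ((z : C) : G)) this
    · exact fun e => hv (Subtype.ext (Subtype.ext e))

/-- The four-group of an element of order three. -/
theorem exists_four {y : G} (hy : orderOf y = 3) : ∃ V : Subgroup G,
    (∀ t, t ∈ V ↔ Commute y t ∧ t * t = 1) ∧ Nat.card V = 4 := by
  refine ⟨{ carrier := {t | Commute y t ∧ t * t = 1}
            one_mem' := ⟨Commute.one_right y, mul_one 1⟩
            mul_mem' := fun {a b} ha hb => ⟨ha.1.mul_right hb.1, ?_⟩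
            inv_mem' := fun {a} ha => ⟨ha.1.inv_right, by rw [← mul_inv_rev, ha.2, inv_one]⟩ }, fun t => Iff.rfl, ?_⟩
  · have h := commute_invol_cent_three hL hy ha.1 ha.2 hb.1 hb.2
    calc a * b * (a * b) = a * (b * a) * b := by group
      _ = a * a * (b * b) := by rw [← h.eq]; group
      _ = 1 := by rw [ha.2, hb.2, mul_one]
  · exact card_invol_cent_three hL hy

/-- A 2-element centralising an element of order three is an involution or trivial. -/
theorem sq_one_of_two_elem {y g : G} (hy : orderOf y = 3) (hg : Commute y g) {k : ℕ} (hk : g ^ 2 ^ k = 1) :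
    g * g = 1 := by
  obtain ⟨V, hV, hVc⟩ := exists_four hL hy
  set C := centralizer ({y} : Set G) with hCdef
  have hVC : V ≤ C := fun t ht => mem_centralizer_singleton_iff.mpr ((hV t).1 ht).1.eq.symm
  haveI : (V.subgroupOf C).Normal := ⟨fun a ha c => by
    rw [mem_subgroupOf, hV] at ha ⊢
    have hcy : (c : G) * y * (c : G)⁻¹ = y := by
      rw [mem_centralizer_singleton_iff.mp c.2, mul_inv_cancel_right]
    refine ⟨hcy ▸ ha.1.map (MulAut.conj (c : G)), ?_⟩
    show (c : G) * a * (c : G)⁻¹ * ((c : G) * a * (c : G)⁻¹) = 1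
    rw [show (c : G) * a * (c : G)⁻¹ * ((c : G) * a * (c : G)⁻¹) = (c : G) * (a * a) * (c : G)⁻¹ by group, ha.2,
      mul_one, mul_inv_cancel]⟩
  have hgC : g ∈ C := mem_centralizer_singleton_iff.mpr hg.eq.symm
  have hidx : (V.subgroupOf C).index = 9 := by
    have h := (V.subgroupOf C).card_mul_index
    rw [Nat.card_congr (subgroupOfEquivOfLe hVC).toEquiv, hVc, card_cent_three hL hy] at h
    omega
  have h9 := (V.subgroupOf C).pow_index_mem ⟨g, hgC⟩
  rw [hidx, mem_subgroupOf, hV] at h9
  have h18 : g ^ 18 = 1 := by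
    have := h9.2
    rwa [show ((⟨g, hgC⟩ ^ 9 : C) : G) = g ^ 9 from rfl, ← pow_add] at this
  have hd := Nat.dvd_gcd (orderOf_dvd_of_pow_eq_one h18) (orderOf_dvd_of_pow_eq_one hk)
  have hg2 : Nat.gcd 18 (2 ^ k) ∣ 2 := by
    refine (Nat.dvd_gcd (Nat.gcd_dvd_left _ _) (Nat.gcd_dvd_right _ _)).trans ?_
    rcases Nat.eq_zero_or_pos k with rfl | hk0
    · simp
    · obtain ⟨j, rfl⟩ : ∃ j, k = j + 1 := ⟨k - 1, by omega⟩
      rw [pow_succ, show 18 = 9 * 2 from rfl, Nat.gcd_mul_right,
        (Nat.Coprime.pow_right j (by norm_num : Nat.Coprime 9 2)).gcd_eq_one]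
  rw [← sq]
  exact orderOf_dvd_iff_pow_eq_one.1 (hd.trans hg2)

/-- An element outside `⟨y⟩` of a subgroup of order nine through `y` fixes no involution centralising `y`. -/
theorem mem_zpowers_of_fix {y p t : G} (hy : orderOf y = 3) {P : Subgroup G} (hP : Nat.card P = 9) (hyP : y ∈ P)
    (hpP : p ∈ P) (hyt : Commute y t) (htt : t * t = 1) (ht : t ≠ 1) (hpt : Commute p t) : p ∈ zpowers y := by
  by_contra hp
  set K := P ⊓ centralizer ({t} : Set G) with hK
  have hyK : y ∈ K := ⟨hyP, mem_centralizer_singleton_iff.mpr hyt.eq⟩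
  have hpK : p ∈ K := ⟨hpP, mem_centralizer_singleton_iff.mpr hpt.eq⟩
  have hd : Nat.card K ∣ 3 ^ 2 := (card_dvd_of_le inf_le_left).trans (dvd_of_eq hP)
  obtain ⟨i, hi, hKc⟩ := (Nat.dvd_prime_pow (by norm_num : Nat.Prime 3)).1 hd
  have h3 : 3 ∣ Nat.card K := hy ▸ Subgroup.orderOf_dvd_natCard _ hyK
  interval_cases i
  · rw [hKc] at h3; norm_num at h3
  · have : zpowers y = K := eq_of_le_of_card_ge (zpowers_le.mpr hyK) (by rw [hKc, Nat.card_zpowers, hy]; rfl)
    exact hp (this ▸ hpK)
  · refine not_centralizes_nine hL hP htt ht fun q hq => ?_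
    have e : K = P := eq_of_le_of_card_ge inf_le_left (by rw [hKc, hP]; rfl)
    exact (mem_centralizer_singleton_iff.mp ((e.ge hq).2 : q ∈ centralizer ({t} : Set G))).symm

/-- A subgroup of order nine through `y` moves the three involutions centralising `y` transitively. -/
theorem exists_conj_mem {y s t : G} (hy : orderOf y = 3) {P : Subgroup G} (hP : Nat.card P = 9) (hyP : y ∈ P)
    (hys : Commute y s) (hss : s * s = 1) (hs : s ≠ 1) (hyt : Commute y t) (htt : t * t = 1) (ht : t ≠ 1) :
    ∃ p ∈ P, p * s * p⁻¹ = t := by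
  haveI : Fact (Nat.Prime 3) := ⟨by norm_num⟩
  haveI : IsMulCommutative P := IsPGroup.isMulCommutative_of_card_eq_prime_sq (p := 3) (by rw [hP]; rfl)
  have hc : ∀ p ∈ P, Commute y p := fun p hp => congrArg Subtype.val
    ((IsMulCommutative.is_comm (M := P)).comm ⟨y, hyP⟩ ⟨p, hp⟩)
  obtain ⟨p, hpP, hp⟩ : ∃ p ∈ P, p ∉ zpowers y := by
    by_contra h
    push Not at h
    have h1 := card_dvd_of_le (show P ≤ zpowers y from h)
    rw [hP, Nat.card_zpowers, hy] at h1
    norm_num at h1
  set a : G → G := fun x => p * x * p⁻¹ with ha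
  have hpres : ∀ x, Commute y x ∧ x * x = 1 ∧ x ≠ 1 → Commute y (a x) ∧ a x * a x = 1 ∧ a x ≠ 1 := by
    rintro x ⟨h1, h2, h3⟩
    have hpy : p * y * p⁻¹ = y := by rw [← (hc p hpP).eq, mul_inv_cancel_right]
    refine ⟨hpy ▸ h1.map (MulAut.conj p), ?_, fun e => h3 (conj_eq_one_iff.mp e)⟩
    simp only [ha]
    rw [show p * x * p⁻¹ * (p * x * p⁻¹) = p * (x * x) * p⁻¹ by group, h2, mul_one, mul_inv_cancel]
  have hmove : ∀ x, Commute y x ∧ x * x = 1 ∧ x ≠ 1 → a x ≠ x := fun x h e =>
    hp (mem_zpowers_of_fix hL hy hP hyP hpP h.1 h.2.1 h.2.2 (mul_inv_eq_iff_eq_mul.1 e))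
  have hp2 : ∀ x, Commute y x ∧ x * x = 1 ∧ x ≠ 1 → a (a x) ≠ x := fun x h e => by
    have e' : p ^ 2 * x * (p ^ 2)⁻¹ = x := by
      rw [show p ^ 2 * x * (p ^ 2)⁻¹ = p * (p * x * p⁻¹) * p⁻¹ by simp [sq, mul_assoc]]
      exact e
    have hm := mem_zpowers_of_fix hL hy hP hyP (pow_mem hpP 2) h.1 h.2.1 h.2.2 (mul_inv_eq_iff_eq_mul.1 e')
    have h9 : p ^ 9 = 1 := orderOf_dvd_iff_pow_eq_one.1 (hP ▸ Subgroup.orderOf_dvd_natCard P hpP)
    refine hp ?_
    have : p = (p ^ 2) ^ 5 := by rw [← pow_mul, show 2 * 5 = 9 + 1 from rfl, pow_add, h9, one_mul, pow_one]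
    rw [this]
    exact pow_mem hm 5
  have hS : Commute y s ∧ s * s = 1 ∧ s ≠ 1 := ⟨hys, hss, hs⟩
  have hsub : ({1, s, a s, a (a s)} : Finset G) = Finset.univ.filter fun x => Commute y x ∧ x * x = 1 := by
    refine Finset.eq_of_subset_of_card_le (fun x hx => ?_) ?_
    · simp only [Finset.mem_insert, Finset.mem_singleton] at hx
      simp only [Finset.mem_filter, Finset.mem_univ, true_and]
      rcases hx with rfl | rfl | rfl | rfl
      exacts [⟨Commute.one_right y, mul_one 1⟩, ⟨hys, hss⟩, ⟨(hpres s hS).1, (hpres s hS).2.1⟩,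
        ⟨(hpres _ (hpres s hS)).1, (hpres _ (hpres s hS)).2.1⟩]
    · rw [← Fintype.card_subtype, ← Nat.card_eq_fintype_card, card_invol_cent_three hL hy]
      rw [Finset.card_insert_of_notMem (by
          simp [hs.symm, (hpres s hS).2.2.symm, (hpres _ (hpres s hS)).2.2.symm]),
        Finset.card_insert_of_notMem (by
          simp only [Finset.mem_insert, Finset.mem_singleton, not_or]
          exact ⟨(hmove s hS).symm, (hp2 s hS).symm⟩),
        Finset.card_pair (hmove _ (hpres s hS)).symm]
  have hm : t ∈ ({1, s, a s, a (a s)} : Finset G) := by rw [hsub]; simp [hyt, htt]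
  simp only [Finset.mem_insert, Finset.mem_singleton] at hm
  rcases hm with e | e | e | e
  · exact absurd e ht
  · exact ⟨1, one_mem P, by simp [e]⟩
  · exact ⟨p, hpP, e.symm⟩
  · exact ⟨p * p, mul_mem hpP hpP, by rw [e]; simp only [ha]; group⟩

end CfsgLib.MTwentyTwoUnique
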