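import Cfsg.Agent.Lib.MTwentyTwoUnique.Index
import Cfsg.Agent.Lib.SmallGroups.PermSubdegree
import Mathlib

/-!
The action on 77 points has rank three, with subdegrees 1, 16, 60, and gives a strongly regular graph.
-/

set_option autoImplicit false
set_option linter.style.haveILetI false

noncomputable section

namespace CfsgLib.MTwentyTwoUnique

open Subgroup CfsgLib.InvolChar Cfsg
open scoped ComplexConjugate
attribute [local instance] Classical.propDecidable

variable {G : Type*} [Group G] [Fintype G]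

/-- The stated fixed points and number of suborbits. -/
structure RankData (G : Type*) [Group G] [Fintype G] where
  /-- the subgroup -/
  E : Subgroup G
  /-- the point stabiliser -/
  N : Subgroup G
  card_E : Nat.card E = 16
  le : E ≤ N
  card_N : Nat.card N = 5760
  normal : ∀ n ∈ N, ∀ e ∈ E, n * e * n⁻¹ ∈ E
  card_pts : Nat.card (G ⧸ N) = 77
  fix_invol : ∀ e ∈ E, e ≠ 1 → Nat.card (MulAction.fixedBy (G ⧸ N) e) = 13
  fix_five : ∀ x : G, orderOf x = 5 → Nat.card (MulAction.fixedBy (G ⧸ N) x) = 2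
  rank : Nat.card (MulAction.orbitRel.Quotient N (G ⧸ N)) = 3

variable (hL : Local G)
include hL

theorem five_values (T : Table G) {x : G} (hx : orderOf x = 5) :
    (T.a : G → ℂ) x + (T.c : G → ℂ) x = 1 := by
  haveI : Fact (Nat.Prime 5) := ⟨by norm_num⟩
  obtain ⟨P, hP'⟩ := (IsPGroup.of_card (p := 5) (n := 1) (by rw [Nat.card_zpowers, hx, pow_one]) :
    IsPGroup 5 (zpowers x)).exists_le_sylow
  obtain ⟨hP, hC, he⟩ := sylow_data hL (c := 5) (N := 20) (by norm_num) (by norm_num)
    (fun x hx => ⟨five_centralizer hL hx, hL.five x hx⟩) P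
  obtain ⟨B⟩ := exists_sc P hP hC 4 (by omega)
  obtain ⟨da, -, -, -, dc, -⟩ := T.deg_all
  have ha : (T.a : G → ℂ) x = 0 := by
    refine B.out_zero T.a (fun h => B.not_dvd_of_mem_X h (by rw [da]; norm_num)) (fun h => ?_) x hx
    have h' := B.not_dvd_f (by norm_num)
    rw [← B.deg_Y _ h, da] at h'
    norm_num at h'
  have hc : (T.c : G → ℂ) x = 1 := by
    rcases Finset.mem_union.mp (B.mem_of_not_dvd (show ¬ 5 ∣ deg T.c by rw [dc]; norm_num)) with h | h
    · rw [B.val_X _ h x hx]
      have h1 := B.deg_X _ h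
      rw [dc] at h1
      rcases B.s_sq _ h with e | e <;> rw [e] at h1 ⊢ <;> norm_num at h1 <;> norm_num
    · obtain ⟨η, hη⟩ := Finset.card_eq_one.mp (show B.Y.card = 1 by rw [B.card_Y])
      have hsum := B.sum_Y (by norm_num) hx
      have e : T.c = η := by rwa [hη, Finset.mem_singleton] at h
      rw [hη, Finset.sum_singleton, ← e] at hsum
      have h1 := B.deg_f
      rw [← B.deg_Y _ h, dc] at h1
      rcases B.ε_sq with e | e <;> rw [e] at h1 hsum <;> norm_num at h1 <;> (rw [hsum]; norm_num)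
  rw [ha, hc, zero_add]

/-- The rank data exist. -/
theorem exists_rankData : Nonempty (RankData G) := by
  obtain ⟨E, N, hEc, hEsq, hEN, hNc, hnorm⟩ := exists_index_seventy_seven hL
  obtain ⟨T⟩ := exists_table hL
  obtain ⟨da, db, dθ, dθ', dc, dd, du, du', dg, dh, dk⟩ := T.deg_all
  have hΩ : Nat.card (G ⧸ N) = 77 := by
    have h := N.card_mul_index
    rw [hNc, hL.card] at h
    show N.index = 77
    omega
  haveI : Fintype (G ⧸ N) := Fintype.ofFinite _
  set a₀ : G ⧸ N := ((1 : G) : G ⧸ N) with ha₀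
  obtain ⟨m, d, hm1, hmi, hd, hsum, hsq⟩ :=
    CfsgLib.SmallGroups.PermOrbital.exists_multiplicities (G := G) (Ω := G ⧸ N) a₀
  have hdd : ∀ χ, d χ = deg χ := fun χ => by
    have h := (hd χ).1
    rw [deg_spec] at h
    exact_mod_cast h.symm
  rw [← Nat.card_eq_fintype_card, hΩ, T.sum_all] at hsum
  simp only [hdd, hm1, deg_irrOne, da, db, dθ, dθ', dc, dd, du, du', dg, dh, dk] at hsum
  rw [T.sum_all] at hsq
  simp only [hm1, one_pow] at hsq
  obtain ⟨mb, md, mu, mu', mg, mh, mk⟩ : m T.b = 0 ∧ m T.d = 0 ∧ m T.u = 0 ∧ m T.u' = 0 ∧ m T.g = 0 ∧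
      m T.h = 0 ∧ m T.k = 0 := ⟨by omega, by omega, by omega, by omega, by omega, by omega, by omega⟩
  obtain ⟨ma, mθ, mθ', mc⟩ : m T.a = 1 ∧ m T.θ = 0 ∧ m T.θ' = 0 ∧ m T.c = 1 := by
    have hc : m T.c ≤ 3 := by omega
    have hθ : m T.θ + m T.θ' ≤ 1 := by omega
    have ha : m T.a ≤ 1 := by omega
    interval_cases hA : m T.a <;> interval_cases hC : m T.c <;> omega
  have hfun : ∀ g : G, (Nat.card (MulAction.fixedBy (G ⧸ N) g) : ℂ) = 1 + (T.a : G → ℂ) g + (T.c : G → ℂ) g := by
    intro g
    obtain ⟨m', hm', hmi'⟩ := CfsgLib.Char.char_decomp (CfsgLib.Char.isCharacter_permChar (G := G) (X := G ⧸ N))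
    have hmm : ∀ χ, m' χ = m χ := fun χ => by
      have := (hmi' χ).symm.trans (hmi χ)
      exact_mod_cast this
    have h := congrFun hm' g
    simp only [Finset.sum_apply, Pi.smul_apply, smul_eq_mul, hmm] at h
    rw [h, T.sum_all]
    simp only [hm1, ma, mb, mθ, mθ', mc, md, mu, mu', mg, mh, mk, CfsgLib.Char.irrOne_apply]
    push_cast
    ring
  refine ⟨{ E := E, N := N, card_E := hEc, le := hEN, card_N := hNc, normal := hnorm, card_pts := hΩ
            fix_invol := fun e he he1 => ?_, fix_five := fun x hx => ?_, rank := ?_ }⟩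
  · have V := invol_vals hL T (hEsq e he) he1
    have h := hfun e
    rw [V.va, V.vc] at h
    norm_num [-Nat.card_eq_fintype_card] at h
    exact_mod_cast h
  · have h := hfun x
    rw [add_assoc, five_values hL T hx] at h
    norm_num [-Nat.card_eq_fintype_card] at h
    exact_mod_cast h
  · have hst : MulAction.stabilizer G a₀ = N := MulAction.stabilizer_quotient N
    have e : Nat.card (MulAction.orbitRel.Quotient (MulAction.stabilizer G a₀) (G ⧸ N)) =
        Nat.card (MulAction.orbitRel.Quotient N (G ⧸ N)) := by rw [hst]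
    refine e.symm.trans (hsq.symm.trans ?_)
    simp [ma, mb, mθ, mθ', mc, md, mu, mu', mg, mh, mk]

end CfsgLib.MTwentyTwoUnique
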