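import Cfsg.Agent.Lib.MTwentyTwoUnique.Fitting
import Mathlib

/-!
A self-centralising elementary subgroup of order sixteen.
-/

set_option autoImplicit false
set_option linter.style.haveILetI false

noncomputable section

namespace CfsgLib.MTwentyTwoUnique

open Subgroup CfsgLib.InvolChar Cfsg
attribute [local instance] Classical.propDecidable

variable {G : Type*} [Group G] [Fintype G]

/-- Two elements of order three, their four-groups and the product of these. -/
structure Sixteen (G : Type*) [Group G] where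
  /-- first -/
  y : G
  /-- second -/
  x : G
  /-- an involution centralising the first -/
  t : G
  /-- an involution centralising the second -/
  s : G
  /-- first four-group -/
  V : Subgroup G
  /-- second four-group -/
  W : Subgroup G
  /-- their product -/
  E : Subgroup G
  /-- the subgroup of order nine -/
  P : Subgroup G
  order_y : orderOf y = 3
  order_x : orderOf x = 3
  mem_y : y ∈ P
  mem_x : x ∈ P
  card_P : Nat.card P = 9
  notMem : x ∉ zpowers y
  mem_V : ∀ g, g ∈ V ↔ Commute y g ∧ g * g = 1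
  card_V : Nat.card V = 4
  mem_W : ∀ g, g ∈ W ↔ Commute x g ∧ g * g = 1
  card_W : Nat.card W = 4
  t_mem : t ∈ V
  t_ne : t ≠ 1
  s_mem : s ∈ W
  s_ne : s ≠ 1
  mem_E : ∀ g, g ∈ E ↔ ∃ a ∈ V, ∃ b ∈ W, a * b = g
  card_E : Nat.card E = 16
  commute_VW : ∀ a ∈ V, ∀ b ∈ W, Commute a b
  disj : ∀ g ∈ V, g ∈ W → g = 1
  cent : centralizer (E : Set G) ≤ E

omit [Fintype G] in
/-- A subgroup normalising a four-group and fixing one of its involutions has a large centraliser of it. -/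
theorem card_le_two_mul [Finite G] {V N : Subgroup G} (hV : Nat.card V = 4) (hab : ∀ a ∈ V, ∀ b ∈ V, Commute a b)
    (hsq : ∀ a ∈ V, a * a = 1) {t : G} (ht : t ∈ V) (ht1 : t ≠ 1) (hN : ∀ n ∈ N, ∀ v ∈ V, n * v * n⁻¹ ∈ V)
    (hNt : ∀ n ∈ N, Commute n t) :
    Nat.card N ≤ 2 * Nat.card (N ⊓ centralizer (V : Set G) : Subgroup G) := by
  classical
  haveI : Fintype V := Fintype.ofFinite _
  obtain ⟨u, hu, hu1, hut⟩ : ∃ u ∈ V, u ≠ 1 ∧ u ≠ t := by
    by_contra h
    push Not at h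
    have : (Finset.univ : Finset V) ⊆ {1, ⟨t, ht⟩} := fun v _ => by
      rcases eq_or_ne (v : G) 1 with e | e
      · simp [show v = 1 from Subtype.ext e]
      · simp [show v = ⟨t, ht⟩ from Subtype.ext (h v v.2 e)]
    have h2 := (Finset.card_le_card this).trans Finset.card_le_two
    rw [Finset.card_univ, ← Nat.card_eq_fintype_card, hV] at h2
    omega
  have hall : ∀ v ∈ V, v = 1 ∨ v = t ∨ v = u ∨ v = t * u := by
    have htu1 : t * u ≠ 1 := fun e => hut (by
      calc u = t * t * u := by rw [hsq t ht, one_mul]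
        _ = t := by rw [mul_assoc, e, mul_one])
    have h4 : ({1, ⟨t, ht⟩, ⟨u, hu⟩, ⟨t * u, mul_mem ht hu⟩} : Finset V) = Finset.univ := by
      refine Finset.eq_univ_of_card _ ?_
      rw [← Nat.card_eq_fintype_card, hV,
        Finset.card_insert_of_notMem (by simp [Subtype.ext_iff, Ne.symm ht1, Ne.symm hu1, Ne.symm htu1]),
        Finset.card_insert_of_notMem (by simp [Subtype.ext_iff, Ne.symm hut, hu1]),
        Finset.card_pair (by simp [Subtype.ext_iff, ht1])]
    intro v hv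
    have := Finset.mem_univ (⟨v, hv⟩ : V)
    rw [← h4] at this
    simpa [Subtype.ext_iff] using this
  set R := N ⊓ centralizer (V : Set G) with hR
  have hmove : ∀ n ∈ N, n ∉ R → n * u * n⁻¹ = t * u := by
    intro n hn hnR
    have hnt : n * t * n⁻¹ = t := by rw [(hNt n hn).eq, mul_inv_cancel_right]
    rcases hall _ (hN n hn u hu) with e | e | e | e
    · exact absurd (conj_eq_one_iff.mp e) hu1
    · exact absurd (mul_left_cancel (mul_right_cancel (e.trans hnt.symm))) hut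
    · refine absurd ⟨hn, mem_centralizer_iff.2 fun v hv => ?_⟩ hnR
      have hnu : Commute n u := mul_inv_eq_iff_eq_mul.1 e
      rcases hall v hv with rfl | rfl | rfl | rfl
      exacts [(Commute.one_left n).eq, (hNt n hn).eq.symm, hnu.eq.symm, ((hNt n hn).mul_right hnu).eq.symm]
    · exact e
  have hcos : ∀ n ∈ N, ∀ m ∈ N, n ∉ R → m ∉ R → n⁻¹ * m ∈ R := by
    intro n hn m hm hn' hm'
    refine ⟨N.mul_mem (N.inv_mem hn) hm, mem_centralizer_iff.2 fun v hv => ?_⟩
    have hu' : Commute (n⁻¹ * m) u := by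
      refine mul_inv_eq_iff_eq_mul.1 ?_
      calc n⁻¹ * m * u * (n⁻¹ * m)⁻¹ = n⁻¹ * (m * u * m⁻¹) * n := by group
        _ = n⁻¹ * (n * u * n⁻¹) * n := by rw [hmove m hm hm', hmove n hn hn']
        _ = u := by group
    have ht' : Commute (n⁻¹ * m) t := ((hNt n hn).inv_left).mul_left (hNt m hm)
    rcases hall v hv with rfl | rfl | rfl | rfl
    exacts [(Commute.one_left _).eq, ht'.eq.symm, hu'.eq.symm, (ht'.mul_right hu').eq.symm]
  by_cases hg : ∀ n ∈ N, n ∈ R
  · have := Nat.le_of_dvd Nat.card_pos (card_dvd_of_le (show N ≤ R from hg))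
    omega
  push Not at hg
  obtain ⟨g, hgN, hgR⟩ := hg
  let f : N → R × Bool := fun n =>
    if h : (n : G) ∈ R then (⟨n, h⟩, true) else (⟨g⁻¹ * n, hcos g hgN n n.2 hgR h⟩, false)
  have hf : Function.Injective f := by
    intro a b h
    simp only [f] at h
    split_ifs at h with ha hb hb <;>
      simp only [Prod.mk.injEq, Subtype.mk.injEq, reduceCtorEq, and_false, and_true, mul_right_inj] at h
    all_goals exact Subtype.ext h
  have := Nat.card_le_card_of_injective f hf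
  rw [Nat.card_prod, Nat.card_eq_fintype_card (α := Bool), Fintype.card_bool] at this
  omega

variable (hL : Local G)
include hL

/-- An element of a subgroup of order nine fixing an element outside the four-group has order three. -/
theorem order_three_of_fix {y p r : G} (hy : orderOf y = 3) {P : Subgroup G} (hP : Nat.card P = 9) (hyP : y ∈ P)
    (hp : p ∈ P) (hp1 : p ≠ 1) (hpr : Commute p r) (hr : ¬ Commute y r) : orderOf p = 3 ∧ p ∉ zpowers y := by
  have hout : p ∉ zpowers y := by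
    intro h
    obtain ⟨i, hi⟩ := mem_zpowers_iff.mp h
    have hyp : y ∈ zpowers p := by
      have e : zpowers p = zpowers y := eq_of_le_of_card_ge (zpowers_le.mpr h) (by
        rw [Nat.card_zpowers, Nat.card_zpowers, hy]
        have hd := Subgroup.orderOf_dvd_natCard _ h
        rw [Nat.card_zpowers, hy] at hd
        exact le_of_eq (((Nat.dvd_prime (by norm_num)).1 hd).resolve_left fun e => hp1 (orderOf_eq_one_iff.1 e)).symm)
      rw [e]; exact mem_zpowers y
    obtain ⟨j, hj⟩ := mem_zpowers_iff.mp hyp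
    exact hr (hj ▸ hpr.zpow_left j)
  have hd : orderOf p ∣ 3 ^ 2 := (Subgroup.orderOf_dvd_natCard _ hp).trans (dvd_of_eq hP)
  obtain ⟨i, hi, hpi⟩ := (Nat.dvd_prime_pow (by norm_num : Nat.Prime 3)).1 hd
  interval_cases i
  · exact absurd (orderOf_eq_one_iff.1 hpi) hp1
  · exact ⟨hpi, hout⟩
  · exfalso
    have e : zpowers p = P := eq_of_le_of_card_ge (zpowers_le.mpr hp) (by rw [hP, Nat.card_zpowers, hpi]; rfl)
    obtain ⟨j, hj⟩ := mem_zpowers_iff.mp (e.ge hyP)
    exact hr (hj ▸ hpr.zpow_left j)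

/-- A four-group meeting a subgroup invariant under the subgroup of order nine lies inside it. -/
theorem four_le {z r : G} (hz : orderOf z = 3) {P : Subgroup G} (hP : Nat.card P = 9) (hzP : z ∈ P)
    {K : Subgroup G} (hK : ∀ p ∈ P, ∀ k ∈ K, p * k * p⁻¹ ∈ K) (hzr : Commute z r) (hrr : r * r = 1)
    (hr : r ≠ 1) (hrK : r ∈ K) {v : G} (hv : Commute z v ∧ v * v = 1) : v ∈ K := by
  rcases eq_or_ne v 1 with rfl | hv1
  · exact one_mem K
  obtain ⟨p, hpP, hp⟩ := exists_conj_mem hL hz hP hzP hzr hrr hr hv.1 hv.2 hv1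
  exact hp ▸ hK p hpP r hrK

set_option maxHeartbeats 1000000 in
theorem exists_sixteen : Nonempty (Sixteen G) := by
  haveI : Fact (Nat.Prime 2) := ⟨Nat.prime_two⟩
  haveI : Fact (Nat.Prime 3) := ⟨by norm_num⟩
  obtain ⟨y, hy⟩ := exists_prime_orderOf_dvd_card' (G := G) 3 (by rw [hL.card]; norm_num)
  obtain ⟨P', hP'⟩ := (IsPGroup.of_card (p := 3) (n := 1) (by rw [Nat.card_zpowers, hy, pow_one]) :
    IsPGroup 3 (zpowers y)).exists_le_sylow
  set P : Subgroup G := (P' : Subgroup G) with hPdef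
  have hP : Nat.card P = 9 :=
    CfsgLib.SmallGroups.card_sylow_eq (show Nat.card G = 3 ^ 2 * 49280 by rw [hL.card]; norm_num) (by norm_num) P'
  have hyP : y ∈ P := hP' (mem_zpowers y)
  haveI : IsMulCommutative P := IsPGroup.isMulCommutative_of_card_eq_prime_sq (p := 3) (by rw [hP]; rfl)
  have hPc : ∀ p ∈ P, ∀ q ∈ P, Commute p q := fun p hp q hq => congrArg Subtype.val
    ((IsMulCommutative.is_comm (M := P)).comm ⟨p, hp⟩ ⟨q, hq⟩)
  obtain ⟨V, hV, hVc⟩ := exists_four hL hy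
  have hVab : ∀ a ∈ V, ∀ b ∈ V, Commute a b := fun a ha b hb =>
    commute_invol_cent_three hL hy ((hV a).1 ha).1 ((hV a).1 ha).2 ((hV b).1 hb).1 ((hV b).1 hb).2
  have hVsq : ∀ a ∈ V, a * a = 1 := fun a ha => ((hV a).1 ha).2
  haveI : Nontrivial V := Finite.one_lt_card_iff_nontrivial.1 (by rw [hVc]; norm_num)
  obtain ⟨⟨t, ht⟩, ht1⟩ := exists_ne (1 : V)
  have ht1 : t ≠ 1 := fun e => ht1 (Subtype.ext e)
  -- elements centralising `y` fix the four-group
  have hPV : ∀ p ∈ P, ∀ v ∈ V, p * v * p⁻¹ ∈ V := fun p hp v hv => by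
    refine (hV _).2 ⟨?_, by rw [show p * v * p⁻¹ * (p * v * p⁻¹) = p * (v * v) * p⁻¹ by group, hVsq v hv, mul_one,
      mul_inv_cancel]⟩
    have h := ((hV v).1 hv).1.map (MulAut.conj p)
    have e : p * y * p⁻¹ = y := by rw [(hPc p hp y hyP).eq, mul_inv_cancel_right]
    exact e ▸ h
  have hyV : ∀ v ∈ V, y * v * y⁻¹ ∈ V := fun v hv => hPV y hyP v hv
  obtain ⟨F, hFC, hFc, hyF, hmax⟩ := exists_fitting hL hy ((hV t).1 ht).1 (hVsq t ht) ht1
  have hVF : V ≤ F := hmax V (fun v hv => mem_centralizer_singleton_iff.mpr (hVab v hv t ht).eq)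
    (by rw [hVc]; norm_num) hyV
  -- the centraliser of the four-group in the Fitting subgroup
  set R : Subgroup G := F ⊓ centralizer (V : Set G) with hRdef
  have hVR : V ≤ R := fun v hv => ⟨hVF hv, mem_centralizer_iff.2 fun w hw => (hVab w hw v hv).eq⟩
  have hR128 : Nat.card R ∣ 128 := (card_dvd_of_le inf_le_left).trans (by rw [hFc]; norm_num)
  have hyC : ∀ g ∈ centralizer (V : Set G), ∀ p ∈ P, p * g * p⁻¹ ∈ centralizer (V : Set G) := fun g hg p hp =>
    mem_centralizer_iff.2 fun v hv => by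
      have h1 : p⁻¹ * v * p⁻¹⁻¹ ∈ V := hPV p⁻¹ (inv_mem hp) v hv
      rw [inv_inv] at h1
      calc v * (p * g * p⁻¹) = p * ((p⁻¹ * v * p) * g) * p⁻¹ := by group
        _ = p * (g * (p⁻¹ * v * p)) * p⁻¹ := by rw [mem_centralizer_iff.1 hg _ h1]
        _ = p * g * p⁻¹ * v := by group
  have hyR : ∀ r ∈ R, y * r * y⁻¹ ∈ R := fun r hr => ⟨hyF r hr.1, hyC r hr.2 y hyP⟩
  have hPR : ∀ p ∈ P, ∀ r ∈ R, p * r * p⁻¹ ∈ R := by
    intro p hp r hr
    refine ⟨?_, hyC r hr.2 p hp⟩
    set K := R.map (MulAut.conj p).toMonoidHom with hK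
    refine hmax K ?_ ?_ ?_ ⟨r, hr, rfl⟩
    · rintro _ ⟨k, hk, rfl⟩
      exact mem_centralizer_singleton_iff.mpr ((mem_centralizer_iff.1 (hyC k hk.2 p hp) t ht).symm)
    · exact (dvd_of_eq (card_map_of_injective (f := (MulAut.conj p).toMonoidHom) (MulAut.conj p).injective)).trans hR128
    · rintro _ ⟨k, hk, rfl⟩
      refine ⟨y * k * y⁻¹, hyR k hk, ?_⟩
      show p * (y * k * y⁻¹) * p⁻¹ = y * (p * k * p⁻¹) * y⁻¹
      calc p * (y * k * y⁻¹) * p⁻¹ = p * y * k * (p * y)⁻¹ := by group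
        _ = y * p * k * (y * p)⁻¹ := by rw [(hPc p hp y hyP).eq]
        _ = _ := by group
  have hRbig : Nat.card R = 16 ∨ Nat.card R = 64 := by
    have hd : Nat.card R ∣ 64 := hFc ▸ card_dvd_of_le inf_le_left
    have h4 : 4 ∣ Nat.card R := hVc ▸ card_dvd_of_le hVR
    have hmod := card_mod_three hL hy hV hVc hR128 hyR hVR
    have key : ∀ k ∈ Nat.divisors 64, 4 ∣ k → k % 3 = 1 → k = 4 ∨ k = 16 ∨ k = 64 := by decide +kernel
    refine (key _ (Nat.mem_divisors.2 ⟨hd, by norm_num⟩) h4 hmod).resolve_left fun h => ?_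
    set N : Subgroup G := F ⊓ normalizer (V : Set G) with hNdef
    have hVN : V ≤ N := le_inf hVF le_normalizer
    obtain ⟨g, hgF, hgV, hgN⟩ := exists_normalizing (p := 2) (k := 6) (by rw [hFc]; rfl) hVF
      (fun e => by rw [e, hFc] at hVc; norm_num at hVc)
    have hyN : ∀ n ∈ N, y * n * y⁻¹ ∈ N := fun n hn => by
      refine ⟨hyF n hn.1, ?_⟩
      have hyn : y ∈ normalizer (V : Set G) := Subgroup.mem_normalizer_iff.2 fun v => ⟨hyV v, fun h => by
        have := hPV y⁻¹ (inv_mem hyP) _ h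
        rwa [show y⁻¹ * (y * v * y⁻¹) * y⁻¹⁻¹ = v by group] at this⟩
      exact Subgroup.mul_mem _ (Subgroup.mul_mem _ hyn hn.2) (Subgroup.inv_mem _ hyn)
    have hNd : Nat.card N ∣ 64 := hFc ▸ card_dvd_of_le inf_le_left
    have hN4 : 4 ∣ Nat.card N := hVc ▸ card_dvd_of_le hVN
    have hNmod := card_mod_three hL hy hV hVc (hNd.trans (by norm_num)) hyN hVN
    have hNne : Nat.card N ≠ 4 := fun e => hgV (by
      have : V = N := eq_of_le_of_card_ge hVN (by rw [e, hVc])
      rw [this]; exact ⟨hgF, hgN⟩)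
    have hle := card_le_two_mul hVc hVab hVsq ht ht1 (N := N)
      (fun n hn v hv => (Subgroup.mem_normalizer_iff.1 hn.2 v).1 hv)
      (fun n hn => mem_centralizer_singleton_iff.mp (hFC hn.1))
    have hsub := Nat.le_of_dvd Nat.card_pos (card_dvd_of_le (show N ⊓ centralizer (V : Set G) ≤ R from
      fun g hg => ⟨hg.1.1, hg.2⟩))
    rcases key _ (Nat.mem_divisors.2 ⟨hNd, by norm_num⟩) hN4 hNmod with e | e | e <;> omega
  -- a second element of order three
  obtain ⟨x, hxP, hx, hxy, r, hrR, hrV, hxr⟩ : ∃ x ∈ P, orderOf x = 3 ∧ x ∉ zpowers y ∧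
      ∃ r ∈ R, r ∉ V ∧ Commute x r := by
    by_contra hcon
    have h9 := nine_dvd_of_free hP ((R : Set G) \ V) (fun p hp r hr => ⟨hPR p hp r hr.1, fun h => hr.2 (by
      have := hPV p⁻¹ (inv_mem hp) _ h
      rwa [show p⁻¹ * (p * r * p⁻¹) * p⁻¹⁻¹ = r by group] at this)⟩) fun p hp hp1 r hr hc => by
      have hyr : ¬ Commute y r := fun h => hr.2 ((hV r).2 ⟨h, sq_one_of_two_elem hL hy h (two_elem_pow hL hR128 hr.1)⟩)
      obtain ⟨h1, h2⟩ := order_three_of_fix hL hy hP hyP hp hp1 hc hyr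
      exact hcon ⟨p, hp, h1, h2, r, hr.1, hr.2, hc⟩
    have hc2 : Nat.card ((R : Set G) \ (V : Set G) : Set G) = Nat.card R - 4 := by
      rw [← hVc, Nat.card_coe_set_eq, Set.ncard_diff hVR, ← Nat.card_coe_set_eq, ← Nat.card_coe_set_eq]
      rfl
    rcases hRbig with h | h <;> rw [hc2, h] at h9 <;> norm_num at h9
  have hrr : r * r = 1 := sq_one_of_two_elem hL hx hxr (two_elem_pow hL hR128 hrR)
  have hr1 : r ≠ 1 := fun e => hrV (e ▸ one_mem V)
  obtain ⟨W, hW, hWc⟩ := exists_four hL hx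
  have hWR : W ≤ R := fun w hw => four_le hL hx hP hxP hPR hxr hrr hr1 hrR ((hW w).1 hw)
  have hVW : ∀ a ∈ V, ∀ b ∈ W, Commute a b := fun a ha b hb => mem_centralizer_iff.1 (hWR hb).2 a ha
  have hdisj : ∀ g ∈ V, g ∈ W → g = 1 := fun g hgV hgW => by
    by_contra hg1
    exact hxy (mem_zpowers_of_fix hL hy hP hyP hxP ((hV g).1 hgV).1 (hVsq g hgV) hg1 ((hW g).1 hgW).1)
  obtain ⟨E, hE, hVE, hWE, hEc⟩ := exists_join V W hVW hdisj
  rw [hVc, hWc] at hEc
  have hWab : ∀ a ∈ W, ∀ b ∈ W, Commute a b := fun a ha b hb =>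
    commute_invol_cent_three hL hx ((hW a).1 ha).1 ((hW a).1 ha).2 ((hW b).1 hb).1 ((hW b).1 hb).2
  have hEab : ∀ a ∈ E, ∀ b ∈ E, Commute a b := fun a ha b hb => by
    obtain ⟨v, hv, w, hw, rfl⟩ := (hE a).1 ha
    obtain ⟨v', hv', w', hw', rfl⟩ := (hE b).1 hb
    exact ((hVab v hv v' hv').mul_right (hVW v hv w' hw')).mul_left
      ((hVW v' hv' w hw).symm.mul_right (hWab w hw w' hw'))
  have hEsq : ∀ a ∈ E, a * a = 1 := fun a ha => by
    obtain ⟨v, hv, w, hw, rfl⟩ := (hE a).1 ha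
    rw [(hVW v hv w hw).symm.mul_mul_mul_comm, hVsq v hv, ((hW w).1 hw).2, mul_one]
  have hPE : ∀ p ∈ P, ∀ e ∈ E, p * e * p⁻¹ ∈ E := fun p hp e he => by
    obtain ⟨v, hv, w, hw, rfl⟩ := (hE e).1 he
    refine (hE _).2 ⟨p * v * p⁻¹, hPV p hp v hv, p * w * p⁻¹, (hW _).2 ⟨?_, ?_⟩, by group⟩
    · have h := ((hW w).1 hw).1.map (MulAut.conj p)
      have e : p * x * p⁻¹ = x := by rw [(hPc p hp x hxP).eq, mul_inv_cancel_right]
      exact e ▸ h
    · rw [show p * w * p⁻¹ * (p * w * p⁻¹) = p * (w * w) * p⁻¹ by group, ((hW w).1 hw).2, mul_one, mul_inv_cancel]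
  -- its centraliser
  set K := centralizer (E : Set G) with hKdef
  have hEK : E ≤ K := fun e he => mem_centralizer_iff.2 fun a ha => (hEab a ha e he).eq
  have hKC : K ≤ centralizer ({t} : Set G) := fun k hk =>
    mem_centralizer_singleton_iff.mpr ((mem_centralizer_iff.1 hk t (hVE ht)).symm)
  have hPK : ∀ p ∈ P, ∀ k ∈ K, p * k * p⁻¹ ∈ K := fun p hp k hk => mem_centralizer_iff.2 fun e he => by
    have h1 := hPE p⁻¹ (inv_mem hp) e he
    rw [inv_inv] at h1
    calc e * (p * k * p⁻¹) = p * ((p⁻¹ * e * p) * k) * p⁻¹ := by group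
      _ = p * (k * (p⁻¹ * e * p)) * p⁻¹ := by rw [mem_centralizer_iff.1 hk _ h1]
      _ = p * k * p⁻¹ * e := by group
  have hK3 : ¬ 3 ∣ Nat.card K := fun h => by
    obtain ⟨b, hb⟩ := exists_prime_orderOf_dvd_card' (G := K) 3 h
    obtain ⟨B, hB, hBc⟩ := exists_four hL (y := (b : G)) (by rw [Subgroup.orderOf_coe, hb])
    have := Nat.le_of_dvd Nat.card_pos (card_dvd_of_le (show E ≤ B from fun e he =>
      (hB e).2 ⟨(mem_centralizer_iff.1 b.2 e he).symm, hEsq e he⟩))
    omega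
  have hK128 : Nat.card K ∣ 128 := by
    have h : Nat.card K ∣ 128 * 3 := by
      have := card_dvd_of_le hKC
      rwa [card_cent_invol hL (hVsq t ht) ht1] at this
    exact ((Nat.Prime.coprime_iff_not_dvd (by norm_num)).2 hK3).symm.dvd_of_dvd_mul_right h
  have hKF : K ≤ F := hmax K hKC hK128 fun k hk => hPK y hyP k hk
  have hK64 : Nat.card K = 16 ∨ Nat.card K = 64 := by
    have hd : Nat.card K ∣ 64 := hFc ▸ card_dvd_of_le hKF
    have h16 : 16 ∣ Nat.card K := by
      have := card_dvd_of_le hEK; rwa [hEc] at this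
    have hmod := card_mod_three hL hy hV hVc hK128 (fun k hk => hPK y hyP k hk) (hVE.trans hEK)
    have key : ∀ k ∈ Nat.divisors 64, 16 ∣ k → k % 3 = 1 → k = 16 ∨ k = 64 := by decide +kernel
    exact key _ (Nat.mem_divisors.2 ⟨hd, by norm_num⟩) h16 hmod
  refine ⟨{
    y := y, x := x, t := t, s := r, V := V, W := W, E := E, P := P
    order_y := hy, order_x := hx, mem_y := hyP, mem_x := hxP, card_P := hP, notMem := hxy
    mem_V := hV, card_V := hVc, mem_W := hW, card_W := hWc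
    t_mem := ht, t_ne := ht1, s_mem := (hW r).2 ⟨hxr, hrr⟩, s_ne := hr1
    mem_E := hE, card_E := hEc, commute_VW := hVW, disj := hdisj
    cent := ?_ }⟩
  rcases hK64 with h16 | h64
  · exact (eq_of_le_of_card_ge hEK (by rw [h16, hEc])).ge
  exfalso
  -- a third four-group
  obtain ⟨z, hzP, hz, w, hwK, hwE, hzw⟩ : ∃ z ∈ P, orderOf z = 3 ∧ ∃ w ∈ K, w ∉ E ∧ Commute z w := by
    by_contra hcon
    have h9 := nine_dvd_of_free hP ((K : Set G) \ E) (fun p hp k hk => ⟨hPK p hp k hk.1, fun h => hk.2 (by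
      have := hPE p⁻¹ (inv_mem hp) _ h
      rwa [show p⁻¹ * (p * k * p⁻¹) * p⁻¹⁻¹ = k by group] at this)⟩) fun p hp hp1 k hk hc => by
      have hyk : ¬ Commute y k := fun h => hk.2 (hVE ((hV k).2 ⟨h, sq_one_of_two_elem hL hy h (two_elem_pow hL hK128 hk.1)⟩))
      exact hcon ⟨p, hp, (order_three_of_fix hL hy hP hyP hp hp1 hc hyk).1, k, hk.1, hk.2, hc⟩
    have hc2 : Nat.card ((K : Set G) \ (E : Set G) : Set G) = 48 := by
      rw [Nat.card_coe_set_eq, Set.ncard_diff hEK, ← Nat.card_coe_set_eq, ← Nat.card_coe_set_eq]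
      show Nat.card K - Nat.card E = 48
      rw [h64, hEc]
    rw [hc2] at h9
    norm_num at h9
  have hww : w * w = 1 := sq_one_of_two_elem hL hz hzw (two_elem_pow hL hK128 hwK)
  have hw1 : w ≠ 1 := fun e => hwE (e ▸ one_mem E)
  obtain ⟨Z, hZ, hZc⟩ := exists_four hL hz
  have hZK : Z ≤ K := fun v hv => four_le hL hz hP hzP hPK hzw hww hw1 hwK ((hZ v).1 hv)
  have hEZ : ∀ g ∈ E, g ∈ Z → g = 1 := fun g hgE hgZ => by
    by_contra hg1
    exact hwE (four_le hL hz hP hzP hPE ((hZ g).1 hgZ).1 ((hZ g).1 hgZ).2 hg1 hgE ⟨hzw, hww⟩)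
  obtain ⟨A, hA, -, -, hAc⟩ := exists_join E Z (fun a ha b hb => mem_centralizer_iff.1 (hZK hb) a ha) hEZ
  rw [hEc, hZc] at hAc
  obtain ⟨T⟩ := exists_table hL
  obtain ⟨m, hm⟩ := CfsgLib.Char.classInner_gen_int
    (CfsgLib.Char.isGen_res A (CfsgLib.Char.isGen_of_irr T.a.2))
    (CfsgLib.Char.isGen_of_irr (CfsgLib.Char.isIrrCharacter_one (G := A)))
  rw [CfsgLib.Char.classInner_def, hAc] at hm
  simp only [map_one, mul_one] at hm
  rw [← Finset.add_sum_erase _ _ (Finset.mem_univ (1 : A))] at hm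
  have h7 : ∀ a ∈ (Finset.univ : Finset A).erase 1, (T.a : G → ℂ) (a : G) = 7 := fun a ha => by
    have ha1 : (a : G) ≠ 1 := fun e => Finset.ne_of_mem_erase ha (Subtype.ext e)
    obtain ⟨e, he, v, hv, hev⟩ := (hA a).1 a.2
    have hc : Commute e v := mem_centralizer_iff.1 (hZK hv) e he
    refine (invol_vals hL T ?_ ha1).va
    rw [← hev, hc.symm.mul_mul_mul_comm, hEsq e he, ((hZ v).1 hv).2, mul_one]
  rw [Finset.sum_congr rfl h7, Finset.sum_const, Finset.card_erase_of_mem (Finset.mem_univ _), Finset.card_univ,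
    ← Nat.card_eq_fintype_card, hAc, OneMemClass.coe_one, deg_spec, T.deg_all.1] at hm
  norm_num at hm
  have : ((496 : ℤ) : ℂ) = ((64 * m : ℤ) : ℂ) := by push_cast; linear_combination 64 * hm
  have h496 : (496 : ℤ) = 64 * m := by exact_mod_cast this
  omega

end CfsgLib.MTwentyTwoUnique
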